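import Mathlib
import Cfsg.Agent.H87.Essential
import Cfsg.Agent.H87.OrderPSquare

/-!
Abelian essential subgroups of rank at most two.
-/
set_option autoImplicit false

namespace H87

open Cfsg Cfsg.FusionSystem
open scoped IsMulCommutative MatrixGroups

variable {Ω : Type*} [Group Ω] {S : Subgroup Ω} [Finite S] {p : ℕ} [Fact p.Prime]
  {F : FusionSystem S} {E : Subgroup Ω}

/-- An abelian essential subgroup of rank at most two is elementary of order `p²` or, for `p ≤ 3`,
homocyclic. -/
theorem essential_abelian_rank_two (hS : IsPGroup p S) (hE : F.IsEssential p E)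
    (hab : IsMulCommutative E) (hrk : (frattini E).index ≤ p ^ 2) :
    (IsElementaryAbelian p E ∧ Nat.card E = p ^ 2) ∨
      (p ≤ 3 ∧ ∃ k : ℕ, Nonempty (E ≃* Multiplicative (ZMod (p ^ k) × ZMod (p ^ k)))) := by
  haveI := essential_finite hE
  haveI := hab
  have hEp := essential_isPGroup hS hE
  have hA := essential_not_derivedFixes hE
  have hK : Nat.card (omegaP p E) ≤ p ^ 2 := card_omegaP_le_index_frattini.trans hrk
  by_cases hexp : ∀ x : E, x ^ p = 1
  · refine Or.inl ⟨⟨hab, fun x hx => congrArg Subtype.val (hexp ⟨x, hx⟩)⟩, ?_⟩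
    have htop : omegaP p E = ⊤ := eq_top_iff.2 fun x _ => hexp x
    have := card_omegaP_eq hEp hA hK
    rwa [htop, Subgroup.card_top] at this
  · refine Or.inr ⟨?_, ?_⟩
    · by_contra hp
      have hp5 : 5 ≤ p := by
        by_contra h
        obtain rfl : p = 4 := by omega
        exact absurd (Fact.out : (4 : ℕ).Prime) (by norm_num)
      obtain ⟨α, hα⟩ := exists_prime_orderOf_dvd_card' p (essential_dvd_card hE)
      have hαp : (α : MulAut E) ^ p = 1 := by
        rw [← Subgroup.coe_pow, ← hα, pow_orderOf_eq_one, Subgroup.coe_one]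
      refine hexp (le_three_of_exponent hEp hA hK hp5 hαp ?_)
      by_contra hcon
      push Not at hcon
      -- the automorphisms fixing `Ω₁` form a `p`-group normal in `Aut_F(E)`
      let B : Subgroup (MulAut E) :=
        { carrier := {β | ∀ r ∈ omegaP p E, β r = r}
          one_mem' := fun r _ => rfl
          mul_mem' := fun {β γ} hβ hγ r hr => by rw [MulAut.mul_apply, hγ r hr, hβ r hr]
          inv_mem' := fun {β} hβ r hr => by
            conv_lhs => rw [← hβ r hr]
            exact MulAut.inv_apply_self E β r }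
      have h1 := inn_eq_one_of_comm hab (essential_mem_inn hE B
        ((isPGroup_of_fixes_omegaP hEp B (fun β hβ => hβ)).to_le inf_le_left)
        (fun γ _ β hβ _ r hr => by
          show γ (β (γ⁻¹ r)) = r
          rw [hβ _ (omegaP_inv γ⁻¹ hr)]
          exact MulAut.apply_inv_self E γ r) hcon α.2)
      rw [OneMemClass.coe_eq_one] at h1
      rw [h1, orderOf_one] at hα
      exact (Fact.out : p.Prime).one_lt.ne hα
    · exact nonempty_equiv_homocyclic hEp hA hK

/-- An essential subgroup of order `p²` is elementary abelian and its automorphism group contains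
`SL₂(p)`. -/
theorem essential_card_sq (hS : IsPGroup p S) (hE : F.IsEssential p E)
    (hcard : Nat.card E = p ^ 2) :
    IsElementaryAbelian p E ∧ ∃ K : Subgroup (F.autGroup E), Nonempty (K ≃* SL(2, ZMod p)) := by
  haveI := essential_finite hE
  haveI hab : IsMulCommutative E := IsPGroup.isMulCommutative_of_card_eq_prime_sq hcard
  have hexp : ∀ x : E, x ^ p = 1 := by
    intro x
    have hd := orderOf_dvd_natCard x
    rw [hcard] at hd
    obtain ⟨k, hk, hk'⟩ := (Nat.dvd_prime_pow Fact.out).1 hd
    rcases Nat.lt_or_ge k 2 with h | h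
    · exact orderOf_dvd_iff_pow_eq_one.1 (hk' ▸ (pow_dvd_pow p (show k ≤ 1 by omega)).trans (by rw [pow_one]))
    · exfalso
      refine essential_not_cyclic hS hE (isCyclic_of_orderOf_eq_card x ?_)
      rw [hk', hcard, show k = 2 by omega]
  exact ⟨⟨hab, fun x hx => congrArg Subtype.val (hexp ⟨x, hx⟩)⟩,
    exists_sl2 hexp hcard (F.autGroup E) (essential_not_derivedFixes hE) (essential_dvd_card hE)⟩

end H87
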