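import Cfsg.Agent.H85.CentricGroup
import Cfsg.Agent.H85.Systems
import Cfsg.Agent.H86.Sylow

/-!
The model of the normalizer system of a fully normalized centric subgroup of a group fusion
system: the normalizer modulo the `p'`-core of the centralizer.
-/
set_option autoImplicit false

namespace H87

open Cfsg Cfsg.FusionSystem

variable {G : Type*} [Group G] [Finite G] {p : ℕ} [Fact p.Prime]

/-- For a fully normalized centric `R` in `F_P(G)` there is a normal `p'`-subgroup `O` of `N_G(R)`
centralizing `R` such that `N_G(R)/O` is a model of the normalizer system. -/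
theorem exists_groupModel (P : Sylow p G) {R : Subgroup G}
    (hn : (groupFusionSystem (P : Subgroup G)).IsFullyNormalized R)
    (hc : (groupFusionSystem (P : Subgroup G)).IsCentric R)
    {N : FusionSystem (normalizerIn (P : Subgroup G) R)}
    (hN : (groupFusionSystem (P : Subgroup G)).IsNormalizerSystem R N) :
    ∃ (O : Subgroup (Subgroup.normalizer (R : Set G))) (_ : O.Normal),
      (Nat.card O).Coprime p ∧ (∀ o ∈ O, (o : G) ∈ Subgroup.centralizer (R : Set G)) ∧
      N.IsModel p (Subgroup.normalizer (R : Set G) ⧸ O)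
        ((QuotientGroup.mk' O).comp (Subgroup.inclusion inf_le_right)) := by
  classical
  have hRP : R ≤ (P : Subgroup G) := hc.1
  set NR := Subgroup.normalizer (R : Set G) with hNR
  set C : Subgroup NR := (Subgroup.centralizer (R : Set G)).subgroupOf NR with hCdef
  haveI hCn : C.Normal := by
    refine ⟨fun c hc' g => ?_⟩
    show ((g * c * g⁻¹ : NR) : G) ∈ Subgroup.centralizer (R : Set G)
    refine Subgroup.mem_centralizer_iff.2 fun r hr => ?_
    have h1 : (g : G)⁻¹ * r * g ∈ R := (Subgroup.mem_normalizer_iff''.1 g.2 r).1 hr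
    have h2 := Subgroup.mem_centralizer_iff.1 (show (c : G) ∈ Subgroup.centralizer (R : Set G) from hc')
      _ h1
    simp only [Subgroup.coe_mul, Subgroup.coe_inv]
    calc r * ((g : G) * c * (g : G)⁻¹) = (g : G) * (((g : G)⁻¹ * r * g) * c) * (g : G)⁻¹ := by group
      _ = (g : G) * (c * ((g : G)⁻¹ * r * g)) * (g : G)⁻¹ := by rw [h2]
      _ = (g : G) * c * (g : G)⁻¹ * r := by group
  set O : Subgroup NR := (Cfsg.pPrimeCore p C).map C.subtype with hOdef
  haveI := H1.pPrimeCore_characteristic p C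
  haveI hOn : O.Normal := H1.map_subtype_normal_of_characteristic C _
  have hOcard : (Nat.card O).Coprime p := by
    rw [hOdef, Subgroup.card_map_of_injective Subtype.coe_injective]
    exact H1.card_pPrimeCore_coprime p C
  have hOC : ∀ o ∈ O, (o : G) ∈ Subgroup.centralizer (R : Set G) := by
    rintro _ ⟨c, -, rfl⟩
    exact c.2
  -- the `p'`-core of the centralizer, inside `G`
  have hCR : ∀ x ∈ Subgroup.centralizer (R : Set G),
      ∃ r ∈ R, ∃ o ∈ O, x = r * (o : G) := by
    intro x hx
    obtain ⟨-, -, hcomm, -, hsup⟩ := (H85.isCentric_iff_directProduct P hRP).1 hc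
    have hle : Subgroup.centralizer (R : Set G) ≤ NR := Subgroup.centralizer_le_normalizer _
    let e : C ≃* Subgroup.centralizer (R : Set G) := Subgroup.subgroupOfEquivOfLe hle
    have hO' : (Cfsg.pPrimeCore p ↥(Subgroup.centralizer (R : Set G))).map
        (Subgroup.centralizer (R : Set G)).subtype = O.map NR.subtype := by
      rw [← H1.map_pPrimeCore_equiv p e, Subgroup.map_map, hOdef, Subgroup.map_map]
      rfl
    rw [hO'] at hsup hcomm
    rw [← hsup] at hx
    have hnorm : O.map NR.subtype ≤ Subgroup.normalizer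
        ((R ⊓ Subgroup.centralizer (R : Set G) : Subgroup G) : Set G) := by
      intro a ha
      refine H85.mem_normalizer_of_conj fun b hb => ?_
      rw [← hcomm b hb a ha, mul_inv_cancel_right]
      exact hb
    rw [← SetLike.mem_coe, Subgroup.coe_mul_of_right_le_normalizer_left _ _ hnorm] at hx
    obtain ⟨r, hr, _, ⟨o, ho, rfl⟩, rfl⟩ := hx
    exact ⟨r, hr.1, o, ho, rfl⟩
  -- a `p`-subgroup meets `O` trivially
  have hdisj : ∀ x : NR, (∃ k : ℕ, x ^ p ^ k = 1) → x ∈ O → x = 1 := by
    rintro x ⟨k, hk⟩ hx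
    have h1 : orderOf x ∣ Nat.card O := by
      rw [← Subgroup.orderOf_mk x hx]; exact orderOf_dvd_natCard _
    exact orderOf_eq_one_iff.1 (Nat.eq_one_of_dvd_coprimes (hOcard.pow_right k) h1
      (orderOf_dvd_of_pow_eq_one hk))
  have hpow : ∀ x : NR, (x : G) ∈ (P : Subgroup G) → ∃ k : ℕ, x ^ p ^ k = 1 := by
    intro x hx
    obtain ⟨k, hk⟩ := P.2 ⟨x, hx⟩
    exact ⟨k, Subtype.ext (by simpa using congrArg Subtype.val hk)⟩
  set ι : ↥(normalizerIn (P : Subgroup G) R) →* NR ⧸ O :=
    (QuotientGroup.mk' O).comp (Subgroup.inclusion inf_le_right) with hι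
  have hinj : Function.Injective ι := by
    refine (injective_iff_map_eq_one ι).2 fun x hx => ?_
    rw [hι, MonoidHom.comp_apply, QuotientGroup.mk'_apply, QuotientGroup.eq_one_iff] at hx
    have h := congrArg Subtype.val (hdisj _ (hpow _ x.2.1) hx)
    exact Subtype.ext h
  have hRN : R ≤ normalizerIn (P : Subgroup G) R := H85.le_normalizerIn hRP
  have hreal := H85.realized_groupFusionSystem (P : Subgroup G)
  refine ⟨O, hOn, hOcard, hOC, inferInstance, ⟨hinj, ?_⟩, ?_, ?_⟩
  · intro Q hQ φ hφ
    rw [hN]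
    constructor
    · intro hmem
      obtain ⟨-, -, -, ψ, hψ, hext, himg⟩ := H85.mem_normalizerHom.1 hmem
      obtain ⟨g, hg⟩ := H85.exists_conj_of_hom hreal hψ
      have hg' : ∀ z : ↥(Q ⊔ R), ψ z = g * (z : G) * g⁻¹ := hg
      have hgN : g ∈ NR := by
        refine H85.mem_normalizer_of_conj fun r hr => ?_
        exact himg.le (H85.mem_img.2 ⟨⟨r, le_sup_right (a := Q) hr⟩, hr, hg' _⟩)
      refine ⟨QuotientGroup.mk' O ⟨g, hgN⟩, fun x => ?_⟩
      show QuotientGroup.mk' O _ = _ * QuotientGroup.mk' O _ * _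
      rw [← map_inv, ← map_mul, ← map_mul]
      refine congrArg _ (Subtype.ext ?_)
      exact (hext x).symm.trans (hg' _)
    · rintro ⟨gq, hgq⟩
      obtain ⟨g, rfl⟩ := QuotientGroup.mk'_surjective O gq
      set D : Subgroup G := φ.range ⊔ R with hD
      have hDN : D ≤ normalizerIn (P : Subgroup G) R := sup_le (by rintro _ ⟨x, rfl⟩; exact hφ x) hRN
      have hDNR : D ≤ NR := hDN.trans inf_le_right
      set K : Subgroup NR := D.subgroupOf NR ⊔ O with hK
      have hDp : IsPGroup p (D.subgroupOf NR) :=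
        (P.2.to_le (hDN.trans inf_le_left)).comap_subtype
      obtain ⟨B⟩ : Nonempty (Sylow p K) := inferInstance
      have hQR : (Q ⊔ R).map (MulAut.conj (g : G)).toMonoidHom ≤ NR := by
        rintro _ ⟨z, hz, rfl⟩
        exact NR.mul_mem (NR.mul_mem g.2 ((sup_le (hQ.trans inf_le_right) Subgroup.le_normalizer) hz))
          (NR.inv_mem g.2)
      set X : Subgroup NR := ((Q ⊔ R).map (MulAut.conj (g : G)).toMonoidHom).subgroupOf NR with hX
      have hXp : IsPGroup p X :=
        ((P.2.to_le (sup_le (hQ.trans inf_le_left) hRP)).map _).comap_subtype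
      have hXK : X ≤ K := by
        have hle : (Q ⊔ R).map (MulAut.conj (g : G)).toMonoidHom ≤ K.map NR.subtype := by
          rw [Subgroup.map_sup]
          refine sup_le ?_ ?_
          · rintro _ ⟨x, hx, rfl⟩
            have h1 := hgq ⟨x, hx⟩
            change QuotientGroup.mk' O _ = _ * QuotientGroup.mk' O _ * _ at h1
            rw [← map_inv, ← map_mul, ← map_mul, QuotientGroup.mk'_apply, QuotientGroup.mk'_apply,
              QuotientGroup.eq] at h1
            refine ⟨g * ⟨x, (hQ hx).2⟩ * g⁻¹, ?_, rfl⟩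
            have h2 : (⟨φ ⟨x, hx⟩, (hφ _).2⟩ : NR) ∈ D.subgroupOf NR :=
              Subgroup.mem_subgroupOf.2 (Subgroup.mem_sup_left ⟨_, rfl⟩)
            have := K.mul_mem (Subgroup.mem_sup_left h2) (Subgroup.mem_sup_right h1)
            simpa [Subgroup.inclusion, mul_assoc] using this
          · rintro _ ⟨r, hr, rfl⟩
            refine ⟨⟨(g : G) * r * (g : G)⁻¹, ?_⟩, Subgroup.mem_sup_left ?_, rfl⟩
            · exact NR.mul_mem (NR.mul_mem g.2 (Subgroup.le_normalizer hr)) (NR.inv_mem g.2)
            · exact Subgroup.mem_subgroupOf.2 (Subgroup.mem_sup_right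
                ((Subgroup.mem_normalizer_iff.1 g.2 r).1 hr))
        intro x hx
        obtain ⟨y, hy, hyx⟩ := hle hx
        exact (Subtype.ext hyx : y = x) ▸ hy
      -- `D` is a Sylow subgroup of `K`
      have hidx : ¬ p ∣ ((D.subgroupOf NR).subgroupOf K).index := by
        intro hdvd
        have hdvd' : ((D.subgroupOf NR).subgroupOf K).index ∣ Nat.card O := by
          have h1 : Nat.card (D.subgroupOf NR) * ((D.subgroupOf NR).subgroupOf K).index =
              Nat.card K := by
            rw [← H85.card_subgroupOf (D.subgroupOf NR) K le_sup_left]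
            exact Subgroup.card_mul_index _
          have h2 : Nat.card K ∣ Nat.card (D.subgroupOf NR) * Nat.card O :=
            H1.card_sup_dvd_mul _ _
          rw [← h1] at h2
          exact (Nat.mul_dvd_mul_iff_left Nat.card_pos).1 h2
        exact (Fact.out : p.Prime).one_lt.ne' (Nat.eq_one_of_dvd_coprimes hOcard
          (hdvd.trans hdvd') dvd_rfl)
      let DS : Sylow p K := hDp.comap_subtype.toSylow hidx
      have hXS : IsPGroup p (X.subgroupOf K) := hXp.comap_subtype
      obtain ⟨k, hk⟩ := H86.exists_conj_le_sylow DS hXS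
      obtain ⟨d, hd, o, ho, hdo⟩ : ∃ d ∈ D.subgroupOf NR, ∃ o ∈ O, d * o = (k : NR) := by
        have h' : (k : NR) ∈ D.subgroupOf NR ⊔ O := k.2
        rw [← SetLike.mem_coe, Subgroup.mul_normal] at h'
        exact h'
      set g' : NR := o * g with hg'def
      have hg'D : ∀ z ∈ Q ⊔ R, (g' : G) * z * (g' : G)⁻¹ ∈ D := by
        intro z hz
        have hzX : (⟨(g : G) * z * (g : G)⁻¹, hQR ⟨z, hz, rfl⟩⟩ : NR) ∈ X := ⟨z, hz, rfl⟩
        have h1 : (d * o) * ⟨(g : G) * z * (g : G)⁻¹, hQR ⟨z, hz, rfl⟩⟩ * (d * o)⁻¹ ∈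
            D.subgroupOf NR := by
          have := hk ⟨_, hXK hzX⟩ hzX
          rw [hdo]
          exact this
        have h2 := (D.subgroupOf NR).mul_mem ((D.subgroupOf NR).mul_mem
          ((D.subgroupOf NR).inv_mem hd) h1) hd
        have h3 := Subgroup.mem_subgroupOf.1 h2
        simp only [Subgroup.coe_mul, Subgroup.coe_inv, hg'def] at h3 ⊢
        convert! h3 using 1
        group
      obtain ⟨ψ, hψ, hval, hψeq⟩ := H85.exists_hom_of_conj hreal
        (sup_le (hQ.trans inf_le_left) hRP) (g' : G) (fun z => by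
          simp only [Subgroup.range_subtype]
          exact (hDN (hg'D z z.2)).1)
      have hψ' : ∀ z : ↥(Q ⊔ R), ψ z = (g' : G) * (z : G) * (g' : G)⁻¹ := hψeq
      -- `ψ` agrees with `φ` on `Q`
      have hagree : ∀ x : Q, ψ (Subgroup.inclusion le_sup_left x) = φ x := by
        intro x
        rw [hψ']
        have hm1 : (g' : G) * (x : G) * (g' : G)⁻¹ ∈ D := hg'D x (le_sup_left (b := R) x.2)
        have hm2 : φ x ∈ D := Subgroup.mem_sup_left ⟨x, rfl⟩
        set a : NR := ⟨φ x, hDNR hm2⟩
        set b : NR := ⟨(g' : G) * (x : G) * (g' : G)⁻¹, hDNR hm1⟩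
        have hab : QuotientGroup.mk' O a = QuotientGroup.mk' O b := by
          refine (hgq x).trans ?_
          have he : b = g' * ⟨x, (hQ x.2).2⟩ * g'⁻¹ := rfl
          rw [he, map_mul, map_mul, map_inv, hg'def, map_mul,
            show QuotientGroup.mk' O o = 1 from (QuotientGroup.eq_one_iff o).2 ho, one_mul]
          rfl
        rw [QuotientGroup.mk'_apply, QuotientGroup.mk'_apply, QuotientGroup.eq] at hab
        have h1 := hdisj _ (hpow (a⁻¹ * b) ((hDN.trans inf_le_left) (D.mul_mem (D.inv_mem hm2) hm1))) hab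
        exact (congrArg Subtype.val (inv_mul_eq_one.1 h1)).symm
      refine H85.mem_normalizerHom.2 ⟨?_, hQ, hφ, ψ, hψ, hagree, ?_⟩
      · exact H85.hom_congr (H85.restrict hψ le_sup_left) hagree
      · refine le_antisymm ?_ ?_
        · intro y hy
          obtain ⟨z, hz, rfl⟩ := H85.mem_img.1 hy
          rw [hψ']
          exact (Subgroup.mem_normalizer_iff.1 g'.2 _).1 hz
        · intro y hy
          refine H85.mem_img.2 ⟨⟨(g' : G)⁻¹ * y * g', le_sup_right (a := Q)
            ((Subgroup.mem_normalizer_iff''.1 g'.2 y).1 hy)⟩,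
            (Subgroup.mem_normalizer_iff''.1 g'.2 y).1 hy, ?_⟩
          rw [hψ']
          group
  · obtain ⟨B, hB⟩ := (H85.fullyNormalized_iff_sylow P hRP).1 hn
    refine ⟨B.mapSurjective (QuotientGroup.mk'_surjective O), ?_⟩
    show (B : Subgroup NR).map (QuotientGroup.mk' O) = _
    rw [hB, Subgroup.range_subtype]
    ext y
    constructor
    · rintro ⟨x, hx, rfl⟩
      exact ⟨⟨x, hx, x.2⟩, rfl⟩
    · rintro ⟨x, rfl⟩
      exact ⟨Subgroup.inclusion inf_le_right x, x.2.1, rfl⟩
  · set Rb : Subgroup (NR ⧸ O) := (R.subgroupOf NR).map (QuotientGroup.mk' O) with hRb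
    haveI : Rb.Normal := (Subgroup.normal_in_normalizer).map _ (QuotientGroup.mk'_surjective O)
    have hRbp : IsPGroup p Rb := (P.2.to_le hRP).comap_subtype.map _
    have hle : Rb ≤ Cfsg.pCore p (NR ⧸ O) := H1.le_pCore hRbp
    refine le_trans (Subgroup.centralizer_le hle) ?_
    intro y hy
    obtain ⟨g, rfl⟩ := QuotientGroup.mk'_surjective O y
    have hgC : (g : G) ∈ Subgroup.centralizer (R : Set G) := by
      refine Subgroup.mem_centralizer_iff.2 fun r hr => ?_
      set rN : NR := ⟨r, Subgroup.le_normalizer hr⟩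
      have hrb : QuotientGroup.mk' O rN ∈ Rb := ⟨rN, hr, rfl⟩
      have h1 := Subgroup.mem_centralizer_iff.1 hy _ hrb
      rw [← map_mul, ← map_mul, QuotientGroup.mk'_apply, QuotientGroup.mk'_apply,
        QuotientGroup.eq] at h1
      have hcR : ((g : G)⁻¹ * r⁻¹ * g) * r ∈ R :=
        R.mul_mem ((Subgroup.mem_normalizer_iff''.1 g.2 _).1 (R.inv_mem hr)) hr
      have h2 := hdisj _ (hpow ((rN * g)⁻¹ * (g * rN)) (hRP (by
        simpa [rN, mul_assoc] using hcR))) h1
      exact congrArg Subtype.val (inv_mul_eq_one.1 h2)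
    obtain ⟨r, hr, o, ho, hgo⟩ := hCR _ hgC
    have : g = ⟨r, Subgroup.le_normalizer hr⟩ * o := Subtype.ext hgo
    rw [this, map_mul, show QuotientGroup.mk' O o = 1 from (QuotientGroup.eq_one_iff o).2 ho, mul_one]
    exact hle ⟨_, hr, rfl⟩

end H87
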