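import Cfsg.Agent.H74.Qd
import Cfsg.Agent.H85.ModelUnique
import Cfsg.Agent.H85.Model
import Cfsg.Agent.H87.Involves
import Cfsg.Agent.H87.GroupModel
import Cfsg.Prelude.Def_FusionReduction

/-!
`Qd(p)` is involved in a finite group iff it is involved in a model at a fully normalized centric
subgroup (`p` odd).
-/
set_option autoImplicit false

namespace H87

open Cfsg Cfsg.FusionSystem

section QdData

open Matrix

variable {p : ℕ} [hpf : Fact p.Prime]

/-- Minus the identity. -/
def negOneSL (p : ℕ) : Matrix.SpecialLinearGroup (Fin 2) (ZMod p) :=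
  ⟨-1, by simp [Matrix.det_neg]⟩

theorem negOneSL_central (A : Matrix.SpecialLinearGroup (Fin 2) (ZMod p)) :
    A * negOneSL p = negOneSL p * A := by
  apply Subtype.ext
  show (A : Matrix (Fin 2) (Fin 2) (ZMod p)) * -1 = -1 * (A : Matrix (Fin 2) (Fin 2) (ZMod p))
  simp

theorem qd_invertingData (hp : p ≠ 2) :
    InvertingData (Cfsg.qdOver (ZMod p)) (H74.Qd.lin (F := ZMod p)).ker
      (H74.Qd.mk (negOneSL p) 0) where
  normal := inferInstance
  comm a ha b hb := H74.Qd.ext_lin_vec (by simp [MonoidHom.mem_ker.1 ha, MonoidHom.mem_ker.1 hb])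
    (by simp [H74.Qd.vec_mul, MonoidHom.mem_ker.1 ha, MonoidHom.mem_ker.1 hb, add_comm])
  inverts v hv := by
    have hvt : v = H74.Qd.mk 1 (H74.Qd.vec v) := by
      conv_lhs => rw [← H74.Qd.mk_lin_vec v, MonoidHom.mem_ker.1 hv]
    conv_lhs => rw [hvt]
    rw [H74.Qd.conj_translation, H74.Qd.lin_mk, eq_inv_iff_mul_eq_one]
    refine H74.Qd.ext_lin_vec (by simp [MonoidHom.mem_ker.1 hv]) ?_
    rw [H74.Qd.vec_mul, H74.Qd.vec_one]
    simp [negOneSL, Matrix.neg_mulVec]
  odd := by
    obtain ⟨k, hk⟩ := IsPGroup.iff_card.1 (H74.Qd.isPGroup_ker_lin (F := ZMod p) (p := p))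
    rw [hk]
    exact (hpf.out.odd_of_ne_two hp).pow
  central_mod q := by
    simp [MonoidHom.mem_ker, negOneSL_central]
  sq_one := by
    rw [H74.Qd.mk_mul]
    refine H74.Qd.ext_lin_vec ?_ ?_
    · rw [H74.Qd.lin_mk, map_one]
      exact Subtype.ext (by rw [Matrix.SpecialLinearGroup.coe_mul]; simp [negOneSL])
    · simp [H74.Qd.vec_one]
  cent q hq := by
    have hfix : ∀ t : Fin 2 → ZMod p,
        (H74.Qd.lin q : Matrix (Fin 2) (Fin 2) (ZMod p)).mulVec t = t := by
      intro t
      have h1 := hq (H74.Qd.mk 1 t) (by simp)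
      have h2 := congrArg H74.Qd.vec (show q * H74.Qd.mk 1 t * q⁻¹ = H74.Qd.mk 1 t by
        rw [h1, mul_inv_cancel_right])
      rwa [H74.Qd.conj_translation, H74.Qd.vec_mk, H74.Qd.vec_mk] at h2
    refine MonoidHom.mem_ker.2 (Subtype.ext (Matrix.ext_of_mulVec_single fun i => ?_))
    rw [hfix, Matrix.SpecialLinearGroup.coe_one, Matrix.one_mulVec]

theorem isPGroup_qd_ker : IsPGroup p (H74.Qd.lin (F := ZMod p)).ker :=
  H74.Qd.isPGroup_ker_lin

end QdData

universe u

variable {G : Type u} [Group G] [Finite G] {p : ℕ} [Fact p.Prime]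

/-- Free systems have no local section with inverting data; the converse direction of `S5206`. -/
theorem involves_local_of_involves {Q : Type*} [Group Q] [Finite Q] {V : Subgroup Q} {j : Q}
    (hI : InvertingData Q V j) (hV : IsPGroup p V) (hp : p ≠ 2) (P : Sylow p G)
    (h : Involves Q G) :
    ¬ (groupFusionSystem (P : Subgroup G)).IsSectionFree p Q := by
  classical
  intro hfree
  obtain ⟨X, π, hπ⟩ := involves_iff_exists_surjective.1 h
  obtain ⟨U, hUp, hU⟩ := exists_local_section hI hV hp X π hπ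
  set F := groupFusionSystem (P : Subgroup G) with hF
  have hsat : F.IsSaturated p := H85.isSaturated_groupFusionSystem P
  have hreal := H85.realized_groupFusionSystem (P : Subgroup G)
  -- move `U` to a fully normalized subgroup of `P`
  obtain ⟨a, ha⟩ := H86.exists_conj_le_sylow P hUp
  set Ua := U.map (MulAut.conj a).toMonoidHom with hUa
  have hUaP : Ua ≤ (P : Subgroup G) := by rintro _ ⟨x, hx, rfl⟩; exact ha x hx
  obtain ⟨U', hUU', hU'n⟩ := H85.exists_fullyNormalized F hUaP
  obtain ⟨φ, hφ, hφr⟩ := hUU'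
  obtain ⟨b, hb⟩ := H85.exists_conj_of_hom hreal hφ
  have hb' : ∀ x : Ua, φ x = b * (x : G) * b⁻¹ := hb
  have hU'eq : U' = U.map (MulAut.conj (b * a)).toMonoidHom := by
    rw [← hφr]
    ext y
    constructor
    · rintro ⟨⟨_, x, hx, rfl⟩, rfl⟩
      refine ⟨x, hx, ?_⟩
      rw [hb']
      simp [mul_assoc]
    · rintro ⟨x, hx, rfl⟩
      refine ⟨⟨_, x, hx, rfl⟩, ?_⟩
      rw [hb']
      simp [mul_assoc]
  set g := b * a with hg
  have hU'P : U' ≤ (P : Subgroup G) := hU'n.1
  have hU'c := H85.fullyCentralized_of_fullyNormalized P.2 hsat hU'n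
  obtain ⟨B, hB⟩ := (H85.fullyCentralized_iff_sylow P hU'P).1 hU'c
  rw [Subgroup.range_subtype] at hB
  set R : Subgroup G := U' ⊔ centralizerIn (P : Subgroup G) U' with hR
  have hRP : R ≤ (P : Subgroup G) := sup_le hU'P inf_le_left
  -- `R` is centric
  have hRc : F.IsCentric R := by
    refine ⟨hRP, ?_⟩
    rintro R' ⟨χ, hχ, rfl⟩ x hx
    obtain ⟨c, hc⟩ := H85.exists_conj_of_hom hreal hχ
    have hc' : ∀ z : R, χ z = c * (z : G) * c⁻¹ := hc
    obtain ⟨hxP, hxC⟩ := H85.mem_centralizerIn.1 hx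
    set y := c⁻¹ * x * c with hy
    have hyR : ∀ z ∈ R, z * y = y * z := by
      intro z hz
      have h1 := hxC _ ⟨⟨z, hz⟩, rfl⟩
      rw [hc'] at h1
      calc z * y = c⁻¹ * (c * z * c⁻¹ * x) * c := by rw [hy]; group
        _ = c⁻¹ * (x * (c * z * c⁻¹)) * c := by rw [h1]
        _ = y * z := by rw [hy]; group
    have hyC : y ∈ Subgroup.centralizer (U' : Set G) :=
      Subgroup.mem_centralizer_iff.2 fun z hz => hyR z (Subgroup.mem_sup_left hz)
    set y' : Subgroup.centralizer (U' : Set G) := ⟨y, hyC⟩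
    have hyp : IsPGroup p (Subgroup.zpowers y') := by
      obtain ⟨k, hk⟩ := P.2 ⟨x, hxP⟩
      have hyk : y' ^ p ^ k = 1 := by
        refine Subtype.ext ?_
        have h2 : x ^ p ^ k = 1 := congrArg Subtype.val hk
        show (c⁻¹ * x * c) ^ p ^ k = 1
        rw [show c⁻¹ * x * c = c⁻¹ * x * c⁻¹⁻¹ by rw [inv_inv], conj_pow, h2]
        group
      rintro ⟨_, m, rfl⟩
      refine ⟨k, Subtype.ext ?_⟩
      show (y' ^ m) ^ p ^ k = 1
      rw [← zpow_natCast, ← zpow_mul, mul_comm, zpow_mul, zpow_natCast, hyk, one_zpow]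
    have hle : Subgroup.zpowers y' ≤ Subgroup.normalizer ((B : Subgroup (Subgroup.centralizer (U' : Set G))) :
        Set (Subgroup.centralizer (U' : Set G))) := by
      refine Subgroup.zpowers_le.2 (H85.mem_normalizer_of_conj fun z hz => ?_)
      have hzP : (z : G) ∈ (P : Subgroup G) := Subgroup.mem_subgroupOf.1 (hB.le hz)
      have h3 := hyR z (Subgroup.mem_sup_right ⟨hzP, z.2⟩)
      have : y' * z * y'⁻¹ = z := Subtype.ext (by
        show y * (z : G) * y⁻¹ = z
        rw [← h3, mul_inv_cancel_right])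
      rw [this]; exact hz
    have hsup : IsPGroup p (Subgroup.zpowers y' ⊔ (B : Subgroup _) : Subgroup _) :=
      hyp.to_sup_of_normal_right' B.2 hle
    have hyB : y' ∈ (B : Subgroup _) :=
      (B.3 hsup le_sup_right).le (Subgroup.mem_sup_left (Subgroup.mem_zpowers y'))
    have hyR' : y ∈ R :=
      Subgroup.mem_sup_right ⟨Subgroup.mem_subgroupOf.1 (hB.le hyB), hyC⟩
    refine ⟨⟨y, hyR'⟩, ?_⟩
    rw [hc']
    simp [hy, mul_assoc]
  obtain ⟨R', hRR', hR'n⟩ := H85.exists_fullyNormalized F hRP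
  have hR'c := H85.centric_of_isConj hRc hRR'
  obtain ⟨χ, hχ, hχr⟩ := hRR'
  obtain ⟨d, hd⟩ := H85.exists_conj_of_hom hreal hχ
  have hd' : ∀ z : R, χ z = d * (z : G) * d⁻¹ := hd
  set k := d * g with hk
  -- the target subgroup
  set H0 : Subgroup G := (Subgroup.normalizer (R' : Set G)).comap (MulAut.conj k).toMonoidHom with hH0
  have hmemU : ∀ {z : G}, z ∈ U → g * z * g⁻¹ ∈ U' := fun {z} hz => hU'eq ▸ ⟨z, hz, rfl⟩
  have hmemR : ∀ {z : G}, z ∈ R → d * z * d⁻¹ ∈ R' := fun {z} hz => hχr ▸ ⟨⟨z, hz⟩, hd' _⟩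
  have hUH0 : U ≤ H0 := by
    intro z hz
    refine Subgroup.le_normalizer ?_
    have := hmemR (Subgroup.mem_sup_left (hmemU hz))
    simpa [hk, mul_assoc] using this
  have hcov : ∀ x ∈ Subgroup.normalizer (U : Set G),
      ∃ c ∈ Subgroup.centralizer (U : Set G), c * x ∈ H0 := by
    intro x hx
    set x' := g * x * g⁻¹ with hx'
    have hx'N : x' ∈ Subgroup.normalizer (U' : Set G) := by
      rw [hU'eq, ← H85.map_conj_normalizer]
      exact ⟨x, hx, rfl⟩
    -- Frattini argument in the centralizer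
    set BG : Subgroup G := (B : Subgroup (Subgroup.centralizer (U' : Set G))).map
      (Subgroup.centralizer (U' : Set G)).subtype with hBG
    have hBGeq : BG = centralizerIn (P : Subgroup G) U' := by
      rw [hBG]
      exact (congrArg (Subgroup.map (Subgroup.centralizer (U' : Set G)).subtype) hB).trans (Subgroup.subgroupOf_map_subtype _ _)
    have hBc : BG.map (MulAut.conj x').toMonoidHom ≤ Subgroup.centralizer (U' : Set G) := by
      rintro _ ⟨_, ⟨z, -, rfl⟩, rfl⟩
      refine Subgroup.mem_centralizer_iff.2 fun u hu => ?_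
      have h1 := Subgroup.mem_centralizer_iff.1 z.2 _
        ((Subgroup.mem_normalizer_iff''.1 hx'N u).1 hu)
      show u * (x' * (z : G) * x'⁻¹) = x' * (z : G) * x'⁻¹ * u
      calc u * (x' * (z : G) * x'⁻¹) = x' * ((x'⁻¹ * u * x') * z) * x'⁻¹ := by group
        _ = x' * ((z : G) * (x'⁻¹ * u * x')) * x'⁻¹ := by rw [h1]
        _ = x' * (z : G) * x'⁻¹ * u := by group
    obtain ⟨c, hc⟩ := H86.exists_conj_le_sylow B
      (X := (BG.map (MulAut.conj x').toMonoidHom).subgroupOf (Subgroup.centralizer (U' : Set G)))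
      ((B.2.map _).map _).comap_subtype
    have hcR : ∀ z ∈ R, ((c : G) * x') * z * ((c : G) * x')⁻¹ ∈ R := by
      have hle : R ≤ R.comap (MulAut.conj ((c : G) * x')).toMonoidHom := by
        refine sup_le ?_ ?_
        · intro z hz
          refine Subgroup.mem_sup_left ?_
          have h1 := (Subgroup.mem_normalizer_iff.1 hx'N z).1 hz
          have h2 := Subgroup.mem_centralizer_iff.1 c.2 _ h1
          show (c : G) * x' * z * ((c : G) * x')⁻¹ ∈ U'
          rw [show (c : G) * x' * z * ((c : G) * x')⁻¹ = (c : G) * (x' * z * x'⁻¹) * (c : G)⁻¹ by group,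
            ← h2, mul_inv_cancel_right]
          exact h1
        · intro z hz
          refine Subgroup.mem_sup_right ?_
          rw [← hBGeq] at hz
          have hm : x' * z * x'⁻¹ ∈ BG.map (MulAut.conj x').toMonoidHom := ⟨z, hz, rfl⟩
          have h1 := hc ⟨x' * z * x'⁻¹, hBc hm⟩ hm
          rw [← hBGeq]
          refine ⟨_, h1, ?_⟩
          show (c : G) * (x' * z * x'⁻¹) * (c : G)⁻¹ = (c : G) * x' * z * ((c : G) * x')⁻¹
          group
      exact fun z hz => hle hz
    have hcx : (c : G) * x' ∈ Subgroup.normalizer (R : Set G) := by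
      haveI : Finite R := Subtype.finite
      exact H85.mem_normalizer_of_conj hcR
    refine ⟨g⁻¹ * (c : G) * g, Subgroup.mem_centralizer_iff.2 fun u hu => ?_, ?_⟩
    · have h1 := Subgroup.mem_centralizer_iff.1 c.2 _ (hmemU hu)
      calc u * (g⁻¹ * (c : G) * g) = g⁻¹ * (g * u * g⁻¹ * c) * g := by group
        _ = g⁻¹ * ((c : G) * (g * u * g⁻¹)) * g := by rw [h1]
        _ = g⁻¹ * (c : G) * g * u := by group
    · have h1 : d * ((c : G) * x') * d⁻¹ ∈ Subgroup.normalizer (R' : Set G) := by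
        have hR'eq : R' = R.map (MulAut.conj d).toMonoidHom := by
          rw [← hχr]
          ext y
          constructor
          · rintro ⟨z, rfl⟩; exact ⟨z, z.2, (hd' z).symm⟩
          · rintro ⟨z, hz, rfl⟩; exact ⟨⟨z, hz⟩, hd' _⟩
        rw [hR'eq, ← H85.map_conj_normalizer]
        exact ⟨_, hcx, rfl⟩
      show k * (g⁻¹ * (c : G) * g * x) * k⁻¹ ∈ Subgroup.normalizer (R' : Set G)
      convert! h1 using 1
      rw [hk, hx']
      group
  obtain ⟨H, θ, hHH0, hθ, hθC⟩ := hU H0 hUH0 hcov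
  -- the model at `R'`
  have hR'P : R' ≤ (P : Subgroup G) := hR'c.1
  obtain ⟨O, hOn, hOcop, hOC, hmodel⟩ :=
    exists_groupModel P hR'n hR'c (H85.normalizerSystem_spec F R' hR'P)
  refine hfree R' hR'n hR'c _ (H85.normalizerSystem_spec F R' hR'P) _ _ hmodel ?_
  let toN : H →* Subgroup.normalizer (R' : Set G) :=
    ((MulAut.conj k).toMonoidHom.comp H.subtype).codRestrict _ (fun x => hHH0 x.2)
  let toL : H →* _ := (QuotientGroup.mk' O).comp toN
  have hker : toL.rangeRestrict.ker ≤ θ.ker := by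
    intro x hx
    rw [MonoidHom.ker_rangeRestrict, MonoidHom.mem_ker] at hx
    change QuotientGroup.mk' O (toN x) = 1 at hx
    rw [QuotientGroup.mk'_apply, QuotientGroup.eq_one_iff] at hx
    have hxU : (x : G) ∈ Subgroup.centralizer (U : Set G) := by
      refine Subgroup.mem_centralizer_iff.2 fun z hz => ?_
      have hzR' : k * z * k⁻¹ ∈ R' := by
        simpa [hk, mul_assoc] using hmemR (Subgroup.mem_sup_left (hmemU hz))
      have h1 := Subgroup.mem_centralizer_iff.1 (hOC _ hx) _ hzR'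
      change k * z * k⁻¹ * (k * x * k⁻¹) = k * x * k⁻¹ * (k * z * k⁻¹) at h1
      calc z * (x : G) = k⁻¹ * (k * z * k⁻¹ * (k * x * k⁻¹)) * k := by group
        _ = k⁻¹ * (k * x * k⁻¹ * (k * z * k⁻¹)) * k := by rw [h1]
        _ = (x : G) * z := by group
    obtain ⟨l, hl⟩ := hV ⟨θ x, hθC x hxU⟩
    have h1 : orderOf x ∣ Nat.card O := by
      have hinj : Function.Injective toN := fun a b hab =>
        Subtype.ext ((MulAut.conj k).injective (congrArg Subtype.val hab))
      rw [← orderOf_injective toN hinj x, ← Subgroup.orderOf_mk (toN x) hx]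
      exact orderOf_dvd_natCard _
    have h2 : orderOf (θ x) ∣ p ^ l := orderOf_dvd_of_pow_eq_one (congrArg Subtype.val hl)
    exact orderOf_eq_one_iff.1 (Nat.eq_one_of_dvd_coprimes (hOcop.pow_right l)
      ((orderOf_map_dvd θ x).trans h1) h2)
  exact involves_iff_exists_surjective.2 ⟨toL.range,
    toL.rangeRestrict.liftOfSurjective toL.rangeRestrict_surjective ⟨θ, hker⟩,
    fun q => by
      obtain ⟨x, rfl⟩ := hθ q
      exact ⟨toL.rangeRestrict x, MonoidHom.liftOfRightInverse_comp_apply _ _ _ _ x⟩⟩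

/-- A group free of `H` has a fusion system free of `H`. -/
theorem sectionFree_of_not_involves {H : Type*} [Group H] (P : Sylow p G)
    (h : ¬ Involves H G) : (groupFusionSystem (P : Subgroup G)).IsSectionFree p H := by
  intro R hn hc N hN L _ ι hL hinv
  obtain ⟨O, hO, -, -, hmodel⟩ := exists_groupModel P hn hc hN
  haveI := H85.finite_of_le (H85.normalizerIn_le (S := (P : Subgroup G)) R)
  obtain ⟨e, -⟩ := H85.models_iso (P.2.to_le (H85.normalizerIn_le R))
    (H85.isConstrained_of_model hL) hL hmodel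
  exact h (involves_of_injective (Subgroup.normalizer (R : Set G)).subtype Subtype.coe_injective
    (involves_of_surjective (QuotientGroup.mk' O) (QuotientGroup.mk'_surjective O)
      (involves_of_surjective e.symm.toMonoidHom e.symm.surjective hinv)))

theorem qd_sectionFree_iff (hp : p ≠ 2) (P : Sylow p G) :
    (groupFusionSystem (P : Subgroup G)).IsSectionFree p (Cfsg.qd p) ↔
      ¬ Involves (Cfsg.qd p) G :=
  ⟨fun h hinv => involves_local_of_involves (qd_invertingData hp) isPGroup_qd_ker hp P hinv h,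
    sectionFree_of_not_involves P⟩

end H87
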