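import Cfsg.Agent.H86.CentralizerSystemE

/-!
The centralizer system of a normal subgroup is a normal subsystem, and a normal subgroup carries a
normal inner subsystem.
-/
set_option autoImplicit false
set_option linter.style.haveILetI false
set_option linter.unusedSectionVars false

open Cfsg Cfsg.FusionSystem
open scoped Pointwise

namespace H87

variable {Ω : Type*} [Group Ω] {S : Subgroup Ω}

/-- A map on a join takes values where its generators go. -/
theorem mapsTo_sup {P R Q : Subgroup Ω} {φ : ↥(P ⊔ R) →* Ω}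
    (hP : ∀ x : P, φ (Subgroup.inclusion le_sup_left x) ∈ Q)
    (hR : ∀ x : R, φ (Subgroup.inclusion le_sup_right x) ∈ Q) (z : ↥(P ⊔ R)) : φ z ∈ Q := by
  have h : P ⊔ R ≤ (Q.comap φ).map (P ⊔ R).subtype :=
    sup_le (fun w hw => ⟨Subgroup.inclusion le_sup_left ⟨w, hw⟩, hP ⟨w, hw⟩, rfl⟩)
      (fun w hw => ⟨Subgroup.inclusion le_sup_right ⟨w, hw⟩, hR ⟨w, hw⟩, rfl⟩)
  obtain ⟨w, hw, hwz⟩ := h z.2
  exact (Subtype.ext hwz : w = z) ▸ hw

/-- Two homomorphisms on a join that agree on the generators agree. -/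
theorem eq_on_sup {M : Type*} [Group M] {P R : Subgroup Ω} {f g : ↥(P ⊔ R) →* M}
    (hP : ∀ x : P, f (Subgroup.inclusion le_sup_left x) = g (Subgroup.inclusion le_sup_left x))
    (hR : ∀ x : R, f (Subgroup.inclusion le_sup_right x) = g (Subgroup.inclusion le_sup_right x))
    (z : ↥(P ⊔ R)) : f z = g z := by
  have h : P ⊔ R ≤ (f.eqLocus g).map (P ⊔ R).subtype :=
    sup_le (fun w hw => ⟨Subgroup.inclusion le_sup_left ⟨w, hw⟩, hP ⟨w, hw⟩, rfl⟩)
      (fun w hw => ⟨Subgroup.inclusion le_sup_right ⟨w, hw⟩, hR ⟨w, hw⟩, rfl⟩)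
  obtain ⟨w, hw, hwz⟩ := h z.2
  exact (Subtype.ext hwz : w = z) ▸ hw

variable [Finite S] {p : ℕ} [Fact p.Prime] {F : FusionSystem S} {R : Subgroup Ω}

/-- An extension to a normal subgroup maps it to itself. -/
theorem map_mem_normal (hR : F.IsNormal R) {Q : Subgroup Ω} {φ : Q →* Ω} (hφ : φ ∈ F.Hom Q)
    {x : Q} (hx : (x : Ω) ∈ R) : φ x ∈ R :=
  H86.map_mem_of_stronglyClosed (H85.stronglyClosed_of_isNormal hR) hφ hx

/-- An isomorphism extends over a normal subgroup. -/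
theorem exists_iso_sup_normal (hR : F.IsNormal R) {P P' : Subgroup Ω} {e : P ≃* P'}
    (he : H85.IsFIso F e) : ∃ e' : ↥(P ⊔ R) ≃* ↥(P' ⊔ R), H85.IsFIso F e' ∧
      (∀ x : P, (e' (Subgroup.inclusion le_sup_left x) : Ω) = e x) ∧
      ∀ r : R, (e' (Subgroup.inclusion le_sup_right r) : Ω) ∈ R := by
  obtain ⟨ψ, hψ, hext, -⟩ := hR.2 P _ he
  have hsc := H85.stronglyClosed_of_isNormal hR
  have hr : ψ.range = P' ⊔ R := by
    refine le_antisymm ?_ (sup_le ?_ ?_)
    · rintro _ ⟨z, rfl⟩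
      exact mapsTo_sup (fun x => hext x ▸ Subgroup.mem_sup_left (e x).2)
        (fun r => Subgroup.mem_sup_right (map_mem_normal hR hψ r.2)) z
    · intro y hy
      obtain ⟨x, hx⟩ := e.surjective ⟨y, hy⟩
      exact ⟨_, (hext x).trans (congrArg Subtype.val hx)⟩
    · intro y hy
      obtain ⟨x, -, hx⟩ := H86.exists_preimage_of_stronglyClosed hsc le_sup_right hψ hy
      exact ⟨x, hx⟩
  exact ⟨H85.isoOf ψ hψ hr, H85.isFIso_isoOf ψ hψ hr, hext,
    fun r => map_mem_normal hR hψ (x := Subgroup.inclusion le_sup_right r) r.2⟩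

/-- `C_S(R)` is strongly closed for a normal subgroup `R`. -/
theorem stronglyClosed_centralizerIn (hR : F.IsNormal R) :
    F.StronglyClosed (centralizerIn S R) := by
  refine ⟨inf_le_left, fun P hP φ hφ x => ?_⟩
  obtain ⟨ψ, hψ, hext, -⟩ := hR.2 P φ hφ
  refine H85.mem_centralizerIn.2 ⟨H85.map_mem hφ x, fun r hr => ?_⟩
  obtain ⟨r', hr', hre⟩ := H86.exists_preimage_of_stronglyClosed
    (H85.stronglyClosed_of_isNormal hR) le_sup_right hψ hr
  have hc : Subgroup.inclusion le_sup_left x * r' = r' * Subgroup.inclusion le_sup_left x :=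
    Subtype.ext ((H85.mem_centralizerIn.1 (hP x.2)).2 r' hr').symm
  have h := congrArg ψ hc
  rw [map_mul, map_mul, hext, hre] at h
  exact h.symm

/-- Automorphisms of `C_S(R)` carry maps of the centralizer system to maps of it. -/
theorem normAut_centralizer (hR : F.IsNormal R) {δ : MulAut (centralizerIn S R)}
    (hδ : δ ∈ F.autGroup (centralizerIn S R)) :
    H86.NormAut (H85.centralizerSystem F R hR.1) δ := by
  intro P φ hφ
  obtain ⟨hφF, hPW, hφW, ψ, hψ, hext, hfix⟩ := id hφ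
  let W := centralizerIn S R
  have hWS : centralizerIn S R ≤ S := inf_le_left
  obtain ⟨d, hd, hdext, hdR⟩ := exists_iso_sup_normal hR ((H85.mem_autGroup hWS).1 hδ)
  set P' := H85.img (H86.dmap δ) P with hP'
  have hP'W : P' ≤ W := by
    intro y hy
    obtain ⟨w, -, rfl⟩ := H85.mem_img.1 hy
    exact (δ w).2
  have hle : P' ⊔ R ≤ W ⊔ R := sup_le_sup_right hP'W R
  have hm1 : ∀ z : ↥(P' ⊔ R), (d.symm (Subgroup.inclusion hle z) : Ω) ∈ P ⊔ R := by
    intro z
    refine mapsTo_sup (φ := ((W ⊔ R).subtype.comp d.symm.toMonoidHom).comp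
      (Subgroup.inclusion hle)) (fun x => ?_) (fun r => ?_) z
    · obtain ⟨w, hw, hwx⟩ := H85.mem_img.1 x.2
      have h1 : d.symm (Subgroup.inclusion hle (Subgroup.inclusion le_sup_left x)) =
          Subgroup.inclusion le_sup_left w := by
        rw [MulEquiv.symm_apply_eq]
        exact Subtype.ext ((hdext w).trans hwx).symm
      show (d.symm _ : Ω) ∈ P ⊔ R
      rw [h1]
      exact Subgroup.mem_sup_left hw
    · exact Subgroup.mem_sup_right (map_mem_normal hR hd.symm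
        (x := Subgroup.inclusion hle (Subgroup.inclusion le_sup_right r)) r.2)
  have hm2 : ∀ z : ↥(P ⊔ R), ψ z ∈ W ⊔ R :=
    mapsTo_sup (fun x => (hext x).symm ▸ Subgroup.mem_sup_left (hφW x))
      (fun r => (hfix r).symm ▸ Subgroup.mem_sup_right r.2)
  have h1 := H85.restrict hd.symm hle
  have h2 := F.comp_mem h1 hψ hm1
  have h3 := F.comp_mem h2 hd fun z => hm2 _
  set χ : ↥(P' ⊔ R) →* Ω := _ with hχdef
  change χ ∈ F.Hom (P' ⊔ R) at h3
  have hχ : ∀ z, χ z = (d ⟨ψ ⟨(d.symm (Subgroup.inclusion hle z) : Ω), hm1 z⟩, hm2 _⟩ : Ω) :=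
    fun z => rfl
  have hval : ∀ (x : P) (hx : ((δ ⟨x, hPW x.2⟩ : W) : Ω) ∈ P'),
      χ (Subgroup.inclusion le_sup_left ⟨_, hx⟩) = ((δ ⟨φ x, hφW x⟩ : W) : Ω) := by
    intro x hx
    rw [hχ]
    refine Eq.trans ?_ (hdext ⟨φ x, hφW x⟩)
    have e1 : d.symm (Subgroup.inclusion hle (Subgroup.inclusion le_sup_left ⟨_, hx⟩)) =
        Subgroup.inclusion le_sup_left (⟨x, hPW x.2⟩ : W) := by
      rw [MulEquiv.symm_apply_eq]
      exact Subtype.ext (hdext _).symm
    refine congrArg (fun w : ↥(W ⊔ R) => (d w : Ω)) (Subtype.ext ?_)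
    refine (congrArg ψ (Subtype.ext ?_)).trans (hext x)
    exact (congrArg Subtype.val e1 :)
  refine ⟨χ.comp (Subgroup.inclusion le_sup_left),
    ⟨H85.restrict h3 le_sup_left, hP'W, fun y => ?_, χ, h3, fun y => rfl, fun r => ?_⟩,
    fun x hx => hval x hx⟩
  · obtain ⟨w, hw, hwy⟩ := H85.mem_img.1 y.2
    have hy : ((δ ⟨(⟨(w : Ω), hw⟩ : P), hPW hw⟩ : W) : Ω) ∈ P' := by
      rw [show (δ ⟨(w : Ω), hPW hw⟩ : Ω) = y from hwy]; exact y.2
    have hye : y = ⟨_, hy⟩ := Subtype.ext hwy.symm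
    show χ (Subgroup.inclusion le_sup_left y) ∈ W
    rw [hye, hval ⟨w, hw⟩ hy]
    exact SetLike.coe_mem _
  · rw [hχ]
    have hr : (d.symm (Subgroup.inclusion hle (Subgroup.inclusion le_sup_right r)) : Ω) ∈ R :=
      map_mem_normal hR hd.symm
        (x := Subgroup.inclusion hle (Subgroup.inclusion le_sup_right r)) r.2
    have e1 : ψ ⟨(d.symm (Subgroup.inclusion hle (Subgroup.inclusion le_sup_right r)) : Ω),
        hm1 _⟩ = (d.symm (Subgroup.inclusion hle (Subgroup.inclusion le_sup_right r)) : Ω) :=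
      (congrArg ψ (Subtype.ext rfl)).trans (hfix ⟨_, hr⟩)
    rw [show (⟨ψ ⟨(d.symm (Subgroup.inclusion hle (Subgroup.inclusion le_sup_right r)) : Ω),
        hm1 _⟩, hm2 _⟩ : ↥(W ⊔ R)) =
      d.symm (Subgroup.inclusion hle (Subgroup.inclusion le_sup_right r)) from Subtype.ext e1,
      MulEquiv.apply_symm_apply]
    rfl

/-- The centralizer system of a normal subgroup is normal. -/
theorem isNormalIn_centralizerSystem (hS : IsPGroup p S) (hF : F.IsSaturated p)
    (hR : F.IsNormal R) : (H85.centralizerSystem F R hR.1).IsNormalIn F p := by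
  have hRc := H85.stronglyClosed_of_isNormal hR
  let W := centralizerIn S R
  let C : FusionSystem W := H85.centralizerSystem F R hR.1
  have hWS : W ≤ S := inf_le_left
  have : Finite W := H85.finite_of_le hWS
  have : Finite R := H85.finite_of_le hR.1
  have hWc : F.StronglyClosed W := stronglyClosed_centralizerIn hR
  have hC : C.IsSaturated p := H85.isSaturated_centralizerSystem hS hF
    (H85.fullyCentralized_of_fullyNormalized hS hF (H86.fullyNormalized_stronglyClosed hRc)) C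
    (H85.centralizerSystem_spec F R hR.1)
  have hCF : ∀ {P : Subgroup Ω} {φ : P →* Ω}, φ ∈ C.Hom P → φ ∈ F.Hom P := fun h => h.1
  have hCY : ∀ {U : Subgroup Ω}, U ≤ W → ∀ k ∈ C.autGroup U, k ∈ F.autGroup U := fun hU k hk =>
    (H85.mem_autGroup (hU.trans hWS)).2 (hCF ((H85.mem_autGroup hU).1 hk))
  have hNA : ∀ α ∈ F.autGroup W, H86.NormAut C α := fun α hα => normAut_centralizer hR hα
  have hfr : ∀ (P : Subgroup Ω), P ≤ W → ∀ φ ∈ F.Hom P,
      ∃ α ∈ F.autGroup W, H86.Lev C α P φ := by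
    refine H86.induction_within hS hF hWc (fun P φ => ∃ α ∈ F.autGroup W, H86.Lev C α P φ)
      ?_ ?_ ?_ ?_
    · rintro P Q φ h - - ⟨α, hα, hl⟩
      exact ⟨α, hα, hl.res h fun _ => rfl⟩
    · rintro P Q Q' e e' - - - - - ⟨α, hα, hl⟩ ⟨α', hα', hl'⟩
      exact ⟨α' * α, mul_mem hα' hα, hl.comp hl' (hNA _ (inv_mem hα)) (fun x => (e x).2)
        fun _ => rfl⟩
    · rintro P Q e - - - ⟨α, hα, hl⟩
      exact ⟨α⁻¹, inv_mem hα, hl.inv (hNA _ hα) fun y => ⟨e.symm y, by simp, rfl⟩⟩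
    intro U hUW hU ih a ha
    rcases eq_or_lt_of_le hUW with rfl | hlt
    · exact ⟨a, ha, (H86.lev_aut a le_rfl).congr fun _ => rfl⟩
    have hUS := hU.1
    have hKn : ∀ b ∈ F.autGroup U, ∀ k ∈ C.autGroup U, b * k * b⁻¹ ∈ C.autGroup U := by
      intro b hb k hk
      obtain ⟨χ, hχ, hext, -⟩ := hR.2 U _ ((H85.mem_autGroup hUS).1 hb)
      exact H86.centAut_transport hRc hUW hUW b hχ hext hk
    have hN : normalizerIn W U ≤ normalizerIn S U := inf_le_inf_right _ hWS
    obtain ⟨k, hk, β, hβ, hkβ, ψ, hψ, hψe⟩ := H86.frattini_step hS hF hU (K := C.autGroup U)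
      (hCY hUW) hKn ha (normalizerIn W U) hN fun g hg =>
        H85.autInducedBy_le_autGroup C hUW (H85.mem_autInducedBy.2 ⟨g, hg.1, fun _ => rfl⟩)
    have hle : U ⊔ normalizerIn W U ≤ W := sup_le hUW inf_le_left
    have hbig : Nat.card U < Nat.card ↥(U ⊔ normalizerIn W U) :=
      (H86.card_lt_card_normalizerIn hS hWS hlt).trans_le (by
        have : Finite ↥(U ⊔ normalizerIn W U) := H85.finite_of_le (hle.trans hWS)
        exact Subgroup.card_le_of_le le_sup_right)
    obtain ⟨α, hα, hl⟩ := ih _ hle hbig ψ hψ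
    have hl' : H86.Lev C 1 U (U.subtype.comp k.toMonoidHom) :=
      H86.lev_one.2 ((H85.mem_autGroup hUW).1 hk)
    have hlβ : H86.Lev C α U (U.subtype.comp β.toMonoidHom) :=
      hl.res le_sup_left fun x => (hψe x).symm
    refine ⟨1 * α, by rwa [one_mul], ?_⟩
    exact hlβ.comp (ψ := U.subtype.comp k.toMonoidHom) hl' (hNA _ (inv_mem hα))
      (fun x => (β x).2) fun x => by rw [hkβ]; rfl
  refine ⟨⟨hC, hF, fun P φ hφ => hCF hφ, hWc, fun P hPT φ hφ α hα => ?_, hfr⟩, ?_⟩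
  · obtain ⟨χ, hχ, he⟩ := hNA α hα P φ hφ
    exact ⟨χ, hχ, fun x _ hx => he x hx⟩
  -- the extension condition
  intro α hα
  obtain ⟨a, haF, haW, haR⟩ := H86.centAut_ext hR.1 le_rfl hα
  let J := W ⊔ R
  have hJS : J ≤ S := sup_le hWS hR.1
  have : Finite J := H85.finite_of_le hJS
  have haI : H85.IsFIso F a := (H85.mem_autGroup hJS).1 haF
  have hJn : S ≤ Subgroup.normalizer (J : Set Ω) := fun s hs =>
    H85.mem_normalizer_of_conj fun x hx => by
      have h : J ≤ J.comap (MulAut.conj s).toMonoidHom := sup_le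
        (fun y hy => Subgroup.mem_sup_left (H86.normal_of_stronglyClosed F hWc hs hy))
        (fun y hy => Subgroup.mem_sup_right (H86.normal_of_stronglyClosed F hRc hs hy))
      exact h hx
  obtain ⟨ψ, hψ, hext⟩ := H85.receptive_extend
    (H85.receptive_of_fullyNormalized hS hF (H86.fullyNormalized_of_normal hJS hJn)) haI
  let X := W ⊔ centralizerIn S W
  have hXS : X ≤ S := sup_le hWS inf_le_left
  have : Finite X := H85.finite_of_le hXS
  have hconj : ∀ c ∈ centralizerIn S W, ∀ z : J, ∀ hz : c * (z : Ω) * c⁻¹ ∈ J,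
      (a ⟨c * z * c⁻¹, hz⟩ : Ω) = c * (a z : Ω) * c⁻¹ := by
    intro c hc z
    have hcJ : ∀ w : J, c * (w : Ω) * c⁻¹ ∈ J := fun w =>
      H85.conj_mem_of_mem_normalizer (hJn hc.1) w.2
    let cg : J →* J := ((MulAut.conj c).toMonoidHom.comp J.subtype).codRestrict J hcJ
    intro hz
    have := eq_on_sup (f := a.toMonoidHom.comp cg) (g := cg.comp a.toMonoidHom) (fun w => ?_)
      (fun r => ?_) z
    · exact congrArg Subtype.val this
    · have h1 : cg (Subgroup.inclusion le_sup_left w) = Subgroup.inclusion le_sup_left w := by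
        refine Subtype.ext ?_
        show c * (w : Ω) * c⁻¹ = w
        rw [← (H85.mem_centralizerIn.1 hc).2 w w.2, mul_inv_cancel_right]
      refine Subtype.ext ?_
      show (a (cg _) : Ω) = c * (a _ : Ω) * c⁻¹
      rw [h1, haW, ← (H85.mem_centralizerIn.1 hc).2 _ (α w).2, mul_inv_cancel_right]
    · have hr : c * (r : Ω) * c⁻¹ ∈ R := H86.normal_of_stronglyClosed F hRc hc.1 r.2
      refine Subtype.ext ?_
      show (a (cg _) : Ω) = c * (a _ : Ω) * c⁻¹
      rw [haR r, show cg (Subgroup.inclusion le_sup_right r) =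
        Subgroup.inclusion le_sup_right ⟨_, hr⟩ from Subtype.ext rfl, haR]
  have hXe : X ≤ extender S J (J.subtype.comp a.toMonoidHom) := by
    refine sup_le (le_sup_left.trans (H85.le_extender hJS fun x => H85.map_mem haI x)) ?_
    intro c hc
    exact H85.mem_extender.2 ⟨hc.1, hJn hc.1, c, hc.1, fun x hx => hconj c hc x hx⟩
  set γ := ψ.comp (Subgroup.inclusion hXe) with hγdef
  have hγ : γ ∈ F.Hom X := H85.restrict hψ hXe
  have hψJ : ∀ z : J, ∀ h : (z : Ω) ∈ extender S J (J.subtype.comp a.toMonoidHom),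
      ψ ⟨z, h⟩ = (a z : Ω) := fun z h => hext z z.2 h
  have hγW : ∀ w : W, γ (Subgroup.inclusion le_sup_left w) = (α w : Ω) := fun w =>
    (hψJ (Subgroup.inclusion le_sup_left w) _).trans (haW w)
  have hγC : ∀ c : X, (c : Ω) ∈ centralizerIn S W →
      (c : Ω)⁻¹ * γ c ∈ W ⊓ Subgroup.centralizer (W : Set Ω) := by
    intro c hc
    have hce : (c : Ω) ∈ extender S J (J.subtype.comp a.toMonoidHom) := hXe c.2
    have key : ∀ z : J, (c : Ω)⁻¹ * γ c * (a z : Ω) = (a z : Ω) * ((c : Ω)⁻¹ * γ c) := by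
      intro z
      have hz : (c : Ω) * z * (c : Ω)⁻¹ ∈ J := H85.conj_mem_of_mem_normalizer (hJn hc.1) z.2
      have hJe : ∀ w : J, (w : Ω) ∈ extender S J (J.subtype.comp a.toMonoidHom) :=
        fun w => H85.le_extender hJS (fun x => H85.map_mem haI x) w.2
      have h1 : (⟨_, hJe ⟨_, hz⟩⟩ : extender S J (J.subtype.comp a.toMonoidHom)) =
          ⟨c, hce⟩ * ⟨z, hJe z⟩ * ⟨c, hce⟩⁻¹ := Subtype.ext rfl
      have h2 := congrArg ψ h1
      rw [map_mul, map_mul, map_inv, hψJ, hψJ, hconj c hc z hz] at h2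
      have h3 : γ c = ψ ⟨c, hce⟩ := rfl
      rw [h3]
      have h4 : ψ ⟨c, hce⟩ * (a z : Ω) = (c : Ω) * (a z : Ω) * (c : Ω)⁻¹ * ψ ⟨c, hce⟩ := by
        rw [h2, inv_mul_cancel_right]
      calc (c : Ω)⁻¹ * ψ ⟨c, hce⟩ * (a z : Ω) = (c : Ω)⁻¹ * (ψ ⟨c, hce⟩ * (a z : Ω)) :=
            mul_assoc _ _ _
        _ = _ := by rw [h4]; group
    have hcS : (c : Ω)⁻¹ * γ c ∈ S := S.mul_mem (S.inv_mem hc.1) (H85.map_mem hγ c)
    refine ⟨H85.mem_centralizerIn.2 ⟨hcS, fun r hr => ?_⟩,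
      Subgroup.mem_centralizer_iff.2 fun w hw => ?_⟩
    · have := key (Subgroup.inclusion le_sup_right ⟨r, hr⟩)
      rw [haR] at this
      exact this.symm
    · obtain ⟨v, hv⟩ := α.surjective ⟨w, hw⟩
      have := key (Subgroup.inclusion le_sup_left v)
      rw [haW, hv] at this
      exact this.symm
  have hr : γ.range = X := H86.range_eq_self_of_le F hγ (by
    rintro _ ⟨z, rfl⟩
    refine mapsTo_sup (fun w => ?_) (fun c => ?_) z
    · rw [hγW]; exact Subgroup.mem_sup_left (α w).2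
    · have := X.mul_mem (Subgroup.mem_sup_right (S := W) c.2)
        (Subgroup.mem_sup_left (T := centralizerIn S W)
          (hγC (Subgroup.inclusion le_sup_right c) c.2).1)
      simpa using this)
  exact ⟨_, H86.autOfHom_mem F hγ hr, hγW, hγC⟩

/-- The inner system of a normal subgroup is normal. -/
theorem isNormalIn_inner (hS : IsPGroup p S) (hF : F.IsSaturated p) (hR : F.IsNormal R) :
    (innerFusionSystem R).IsNormalIn F p := by
  have hRc := H85.stronglyClosed_of_isNormal hR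
  have : Finite R := H85.finite_of_le hR.1
  have hsat : (innerFusionSystem R).IsSaturated p := by
    refine H85.isSaturated_of_realized (G := R) (ι := MonoidHom.id R) ?_
      (IsPGroup.toSylow (P := (⊤ : Subgroup R)) ((hS.to_le hR.1).of_equiv Subgroup.topEquiv.symm)
        (by simp [(Fact.out : p.Prime).ne_one]))
      ?_
    · refine ⟨fun _ _ h => h, fun P hP φ hφ => ⟨?_, ?_⟩⟩
      · rintro ⟨-, g, hg, he⟩
        exact ⟨⟨g, hg⟩, fun x => Subtype.ext (he x)⟩
      · rintro ⟨g, hg⟩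
        exact ⟨hP, g, g.2, fun x => congrArg Subtype.val (hg x)⟩
    · rw [MonoidHom.range_eq_top.2 Function.surjective_id]; rfl
  refine ⟨⟨hsat, hF, ?_, hRc, ?_, ?_⟩, ?_⟩
  · rintro P φ ⟨hP, g, hg, he⟩
    exact H85.hom_congr (F.conj_mem (hP.trans hR.1) (hR.1 hg)) fun x => (he x).symm
  · rintro P hP φ ⟨-, g, hg, he⟩ α hα
    refine ⟨Cfsg.conjHom _ ((α ⟨g, hg⟩ : R) : Ω), (innerFusionSystem R).conj_mem ?_ (α _).2,
      fun x hx hαx => ?_⟩
    · rintro _ ⟨w, -, rfl⟩
      exact (α w).2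
    · show ((α ⟨g, hg⟩ : R) : Ω) * ((α ⟨x, hP x.2⟩ : R) : Ω) * ((α ⟨g, hg⟩ : R) : Ω)⁻¹ = _
      rw [← Subgroup.coe_inv, ← map_inv, ← Subgroup.coe_mul, ← map_mul, ← Subgroup.coe_mul,
        ← map_mul]
      exact congrArg (fun w : R => ((α w : R) : Ω)) (Subtype.ext (he x).symm)
  · intro P hP φ hφ
    obtain ⟨ψ, hψ, hext, -⟩ := hR.2 P φ hφ
    have hres := H85.restrict hψ (le_sup_right : R ≤ P ⊔ R)
    have hr : (ψ.comp (Subgroup.inclusion (le_sup_right : R ≤ P ⊔ R))).range = R :=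
      H86.range_eq_self_of_le F hres (by
        rintro _ ⟨z, rfl⟩
        exact hRc.2 R le_rfl _ hres z)
    refine ⟨_, H86.autOfHom_mem F hres hr, P.subtype, H85.id_mem _ hP, fun x hx => ?_⟩
    exact (hext x).symm.trans (congrArg ψ (Subtype.ext rfl))
  intro α hα
  obtain ⟨-, g, hg, he⟩ := (H85.mem_autGroup le_rfl).1 hα
  let X := R ⊔ centralizerIn S R
  have hXS : X ≤ S := sup_le hR.1 inf_le_left
  have : Finite X := H85.finite_of_le hXS
  have hc := F.conj_mem hXS (hR.1 hg)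
  have hgX : g ∈ X := Subgroup.mem_sup_left hg
  have hr : (Cfsg.conjHom X g).range = X := H86.range_eq_self_of_le F hc (by
    rintro _ ⟨z, rfl⟩
    exact X.mul_mem (X.mul_mem hgX z.2) (X.inv_mem hgX))
  refine ⟨_, H86.autOfHom_mem F hc hr, fun x => (he x).symm, fun c hcc => ?_⟩
  have h1 : g * (c : Ω) = c * g := (H85.mem_centralizerIn.1 hcc).2 g hg
  show (c : Ω)⁻¹ * (g * c * g⁻¹) ∈ _
  rw [h1]
  simp [one_mem]

end H87
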