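import Mathlib
import Cfsg.Agent.H74.ThompsonA
import Cfsg.Agent.H88.ThompsonTransport
import Cfsg.Agent.H88.StabTrivial
import Cfsg.Agent.H89.CentralEltApps
import Cfsg.Agent.H87.NormalFunctor

/-!
Thompson's normal `p`-complement theorem for fusion systems (`p` odd or `S₄`-free).
-/
set_option autoImplicit false
set_option linter.style.haveILetI false

namespace H87

open Cfsg Cfsg.FusionSystem

universe u

section General

variable {Ω : Type u} [Group Ω] {S : Subgroup Ω} {p : ℕ}

/-- No automorphism of order prime to `p` fixing `Z` pointwise. -/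
def FixTrivial (p : ℕ) (F : FusionSystem S) (Z : Subgroup Ω) : Prop :=
  ∀ P : Subgroup Ω, Z ≤ P → P ≤ S → ∀ a ∈ F.autGroup P, (orderOf a).Coprime p →
    (∀ x : P, (x : Ω) ∈ Z → a x = x) → a = 1

/-- The iterates of a map inducing a conjugation along `θ`. -/
theorem pow_induced {Ω' : Type*} [Group Ω'] {θ : S →* Ω'} {P : Subgroup Ω} (hP : P ≤ S)
    {a : MulAut P} {s : S} (h : ∀ x : P, θ ⟨(a x : P), hP (a x).2⟩ = θ s * θ ⟨x, hP x.2⟩ * (θ s)⁻¹) :
    ∀ (i : ℕ) (x : P), θ ⟨((a ^ i) x : P), hP ((a ^ i) x).2⟩ =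
      θ s ^ i * θ ⟨x, hP x.2⟩ * (θ s ^ i)⁻¹ := by
  intro i
  induction i with
  | zero => intro x; simp
  | succ i ih =>
    intro x
    have h1 := ih (a x)
    rw [← MulAut.mul_apply, ← pow_succ, h x] at h1
    refine h1.trans ?_
    rw [pow_succ]
    group

/-- An element of order prime to `p` in the image of `S` is trivial. -/
theorem eq_one_of_pow_eq (hS : IsPGroup p S) (s : S) {m : ℕ} (hm : m.Coprime p) :
    ∃ t : ℕ, s ^ (m * t) = s := by
  obtain ⟨k, hk⟩ := hS s
  obtain ⟨t, ht⟩ := exists_pow_eq_self_of_coprime (x := s) (n := m)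
    ((hm.pow_right k).coprime_dvd_right (orderOf_dvd_of_pow_eq_one hk))
  exact ⟨t, by rw [pow_mul, ht]⟩

/-- An automorphism of order prime to `p` agreeing modulo `Q` with a conjugation is trivial
modulo `Q`. -/
theorem induced_trivial (hS : IsPGroup p S) {Ω' : Type*} [Group Ω'] {θ : S →* Ω'} {P : Subgroup Ω}
    (hP : P ≤ S) {a : MulAut P} (ha : (orderOf a).Coprime p) {s : S}
    (h : ∀ x : P, θ ⟨(a x : P), hP (a x).2⟩ = θ s * θ ⟨x, hP x.2⟩ * (θ s)⁻¹) :
    ∀ x : P, θ ⟨(a x : P), hP (a x).2⟩ = θ ⟨x, hP x.2⟩ := by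
  obtain ⟨t, ht⟩ := eq_one_of_pow_eq hS s ha
  intro x
  have h1 := pow_induced hP h (orderOf a * t) x
  rw [← map_pow, ht] at h1
  rw [pow_mul, pow_orderOf_eq_one, one_pow] at h1
  rw [h x]
  exact h1.symm

/-- An automorphism of order prime to `p` acting as a conjugation is trivial. -/
theorem eq_one_of_conj (hS : IsPGroup p S) {P : Subgroup Ω} (hP : P ≤ S) {a : MulAut P}
    (ha : (orderOf a).Coprime p) {g : Ω} (hg : g ∈ S)
    (h : ∀ x : P, ((a x : P) : Ω) = g * (x : Ω) * g⁻¹) : a = 1 := by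
  refine MulEquiv.ext fun x => Subtype.ext ?_
  have h1 := induced_trivial hS (θ := S.subtype) hP ha (s := ⟨g, hg⟩) (fun y => h y) x
  exact h1

/-- An automorphism of order prime to `p` that is trivial on `Q` and modulo `Q` is trivial. -/
theorem eq_one_of_stable [Fact p.Prime] {P : Subgroup Ω} (hP : IsPGroup p P) {a : MulAut P}
    (ha : (orderOf a).Coprime p) {Q : Subgroup Ω} (hfix : ∀ x : P, (x : Ω) ∈ Q → a x = x)
    (hmod : ∀ x : P, ((a x * x⁻¹ : P) : Ω) ∈ Q) : a = 1 := by
  refine MulEquiv.ext fun r => ?_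
  set w := a r * r⁻¹ with hw
  have hwfix : a w = w := hfix w (hmod r)
  have hwi : ∀ i : ℕ, (a ^ i) r = w ^ i * r := by
    intro i
    induction i with
    | zero => simp
    | succ i ihi =>
      rw [pow_succ', MulAut.mul_apply, ihi, map_mul, map_pow, hwfix, pow_succ, mul_assoc,
        hw, inv_mul_cancel_right]
  have h3 := hwi (orderOf a)
  rw [pow_orderOf_eq_one, MulAut.one_apply] at h3
  have h4 : w ^ orderOf a = 1 := by simpa using h3.symm
  obtain ⟨i, hi⟩ := hP w
  have h5 : w = 1 := orderOf_eq_one_iff.1 (Nat.eq_one_of_dvd_coprimes (ha.pow_right i)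
    (orderOf_dvd_of_pow_eq_one h4) (orderOf_dvd_of_pow_eq_one hi))
  exact mul_inv_eq_one.1 h5

variable [Finite S] [Fact p.Prime]

/-- A saturated system whose essential automizers have no nontrivial elements of order prime to
`p` is inner. -/
theorem le_inner_of_coprime_trivial (hS : IsPGroup p S) {F : FusionSystem S}
    (hF : F.IsSaturated p)
    (h : ∀ R : Subgroup Ω, (R = S ∨ F.IsEssential p R) → ∀ a ∈ F.autGroup R,
      (orderOf a).Coprime p → a = 1) : F ≤ innerFusionSystem S := by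
  refine H85.le_of_essential hS hF _ fun R hR α hα => ?_
  have hRn : F.IsFullyNormalized R := by
    rcases hR with rfl | hR
    · exact H85.fullyNormalized_top F
    · exact hR.2.1
  haveI := H85.finite_of_le hRn.1
  haveI := H85.finite_autGroup F hRn.1
  have hpg : IsPGroup p (F.autGroup R) := by
    rintro ⟨a, ha⟩
    obtain ⟨k, hk⟩ := H88.exists_pow_coprime (p := p) a
    exact ⟨k, Subtype.ext (h R hR _ (pow_mem ha _) hk)⟩
  exact H85.autInducedBy_le_autGroup _ hRn.1
    (H88.le_autInducedBy_of_normal_pGroup hS hF hRn ⊤ (hpg.to_subgroup ⊤)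
      (α := ⟨α, hα⟩) trivial)

/-- A normal subgroup without stabilizing automorphisms of order prime to `p` forces innerness. -/
theorem le_inner_of_stabTrivial (hS : IsPGroup p S) {F : FusionSystem S} (hF : F.IsSaturated p)
    {K : Subgroup Ω} (hK : F.IsNormal K) (h : H88.StabTrivial p F K) :
    F ≤ innerFusionSystem S := by
  refine le_inner_of_coprime_trivial hS hF fun R hR a ha hc => ?_
  obtain ⟨hKR, hinv⟩ := (H85.isNormal_iff_essential hS hF).1 hK R hR
  have hRS : R ≤ S := by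
    rcases hR with rfl | hR
    · exact le_rfl
    · exact hR.1.1
  refine h R hKR (fun x hx => ⟨hRS hx, H85.normalizer_of_normalSubgroup hK (hRS hx)⟩) a ha hc
    fun x hx => ?_
  have : a x ∈ (K.subgroupOf R).map a.toMonoidHom := ⟨x, hx, rfl⟩
  rwa [hinv a ha] at this

/-- If the system is inner modulo `Q` and all maps act on `Q` like elements of `S`, it is inner. -/
theorem le_inner_of_factor (hS : IsPGroup p S) {F : FusionSystem S} (hF : F.IsSaturated p)
    {Q : Subgroup Ω} (hQ : F.IsNormal Q) (hall : ∀ P, F.Hom P ⊆ innerOnHom F Q P)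
    {Ω' : Type*} [Group Ω'] {θ : S →* Ω'} (hker : ∀ s : S, θ s = 1 ↔ (s : Ω) ∈ Q)
    (hind : ∀ (P : Subgroup Ω) (φ : P →* Ω) (hφ : φ ∈ F.Hom P), ∃ s : S, ∀ x : P,
      θ ⟨φ x, H85.map_mem hφ x⟩ = θ s * θ ⟨x, H85.source_le hφ x.2⟩ * (θ s)⁻¹) :
    F ≤ innerFusionSystem S := by
  refine le_inner_of_coprime_trivial hS hF fun R hR a ha hc => ?_
  obtain ⟨hQR, -⟩ := (H85.isNormal_iff_essential hS hF).1 hQ R hR
  have hRS : R ≤ S := by
    rcases hR with rfl | hR
    · exact le_rfl
    · exact hR.1.1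
  haveI := H85.finite_of_le hRS
  have haF := (H85.mem_autGroup hRS).1 ha
  obtain ⟨s, hs⟩ := hind R _ haF
  obtain ⟨-, ψ, -, hext, t, ht, htq⟩ := hall R haF
  have hconj : ∀ q : Q, ((a ⟨q, hQR q.2⟩ : R) : Ω) = t * (q : Ω) * t⁻¹ :=
    fun q => (hext ⟨q, hQR q.2⟩).symm.trans (htq q)
  refine eq_one_of_stable (hS.to_le hRS) hc (Q := Q) (fun x hx => ?_) fun x => ?_
  · have hpow : ∀ (i : ℕ) (q : Q), (((a ^ i) ⟨q, hQR q.2⟩ : R) : Ω) =
        t ^ i * (q : Ω) * (t ^ i)⁻¹ := by
      intro i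
      induction i with
      | zero => intro q; simp
      | succ i ihi =>
        intro q
        have hm : t * (q : Ω) * t⁻¹ ∈ Q :=
          H85.conj_mem_of_mem_normalizer (H85.normalizer_of_normalSubgroup hQ ht) q.2
        rw [pow_succ, MulAut.mul_apply,
          show a ⟨q, hQR q.2⟩ = ⟨t * (q : Ω) * t⁻¹, hQR hm⟩ from Subtype.ext (hconj q),
          show ((a ^ i) ⟨t * (q : Ω) * t⁻¹, hQR hm⟩ : R) =
            (a ^ i) ⟨((⟨_, hm⟩ : Q) : Ω), hQR hm⟩ from rfl, ihi ⟨_, hm⟩, pow_succ]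
        group
    obtain ⟨j, hj⟩ := eq_one_of_pow_eq hS ⟨t, ht⟩ hc
    refine Subtype.ext ((hconj ⟨_, hx⟩).trans ?_)
    have h1 := hpow (orderOf a * j) ⟨_, hx⟩
    rw [pow_mul, pow_orderOf_eq_one, one_pow, MulAut.one_apply] at h1
    rw [show t ^ (orderOf a * j) = t from congrArg Subtype.val hj] at h1
    exact h1.symm
  · have h1 := induced_trivial hS hRS hc (s := s) hs x
    refine (hker ⟨_, hRS (a x * x⁻¹).2⟩).1 ?_
    rw [show (⟨((a x * x⁻¹ : R) : Ω), hRS (a x * x⁻¹).2⟩ : S) = ⟨(a x : R), hRS (a x).2⟩ *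
      (⟨x, hRS x.2⟩)⁻¹ from rfl, map_mul, map_inv, h1, mul_inv_cancel]

end General

section Thompson

variable {p : ℕ} [Fact p.Prime]

omit [Fact p.Prime] in
theorem subW_thompson {G : Type u} [Group G] (D : Subgroup G) :
    subW (fun (Q : Type u) (_ : Group Q) => Cfsg.thompsonSubgroupA Q) D =
      Cfsg.thompsonSubgroupAOf D := rfl

omit [Fact p.Prime] in
theorem thompson_iso (Q R : Type u) [Group Q] [Group R] [Finite Q] (_ : IsPGroup p Q)
    (φ : Q ≃* R) : (Cfsg.thompsonSubgroupA Q).map φ.toMonoidHom = Cfsg.thompsonSubgroupA R :=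
  H88.thompsonSubgroupA_equiv φ

omit [Fact p.Prime] in
/-- The centralizer of the Thompson subgroup lies in it. -/
theorem centralizer_thompson_le (Q : Type u) [Group Q] [Finite Q] :
    Subgroup.centralizer (Cfsg.thompsonSubgroupA Q : Set Q) ≤ Cfsg.thompsonSubgroupA Q := by
  obtain ⟨A, hA, hmax⟩ := (Set.toFinite {A : Subgroup Q | IsMulCommutative A}).exists_maximalFor
    (fun A : Subgroup Q => Nat.card A) _ ⟨⊥, inferInstanceAs (IsMulCommutative (⊥ : Subgroup Q))⟩
  have hAmem : A ∈ Cfsg.maxAbelianSubgroups Q := by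
    refine ⟨hA, fun B hB => ?_⟩
    rcases le_total (Nat.card B) (Nat.card A) with h | h
    · exact h
    · exact hmax hB h
  intro x hx
  have hxA : x ∈ Subgroup.centralizer (A : Set Q) :=
    Subgroup.centralizer_le (show (A : Set Q) ⊆ (Cfsg.thompsonSubgroupA Q : Set Q) from le_sSup hAmem) hx
  have hAA : A ≤ Subgroup.centralizer (A : Set Q) :=
    Subgroup.le_centralizer_iff_isMulCommutative.2 hA
  set B := A ⊔ Subgroup.zpowers x with hBdef
  have hBA : B ≤ Subgroup.centralizer (A : Set Q) := sup_le hAA (Subgroup.zpowers_le.2 hxA)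
  have hzz : Subgroup.zpowers x ≤ Subgroup.centralizer (Subgroup.zpowers x : Set Q) :=
    Subgroup.le_centralizer_iff_isMulCommutative.2 inferInstance
  have hBz : B ≤ Subgroup.centralizer (Subgroup.zpowers x : Set Q) :=
    sup_le (Subgroup.le_centralizer_iff.1 (Subgroup.zpowers_le.2 hxA)) hzz
  have hB : IsMulCommutative B := Subgroup.le_centralizer_iff_isMulCommutative.1
    (sup_le (Subgroup.le_centralizer_iff.1 hBA) (Subgroup.le_centralizer_iff.1 hBz))
  have heq : A = B := Subgroup.eq_of_le_of_card_ge le_sup_left (hAmem.2 B hB)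
  exact le_sSup hAmem (heq.ge (Subgroup.mem_sup_right (Subgroup.mem_zpowers x)))

omit [Fact p.Prime] in
theorem thompson_ne_bot (Q : Type u) [Group Q] [Finite Q] (_ : IsPGroup p Q) (_ : Nontrivial Q) :
    Cfsg.thompsonSubgroupA Q ≠ ⊥ := by
  intro h
  have h1 := centralizer_thompson_le Q
  rw [h, le_bot_iff, Subgroup.coe_bot] at h1
  obtain ⟨x, hx⟩ := exists_ne (1 : Q)
  have : x ∈ Subgroup.centralizer ({1} : Set Q) := by
    rw [Subgroup.mem_centralizer_iff]; simp
  rw [h1, Subgroup.mem_bot] at this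
  exact hx this

/-- Thompson's theorem in the constrained case. -/
theorem le_inner_of_model {Ω : Type u} [Group Ω] {S : Subgroup Ω} [Finite S] (hS : IsPGroup p S)
    {F : FusionSystem S} (hF : F.IsSaturated p) (hcon : F.IsConstrained p)
    (hp : p ≠ 2 ∨ F.IsSectionFree p (Equiv.Perm (Fin 4)))
    (hJ : H88.StabTrivial p F (Cfsg.thompsonSubgroupAOf S))
    (hZ : FixTrivial p F (S ⊓ Subgroup.centralizer (S : Set Ω))) :
    F ≤ innerFusionSystem S := by
  classical
  obtain ⟨L, _, ι, hm⟩ := H85.exists_model_of_constrained hS hcon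
  haveI := hm.1
  obtain ⟨hreal, ⟨T, hT⟩, hcen⟩ := hm.2
  have hι := hreal.1
  have hTp : IsPGroup p (T : Subgroup L) := T.2
  have hOle : Cfsg.pCore p L ≤ ι.range := hT ▸ H85.pCore_le_sylow' T
  set Y := H85.preim ι (Cfsg.pCore p L) with hY
  have hYS : Y ≤ S := H85.preim_le ι _
  have hYeq : H85.rimg ι Y = Cfsg.pCore p L := by
    ext y
    rw [H85.mem_rimg]
    refine ⟨?_, fun hy => ?_⟩
    · rintro ⟨x, hx, rfl⟩
      exact (H85.mem_preim.1 hx).2
    · obtain ⟨x, rfl⟩ := hOle hy
      exact ⟨x, H85.mem_preim.2 ⟨x.2, hy⟩, rfl⟩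
  -- a `p'`-element normalizing the image of `R ⊇ Y` and stabilizing is trivial
  have key : ∀ (R : Subgroup Ω) (hRS : R ≤ S), Y ≤ R → ∀ g : L, (orderOf g).Coprime p →
      g ∈ Subgroup.normalizer (H85.rimg ι R : Set L) →
      (∀ a ∈ F.autGroup R, (orderOf a).Coprime p →
        (∀ x : R, ι ⟨(a x : R), hRS (a x).2⟩ = g * ι ⟨x, hRS x.2⟩ * g⁻¹) → a = 1) → g = 1 := by
    intro R hRS hYR g hg hgn h
    set n : Subgroup.normalizer (H85.rimg ι R : Set L) := ⟨g, hgn⟩
    set a := H85.normAut ι hι R hRS n with ha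
    have hamem : a ∈ F.autGroup R := by
      rw [← H85.normAut_range hreal hRS]
      exact ⟨n, rfl⟩
    have hac : (orderOf a).Coprime p := by
      refine hg.coprime_dvd_left ((orderOf_map_dvd _ n).trans ?_)
      rw [← Subgroup.orderOf_coe]
    have h1 := h a hamem hac fun x => H85.normAut_spec ι hι R hRS n x
    have hgc : g ∈ Subgroup.centralizer ((Cfsg.pCore p L : Subgroup L) : Set L) := by
      refine Subgroup.mem_centralizer_iff.2 fun y hy => ?_
      obtain ⟨x, rfl⟩ := hOle hy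
      have h2 := H85.normAut_spec ι hι R hRS n ⟨x, hYR (H85.mem_preim.2 ⟨x.2, hy⟩)⟩
      rw [show H85.normAut ι hι R hRS n = 1 from h1] at h2
      exact eq_mul_inv_iff_mul_eq.1 h2
    exact H11.eq_one_of_mem_pGroup_coprime (H85.pCore_isPGroup' p L) (hcen hgc) hg
  have hpg : ∀ H : Subgroup L, (∀ g ∈ H, (orderOf g).Coprime p → g = 1) → IsPGroup p H := by
    rintro H hH ⟨g, hg⟩
    obtain ⟨k, hk⟩ := H88.exists_pow_coprime (p := p) g
    exact ⟨k, Subtype.ext (hH _ (pow_mem hg _) hk)⟩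
  set J := Cfsg.thompsonSubgroupAOf S with hJdef
  have hJS : J ≤ S := Subgroup.map_subtype_le _
  have hJimg : Cfsg.thompsonSubgroupAOf (T : Subgroup L) = H85.rimg ι J := by
    rw [← subW_thompson, subW_range _ (fun Q R _ _ _ h φ => thompson_iso Q R h φ) hS ι hι _ hT,
      H85.rimg, hJdef, Cfsg.thompsonSubgroupAOf]
    rw [show ((Cfsg.thompsonSubgroupA S).map S.subtype).subgroupOf S = Cfsg.thompsonSubgroupA S from
      Subgroup.comap_map_eq_self_of_injective Subtype.coe_injective _]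
  have hNp : IsPGroup p ↥(Subgroup.normalizer (Cfsg.thompsonSubgroupAOf (T : Subgroup L) : Set L)) := by
    refine hpg _ fun g hg hc => ?_
    rw [hJimg] at hg
    refine key (Y ⊔ J) (sup_le hYS hJS) le_sup_left g hc ?_ fun a ha hac hax => ?_
    · rw [H85.rimg, Subgroup.subgroupOf_sup hYS hJS, Subgroup.map_sup]
      change g ∈ Subgroup.normalizer ((H85.rimg ι Y ⊔ H85.rimg ι J : Subgroup L) : Set L)
      haveI : (Cfsg.pCore p L).Normal := H85.pCoreNormalInst p L
      refine H85.mem_normalizer_of_conj fun y hy => ?_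
      have hle : H85.rimg ι Y ⊔ H85.rimg ι J ≤
          (H85.rimg ι Y ⊔ H85.rimg ι J).comap (MulAut.conj g).toMonoidHom := by
        refine sup_le (fun z hz => Subgroup.mem_sup_left ?_) (fun z hz => Subgroup.mem_sup_right ?_)
        · rw [hYeq] at hz ⊢
          exact (inferInstance : (Cfsg.pCore p L).Normal).conj_mem _ hz g
        · exact H85.conj_mem_of_mem_normalizer hg hz
      exact hle hy
    · refine hJ (Y ⊔ J) le_sup_right (sup_le (fun x hx => ⟨hYS hx, ?_⟩) (fun x hx => ⟨hJS hx, ?_⟩))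
        a ha hac fun x hx => ?_
      · exact ((subFunctor _ (fun Q _ _ h1 h2 => thompson_ne_bot (p := p) Q h1 h2)
          (fun Q R _ _ _ h φ => thompson_iso Q R h φ) hS).top_normalizerIn.ge (hYS hx)).2
      · exact Subgroup.le_normalizer hx
      · refine (H85.apply_mem_rimg hι (x := (⟨(a x : ↥(Y ⊔ J)), sup_le hYS hJS (a x).2⟩ : S))).1 ?_
        rw [hax]
        exact H85.conj_mem_of_mem_normalizer hg ((H85.apply_mem_rimg hι).2 hx)
  set Z := S ⊓ Subgroup.centralizer (S : Set Ω) with hZdef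
  have hCp : IsPGroup p ↥(Subgroup.centralizer
      (((T : Subgroup L) ⊓ Subgroup.centralizer ((T : Subgroup L) : Set L) : Subgroup L) : Set L)) := by
    refine hpg _ fun g hg hc => ?_
    have hZS : Z ≤ S := inf_le_left
    have hTS : H85.rimg ι S = ι.range := by
      rw [H85.rimg, Subgroup.subgroupOf_self, MonoidHom.range_eq_map]
    have hZimg : ∀ z : S, (z : Ω) ∈ Z →
        ι z ∈ (T : Subgroup L) ⊓ Subgroup.centralizer ((T : Subgroup L) : Set L) := by
      intro z hz
      have h1 := (H85.apply_mem_rimg hι).2 (show (z : Ω) ∈ centralizerIn S S from hz)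
      rw [H85.rimg_centralizerIn hι le_rfl, hTS, ← hT] at h1
      exact h1
    have hZY : Z ≤ Y := by
      intro z hz
      refine H85.mem_preim.2 ⟨hZS hz, hcen ?_⟩
      exact Subgroup.centralizer_le (show ((Cfsg.pCore p L : Subgroup L) : Set L) ⊆ _ from
        H85.pCore_le_sylow' T) (hZimg ⟨z, hZS hz⟩ hz).2
    refine key Y hYS le_rfl g hc ?_ fun a ha hac hax => hZ Y hZY hYS a ha hac fun x hx => ?_
    · rw [hYeq]
      exact (Subgroup.normalizer_eq_top (H := Cfsg.pCore p L)).ge trivial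
    · refine Subtype.ext ?_
      have h1 := hax x
      rw [← Subgroup.mem_centralizer_iff.1 hg _ (hZimg ⟨x, hYS x.2⟩ hx), mul_inv_cancel_right] at h1
      exact congrArg (fun z : S => (z : Ω)) (hι h1)
  have hLfree : p ≠ 2 ∨ ¬ Involves (Equiv.Perm (Fin 4)) L := hp.imp_right fun hfree => by
    obtain ⟨Q, hQ, hQc⟩ := hcon.2
    exact not_involves_of_sectionFree hS hF hfree le_rfl (fun P φ hφ => hφ) hQ hQc hm
  obtain ⟨P', K, hK, hKc⟩ := H74.JA.normal_p_complement hLfree T
    (H5.hasNormalPComplement_of_isPGroup hNp) (H5.hasNormalPComplement_of_isPGroup hCp)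
  have hKcard : (Nat.card K).Coprime p := by
    rw [← hKc.index_eq_card, Nat.coprime_comm, (Fact.out : p.Prime).coprime_iff_not_dvd]
    exact P'.not_dvd_index
  haveI := hK
  haveI : (Cfsg.pCore p L).Normal := H85.pCoreNormalInst p L
  have hdisj : Disjoint K (Cfsg.pCore p L) := by
    refine Subgroup.disjoint_def.2 fun {x} hx1 hx2 => ?_
    exact H11.eq_one_of_mem_pGroup_coprime (H85.pCore_isPGroup' p L) hx2
      (hKcard.coprime_dvd_left (Subgroup.orderOf_dvd_natCard _ hx1))
  have hKbot : K = ⊥ := eq_bot_iff.2 fun k hk => by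
    have h1 : k ∈ Cfsg.pCore p L := hcen (Subgroup.mem_centralizer_iff.2 fun o ho =>
      (Subgroup.commute_of_normal_of_disjoint K (Cfsg.pCore p L) hK inferInstance hdisj k o hk ho).symm)
    exact Subgroup.mem_bot.2 (Subgroup.disjoint_def.1 hdisj hk h1)
  have hP' : (P' : Subgroup L) = ⊤ := Subgroup.isComplement'_bot_left.1 (hKbot ▸ hKc)
  have htop : ι.range = ⊤ := by
    rw [← hT]
    exact (T.is_maximal' ((hP' ▸ P'.isPGroup').to_le le_rfl) le_top).symm
  intro P φ hφ
  obtain ⟨g, hg⟩ := H85.exists_conj_of_hom hreal hφ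
  obtain ⟨s, rfl⟩ : g ∈ ι.range := htop ▸ Subgroup.mem_top g
  refine ⟨H85.source_le hφ, s, s.2, fun x => ?_⟩
  have h1 := hg x
  rw [← map_inv, ← map_mul, ← map_mul] at h1
  exact congrArg Subtype.val (hι h1)

/-- **Thompson's theorem for fusion systems.** -/
theorem le_inner_thompson (Ω : Type u) [Group Ω] (S : Subgroup Ω) [Finite S] (hS : IsPGroup p S)
    (F : FusionSystem S) (hF : F.IsSaturated p)
    (hp : p ≠ 2 ∨ F.IsSectionFree p (Equiv.Perm (Fin 4)))
    (hJ : H88.StabTrivial p F (Cfsg.thompsonSubgroupAOf S))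
    (hZ : FixTrivial p F (S ⊓ Subgroup.centralizer (S : Set Ω))) :
    F ≤ innerFusionSystem S := by
  refine fusion_induction p (fun Ω _ S F => (p ≠ 2 ∨ F.IsSectionFree p (Equiv.Perm (Fin 4))) →
    H88.StabTrivial p F (Cfsg.thompsonSubgroupAOf S) →
    FixTrivial p F (S ⊓ Subgroup.centralizer (S : Set Ω)) → F ≤ innerFusionSystem S) ?_
    Ω S hS F hF hp hJ hZ
  intro Ω _ S _ hS F hF ih1 ih2 hp hJ hZ
  set W : ∀ (Q : Type u) [Group Q], Subgroup Q := fun Q _ => Cfsg.thompsonSubgroupA Q with hWdef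
  have hW1 : ∀ (Q : Type u) [Group Q] [Finite Q], IsPGroup p Q → Nontrivial Q → W Q ≠ ⊥ :=
    fun Q _ _ h1 h2 => thompson_ne_bot (p := p) Q h1 h2
  have hW2 : ∀ (Q R : Type u) [Group Q] [Group R] [Finite Q], IsPGroup p Q → ∀ φ : Q ≃* R,
      (W Q).map φ.toMonoidHom = W R := fun Q R _ _ _ h φ => thompson_iso Q R h φ
  have hWf := subFunctor W hW1 hW2 hS
  have hJS : subW W S ≤ S := hWf.le S le_rfl
  have hJN : normalizerIn S (subW W S) = S := hWf.top_normalizerIn
  -- the normalizer of `J(S)` is inner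
  have hNH : ∀ P, F.normalizerHom (subW W S) P ⊆ (innerFusionSystem S).Hom P := by
    have hspec := H85.normalizerSystem_spec F (subW W S) hJS
    haveI := H85.finite_of_le (H85.normalizerIn_le (S := S) (subW W S))
    have hsat := H85.isSaturated_normalizerSystem hS hF (show F.IsFullyNormalized (subW W S) from
      ⟨hJS, fun R _ => by rw [hJN]; exact Subgroup.card_le_of_le (H85.normalizerIn_le R)⟩) _ hspec
    have hle := le_inner_of_stabTrivial (hS.to_le (H85.normalizerIn_le _)) hsat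
      (H89.isNormal_normalizerSystem hJS hspec) (fun P hWP hP a ha => hJ P hWP
        (fun x hx => ⟨H85.normalizerIn_le _ (hP hx).1, (hP hx).2⟩) a
        (H88.normalizerSystem_autGroup_le hspec ha))
    intro P φ hφ
    obtain ⟨hP, g, hg, hgx⟩ := hle P hφ
    exact ⟨hP.trans (H85.normalizerIn_le _), g, hg.1, hgx⟩
  -- subsystems
  have hsubsys : ∀ (T : Subgroup Ω) (E : FusionSystem T), T ≤ S →
      (S ⊓ Subgroup.centralizer (S : Set Ω) ≤ T) → (∀ P, E.Hom P ⊆ F.Hom P) →
      (∀ P, E.normalizerHom (subW W T) P ⊆ (innerFusionSystem S).Hom P) →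
      H88.StabTrivial p E (subW W T) ∧ FixTrivial p E (T ⊓ Subgroup.centralizer (T : Set Ω)) := by
    intro T E hTS hZT hEF hEN
    have hmem : ∀ {P : Subgroup Ω}, P ≤ T → ∀ {a : MulAut P}, a ∈ E.autGroup P →
        a ∈ F.autGroup P := fun {P} hP {a} ha =>
      (H85.mem_autGroup (hP.trans hTS)).2 (hEF P ((H85.mem_autGroup hP).1 ha))
    refine ⟨fun P hWP hP a ha hac hstab => ?_, fun P hZP hP a ha hac hfix => ?_⟩
    · have hPT : P ≤ T := hP.trans inf_le_left
      haveI := H85.finite_of_le (hPT.trans hTS)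
      have haE := (H85.mem_autGroup hPT).1 ha
      have hWT : subW W T ≤ T := Subgroup.map_subtype_le _
      haveI := H85.finite_of_le (hWT.trans hTS)
      have hmemN : P.subtype.comp a.toMonoidHom ∈ E.normalizerHom (subW W T) P := by
        have hle : P ⊔ subW W T ≤ P := sup_le le_rfl hWP
        refine H85.mem_normalizerHom.2 ⟨haE, hP, fun x => hP (a x).2, _,
          H85.restrict haE hle, fun x => rfl, ?_⟩
        have hi : H85.img ((P.subtype.comp a.toMonoidHom).comp (Subgroup.inclusion hle)) (subW W T) ≤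
            subW W T := by
          intro y hy
          obtain ⟨z, hz, rfl⟩ := H85.mem_img.1 hy
          exact hstab _ hz
        haveI : Finite ↥(H85.img ((P.subtype.comp a.toMonoidHom).comp (Subgroup.inclusion hle))
          (subW W T)) := H85.finite_of_le hi
        refine Subgroup.eq_of_le_of_card_ge hi ?_
        rw [H85.img, Subgroup.card_map_of_injective (E.injective_of_mem (H85.restrict haE hle)),
          H85.card_subgroupOf _ _ le_sup_right]
      obtain ⟨-, g, hg, hgx⟩ := hEN P hmemN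
      exact eq_one_of_conj hS (hPT.trans hTS) hac hg hgx
    · have hle : S ⊓ Subgroup.centralizer (S : Set Ω) ≤ T ⊓ Subgroup.centralizer (T : Set Ω) :=
        fun z hz => ⟨hZT hz, Subgroup.centralizer_le hTS hz.2⟩
      exact hZ P (hle.trans hZP) (hP.trans hTS) a (hmem hP ha) hac fun x hx => hfix x (hle hx)
  have hsub : ∀ (U : Subgroup Ω) (hU : F.IsFullyNormalized U), ¬ F.IsNormal U →
      (∀ P, (H85.normalizerSystem F U hU.1).normalizerHom (subW W (normalizerIn S U)) P ⊆
        (innerFusionSystem S).Hom P) →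
      ∀ P, F.normalizerHom U P ⊆ (innerFusionSystem S).Hom P := by
    intro U hU hnn hNN P φ hφ
    haveI := H85.finite_of_le (H85.normalizerIn_le (S := S) U)
    have hspec := H85.normalizerSystem_spec F U hU.1
    haveI := H85.finite_of_le hU.1
    obtain ⟨h1, h2⟩ := hsubsys _ (H85.normalizerSystem F U hU.1) (H85.normalizerIn_le U)
      (fun z hz => ⟨hz.1, H85.mem_normalizer_of_conj fun x hx => by
        rw [← Subgroup.mem_centralizer_iff.1 hz.2 x (hU.1 hx), mul_inv_cancel_right]; exact hx⟩)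
      (fun P ψ hψ => hψ.1) hNN
    obtain ⟨hP, g, hg, hgx⟩ := ih2 _ (hS.to_le (H85.normalizerIn_le U))
      (H85.normalizerSystem F U hU.1) (H85.isSaturated_normalizerSystem hS hF hU _ hspec)
      (Subgroup.card_le_of_le (H85.normalizerIn_le U)) (weight_normalizerSystem_lt hU.1 hnn)
      (hp.imp_right fun h => sectionFree_normalizerSystem hS hF h hU hspec) h1 h2 P hφ
    exact ⟨hP.trans (H85.normalizerIn_le U), g, hg.1, hgx⟩
  have htopN : ∀ (U : Subgroup Ω) (hU : F.IsFullyNormalized U), normalizerIn S U = S →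
      ¬ F.IsNormal U → ∀ P, F.normalizerHom U P ⊆ (innerFusionSystem S).Hom P :=
    fun U hU hUN hnn => hsub U hU hnn fun P => (normalizerHom_of_le_top
      (D := H85.normalizerSystem F U hU.1) (F := F)
      (fun R ψ hψ => hψ.1) hUN (subW W) P).trans (hNH P)
  by_cases hcore : F.core = ⊥
  · exact le_of_core_free hS hF hWf hNH (fun U hU => le_bot_iff.1 (hcore ▸ le_core hU))
      (fun U hU _ hnn => hsub U hU hnn)
  set Q := F.core with hQdef
  have hQ : F.IsNormal Q := isNormal_core F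
  by_cases hcon : F.IsConstrained p
  · exact le_inner_of_model hS hF hcon hp hJ hZ
  obtain ⟨hUn, hUN, -⟩ := isFullyNormalized_sup_centralizer hQ
  refine le_of_normal hS hF hQ (htopN _ hUn hUN (not_isNormal_sup hF hcon)) ?_
  by_cases hw : weight (innerOnSystem F Q hQ) < weight F
  · obtain ⟨h1, h2⟩ := hsubsys S (innerOnSystem F Q hQ) le_rfl inf_le_left (fun P ψ hψ => hψ.1)
      (fun P => (normalizerHom_of_le_top (D := innerOnSystem F Q hQ) (F := F)
        (fun R ψ hψ => hψ.1) rfl (subW W) P).trans (hNH P))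
    exact ih2 S hS _ (innerOnSystem_saturated hS hF hQ) le_rfl hw
      (hp.imp_right fun h => sectionFree_innerOn hS hF h hQ) h1 h2
  have hall : ∀ P, F.Hom P ⊆ innerOnHom F Q P := fun P φ hφ => by
    by_contra hne
    exact hw (weight_lt (fun R ψ hψ => hψ.1) hφ hne)
  -- the factor system by the core is inner
  have hQsc := H85.stronglyClosed_of_isNormal hQ
  haveI hn : (Q.subgroupOf S).Normal := ⟨fun x hx g =>
    H85.conj_mem_of_mem_normalizer (P := Q) (H85.stronglyClosed_normalizer hQsc g.2) hx⟩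
  obtain ⟨E, hE⟩ := Cfsg.Agent.S5132.result p hS F Q hQsc
  have hsm := Cfsg.Agent.S5134.result p hS F hF Q hQsc _ E hE
  set θ := QuotientGroup.mk' (Q.subgroupOf S) with hθdef
  have hker : ∀ s : S, θ s = 1 ↔ (s : Ω) ∈ Q := fun s => by
    rw [hθdef, QuotientGroup.mk'_apply, QuotientGroup.eq_one_iff]
    rfl
  have hsur : Function.Surjective θ := QuotientGroup.mk'_surjective _
  have hS' : IsPGroup p (⊤ : Subgroup (S ⧸ Q.subgroupOf S)) :=
    (hS.to_quotient _).of_equiv Subgroup.topEquiv.symm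
  haveI : Finite (⊤ : Subgroup (S ⧸ Q.subgroupOf S)) := Subtype.finite
  have hlt : Nat.card (⊤ : Subgroup (S ⧸ Q.subgroupOf S)) < Nat.card S := by
    rw [Nat.card_congr Subgroup.topEquiv.toEquiv,
      Subgroup.card_eq_card_quotient_mul_card_subgroup (Q.subgroupOf S),
      H85.card_subgroupOf _ _ hQ.1]
    haveI := H85.finite_of_le hQ.1
    exact lt_mul_of_one_lt_right Nat.card_pos ((Subgroup.one_lt_card_iff_ne_bot Q).2 hcore)
  have htop : (⊤ : Subgroup (S ⧸ Q.subgroupOf S)) ≠ ⊥ := fun h =>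
    core_ne_top hF hcon (le_antisymm hQ.1 fun x hx =>
      (hker ⟨x, hx⟩).1 (Subgroup.mem_bot.1 (h.le (Subgroup.mem_top _))))
  -- automorphisms of order prime to `p` normalizing the preimage of a normal subgroup
  have hlift : ∀ (K' : Subgroup (S ⧸ Q.subgroupOf S)), K' ≠ ⊥ →
      (∀ y, y ∈ Subgroup.normalizer (K' : Set (S ⧸ Q.subgroupOf S))) →
      ∀ P', K' ≤ P' → ∀ a ∈ E.autGroup P', (orderOf a).Coprime p →
        (∀ x : P', (x : S ⧸ Q.subgroupOf S) ∈ K' → ((a x : P') : S ⧸ Q.subgroupOf S) ∈ K') →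
        a = 1 := by
    intro K' hK' hK'n P' hKP a ha hac hstab
    haveI := H85.finite_of_le (le_top : K' ≤ ⊤)
    have haE := (H85.mem_autGroup le_top).1 ha
    have hle : P' ⊔ K' ≤ P' := sup_le le_rfl hKP
    have hNK : normalizerIn (⊤ : Subgroup (S ⧸ Q.subgroupOf S)) K' = ⊤ :=
      top_le_iff.1 fun y _ => ⟨Subgroup.mem_top y, hK'n y⟩
    have hmem : P'.subtype.comp a.toMonoidHom ∈ E.normalizerHom K' P' := by
      refine H85.mem_normalizerHom.2 ⟨haE, by rw [hNK]; exact le_top,
        fun x => by rw [hNK]; exact Subgroup.mem_top _, _, H85.restrict haE hle, fun x => rfl, ?_⟩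
      have hi : H85.img ((P'.subtype.comp a.toMonoidHom).comp (Subgroup.inclusion hle)) K' ≤ K' := by
        intro y hy
        obtain ⟨z, hz, rfl⟩ := H85.mem_img.1 hy
        exact hstab _ hz
      haveI : Finite ↥(H85.img ((P'.subtype.comp a.toMonoidHom).comp (Subgroup.inclusion hle)) K') :=
        H85.finite_of_le hi
      refine Subgroup.eq_of_le_of_card_ge hi ?_
      rw [H85.img, Subgroup.card_map_of_injective (E.injective_of_mem (H85.restrict haE hle)),
        H85.card_subgroupOf _ _ le_sup_right]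
    set K := preimageAlong θ K' with hK
    have hKN : normalizerIn S K = S := le_normalizer_preimageAlong hK'n
    obtain ⟨φ, hφ, hA1, hA2, hA3, hA4⟩ := exists_lift_normalizer hsm hmem hKN
    obtain ⟨-, g, hg, hgx⟩ := htopN K ⟨preimageAlong_le _, fun R _ => by
        rw [hKN]; exact Subgroup.card_le_of_le (H85.normalizerIn_le R)⟩ hKN
      (fun h => (lt_preimageAlong hQ.1 hker hsur hK').not_ge (le_core h)) _ hφ
    refine eq_one_of_conj hS' le_top hac (g := θ ⟨g, hg⟩) (Subgroup.mem_top _) fun y => ?_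
    obtain ⟨s, hs⟩ := hsur y
    have hsP : (s : Ω) ∈ preimageAlong θ P' := mem_preimageAlong.2 ⟨s.2, hs ▸ y.2⟩
    have h1 := hA4 ⟨s, hsP⟩
    have h2 : (P'.subtype.comp a.toMonoidHom) ⟨θ s, hA3 ⟨s, hsP⟩⟩ = ((a y : P') : S ⧸ Q.subgroupOf S) :=
      congrArg (P'.subtype.comp a.toMonoidHom) (Subtype.ext hs)
    rw [← h2, h1, ← hs, ← map_inv, ← map_mul, ← map_mul]
    exact congrArg θ (Subtype.ext (hgx ⟨s, hsP⟩))
  have hWf' := subFunctor W hW1 hW2 hS'
  have hJ' : H88.StabTrivial p E (Cfsg.thompsonSubgroupAOf (⊤ : Subgroup (S ⧸ Q.subgroupOf S))) :=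
    fun P hWP _ a ha hac hstab => hlift _ (hWf'.ne_bot ⊤ le_rfl htop)
      (fun y => hWf'.normalizer_le ⊤ le_rfl y (Subgroup.le_normalizer (Subgroup.mem_top y)))
      P hWP a ha hac hstab
  have hZ' : FixTrivial p E ((⊤ : Subgroup (S ⧸ Q.subgroupOf S)) ⊓
      Subgroup.centralizer ((⊤ : Subgroup (S ⧸ Q.subgroupOf S)) : Set (S ⧸ Q.subgroupOf S))) := by
    intro P hZP _ a ha hac hfix
    refine hlift _ ?_ (fun y => H85.mem_normalizer_of_conj fun x hx => ?_) P hZP a ha hac
      fun x hx => by rw [hfix x hx]; exact hx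
    · haveI : Nontrivial (S ⧸ Q.subgroupOf S) := by
        by_contra hnt
        rw [not_nontrivial_iff_subsingleton] at hnt
        exact htop (Subsingleton.elim _ _)
      haveI := (hS.to_quotient (Q.subgroupOf S)).center_nontrivial
      obtain ⟨⟨z, hz⟩, hz1⟩ := exists_ne (1 : Subgroup.center (S ⧸ Q.subgroupOf S))
      intro h
      refine hz1 (Subtype.ext (Subgroup.mem_bot.1 (h.le ⟨Subgroup.mem_top z,
        Subgroup.mem_centralizer_iff.2 fun w _ => (Subgroup.mem_center_iff.1 hz w)⟩)))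
    · rw [Subgroup.mem_centralizer_iff.1 hx.2 y (Subgroup.mem_top y), mul_inv_cancel_right]
      exact hx
  have hEinner := ih1 _ ⊤ hS' E (H86.isSaturated_image hS hF hsm) hlt
    (hp.imp_right fun h => sectionFree_factor hS hF hQ hE h) hJ' hZ'
  refine fun P φ hφ => (le_inner_of_factor hS hF hQ hall hker fun P φ hφ => ?_) P hφ.1
  obtain ⟨χ, hχ, hA1, hA2, hA3, hA4⟩ := hsm.1.2 P φ hφ
  obtain ⟨-, g, -, hgx⟩ := hEinner _ hχ
  obtain ⟨s, rfl⟩ := hsur g
  exact ⟨s, fun x => (hA4 x).symm.trans (hgx _)⟩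

/-- The inner conclusion as an equality of the map sets. -/
theorem hom_eq_inner {Ω : Type*} [Group Ω] {S : Subgroup Ω} {F : FusionSystem S}
    (h : F ≤ innerFusionSystem S) (P : Subgroup Ω) : F.Hom P = (innerFusionSystem S).Hom P := by
  refine le_antisymm (h P) ?_
  rintro φ ⟨hP, g, hg, hgx⟩
  exact H85.hom_congr (F.conj_mem hP hg) fun x => (hgx x).symm

/-- A trivial centralizer system of a central subgroup leaves no automorphisms fixing it. -/
theorem fixTrivial_of_inner {Ω : Type u} [Group Ω] {S : Subgroup Ω} (hS : IsPGroup p S)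
    {F : FusionSystem S} {Z : Subgroup Ω} (hZ : Z ≤ S) (hZc : S ≤ centralizerIn S Z)
    (h : ∀ C : FusionSystem (centralizerIn S Z), F.IsCentralizerSystem Z C →
      ∀ P : Subgroup Ω, C.Hom P = (innerFusionSystem (centralizerIn S Z)).Hom P) :
    FixTrivial p F Z := by
  intro P hZP hP a ha hac hfix
  have hspec := H85.centralizerSystem_spec F Z hZ
  have haF := (H85.mem_autGroup hP).1 ha
  have hle : P ⊔ Z ≤ P := sup_le le_rfl hZP
  have hmem : P.subtype.comp a.toMonoidHom ∈ F.centralizerHom Z P :=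
    ⟨haF, hP.trans hZc, fun x => hZc (hP (a x).2), _, H85.restrict haF hle, fun x => rfl,
      fun x => congrArg Subtype.val (hfix ⟨x, hZP x.2⟩ x.2)⟩
  rw [← hspec P, h _ hspec] at hmem
  obtain ⟨-, g, hg, hgx⟩ := hmem
  exact eq_one_of_conj hS hP hac hg.1 hgx

end Thompson

end H87
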