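import Mathlib
import Cfsg.Agent.H86.Hyperfocal
import Cfsg.Agent.H88.Morphism

/-!
The hyperfocal subgroup acts on a strongly closed subgroup inside `O^p(Aut_F(T)) Inn(T)`.
-/
set_option autoImplicit false
set_option linter.style.haveILetI false

namespace H87

open Cfsg Cfsg.FusionSystem

variable {Ω : Type*} [Group Ω] {S : Subgroup Ω} [Finite S] {p : ℕ} [Fact p.Prime]

omit [Fact p.Prime] in
/-- If `a ^ m` commutes with `b` for some `m` coprime to `p` and `a` has `p`-power order then `a`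
commutes with `b`. -/
theorem commute_of_pow_coprime {A : Type*} [Group A] (hA : IsPGroup p A) {a b : A} {m : ℕ}
    (hm : m.Coprime p) (h : Commute (a ^ m) b) : Commute a b := by
  obtain ⟨k, hk⟩ := hA a
  have hc : m.Coprime (orderOf a) :=
    (hm.pow_right k).coprime_dvd_right (orderOf_dvd_of_pow_eq_one hk)
  obtain ⟨i, hi⟩ := exists_pow_eq_self_of_coprime hc
  exact hi ▸ h.pow_left i

theorem hyperfocal_action (hS : IsPGroup p S) {F : FusionSystem S} (hF : F.IsSaturated p)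
    {T : Subgroup Ω} (hT : F.StronglyClosed T) : ∀ x ∈ F.hyperfocalSubgroup p,
      ∃ α ∈ ((Cfsg.pResidual p ↥(F.autGroup T)).map (F.autGroup T).subtype ⊔ Cfsg.Inn ↥T :
        Subgroup (MulAut ↥T)), ∀ t : ↥T, ((α t : ↥T) : Ω) = x * (t : Ω) * x⁻¹ := by
  haveI := H85.finite_of_le hT.1
  set G := F.autGroup T with hG
  haveI : Finite G := H85.finite_autGroup F hT.1
  haveI hres : (Cfsg.pResidual p G).Normal := H86.pResidual_normal' p G
  haveI hinn : ((Cfsg.Inn T).subgroupOf G).Normal := by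
    refine ⟨fun n hn g => ?_⟩
    exact (inferInstance : (Cfsg.Inn T).Normal).conj_mem _ hn g
  set K := Cfsg.pResidual p G ⊔ (Cfsg.Inn T).subgroupOf G with hK
  have hA : IsPGroup p (G ⧸ K) := by
    intro x
    obtain ⟨g, rfl⟩ := QuotientGroup.mk'_surjective _ x
    obtain ⟨k, hk⟩ := H86.exists_pow_mem_pResidual p g
    exact ⟨k, by
      rw [← map_pow, QuotientGroup.mk'_apply, QuotientGroup.eq_one_iff]
      exact Subgroup.mem_sup_left hk⟩
  have hN : ∀ s ∈ S, s ∈ normalizerIn S T := fun s hs => ⟨hs, H88.sc_normalizer hT hs⟩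
  let c : S →* G := ((H85.conjAut S T).comp (Subgroup.inclusion hN)).codRestrict G fun s =>
    H85.autInducedBy_le_autGroup F hT.1 (H85.conjAut_range S T ▸ ⟨_, rfl⟩)
  let θ : S →* G ⧸ K := (QuotientGroup.mk' K).comp c
  have hθT : ∀ s : S, (s : Ω) ∈ T → θ s = 1 := by
    intro s hs
    show QuotientGroup.mk' K (c s) = 1
    rw [QuotientGroup.mk'_apply, QuotientGroup.eq_one_iff]
    exact Subgroup.mem_sup_right ⟨⟨s, hs⟩, MulEquiv.ext fun y => Subtype.ext rfl⟩
  -- every map transports `θ` by an inner automorphism of the quotient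
  have key : ∀ (P : Subgroup Ω) (φ : P →* Ω), φ ∈ F.Hom P → ∃ a : G ⧸ K, ∀ (x : P)
      (h₁ : (x : Ω) ∈ S) (h₂ : φ x ∈ S), θ ⟨φ x, h₂⟩ = a * θ ⟨x, h₁⟩ * a⁻¹ := by
    intro P φ hφ
    obtain ⟨ψ, hψ, hmod⟩ := H88.exists_mod_extension hS hF hT hφ
    have hψT := H85.restrict hψ (le_sup_right : T ≤ P ⊔ T)
    have himg : (ψ.comp (Subgroup.inclusion (le_sup_right : T ≤ P ⊔ T))).range = T :=
      H86.range_eq_self_of_le F hψT (by
        rintro _ ⟨z, rfl⟩; exact H88.sc_map_mem hT hψ z.2)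
    let β : G := ⟨H85.isoOf _ hψT himg,
      (H85.mem_autGroup hT.1).2 (H85.isFIso_isoOf _ hψT himg)⟩
    refine ⟨QuotientGroup.mk' K β, fun x h₁ h₂ => ?_⟩
    have hψx : ψ (Subgroup.inclusion le_sup_left x) ∈ S := H85.map_mem hψ _
    have h3 : θ ⟨φ x, h₂⟩ = θ ⟨_, hψx⟩ := by
      have hd : θ ((⟨_, hψx⟩ : S)⁻¹ * ⟨φ x, h₂⟩) = 1 := hθT _ (hmod x)
      rw [map_mul, map_inv, inv_mul_eq_one] at hd
      exact hd.symm
    have h4 : c ⟨_, hψx⟩ * β = β * c ⟨x, h₁⟩ := by
      refine Subtype.ext (MulEquiv.ext fun t => Subtype.ext ?_)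
      show ψ (Subgroup.inclusion le_sup_left x) *
          ψ (Subgroup.inclusion le_sup_right t) * (ψ (Subgroup.inclusion le_sup_left x))⁻¹ =
        ψ (Subgroup.inclusion le_sup_right ⟨(x : Ω) * (t : Ω) * (x : Ω)⁻¹,
          ((c ⟨x, h₁⟩ : MulAut T) t).2⟩)
      rw [← map_inv, ← map_mul, ← map_mul]
      rfl
    rw [h3]
    show QuotientGroup.mk' K (c _) = _ * QuotientGroup.mk' K (c _) * _
    rw [eq_mul_inv_iff_mul_eq, ← map_mul, ← map_mul, h4]
  have hle : F.hyperfocalSubgroup p ≤ θ.ker.map S.subtype := by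
    rw [hyperfocalSubgroup, Subgroup.closure_le]
    rintro _ ⟨P, α, x, hP, hα, rfl⟩
    suffices h : ∀ (a : F.autGroup P), a ∈ Cfsg.pResidual p (F.autGroup P) → ∀ y : P,
        θ ⟨((a : MulAut P) y : P), hP ((a : MulAut P) y).2⟩ = θ ⟨y, hP y.2⟩ by
      refine ⟨(⟨x, hP x.2⟩ : S)⁻¹ * ⟨_, hP ((α : MulAut P) x).2⟩, ?_, rfl⟩
      show θ _ = 1
      rw [map_mul, map_inv, h α hα x, inv_mul_cancel]
    intro a ha
    induction ha using Subgroup.closure_induction with
    | one => intro y; rfl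
    | mul a b _ _ iha ihb => intro y; exact (iha _).trans (ihb y)
    | inv a _ iha =>
      intro y
      have h1 := (iha ((a : MulAut P)⁻¹ y)).symm
      simpa using h1
    | mem a ha =>
      intro y
      obtain ⟨g, hg⟩ := key P _ ((H85.mem_autGroup hP).1 a.2)
      have hstep : ∀ z : P, θ ⟨((a : MulAut P) z : P), hP ((a : MulAut P) z).2⟩ =
          g * θ ⟨z, hP z.2⟩ * g⁻¹ := fun z => hg z (hP z.2) (hP ((a : MulAut P) z).2)
      have hpow : ∀ (k : ℕ) (z : P), θ ⟨(((a ^ k : F.autGroup P) : MulAut P) z : P),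
          hP (((a ^ k : F.autGroup P) : MulAut P) z).2⟩ = g ^ k * θ ⟨z, hP z.2⟩ * (g ^ k)⁻¹ := by
        intro k
        induction k with
        | zero => intro z; simp
        | succ k ih =>
          intro z
          have h1 := ih ((a : MulAut P) z)
          rw [hstep z] at h1
          simp only [pow_succ, Subgroup.coe_mul, MulAut.mul_apply]
          rw [h1]
          group
      have h1 := hpow (orderOf a) y
      simp only [pow_orderOf_eq_one, OneMemClass.coe_one, MulAut.one_apply] at h1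
      have h2 : Commute (g ^ orderOf a) (θ ⟨y, hP y.2⟩) := eq_mul_inv_iff_mul_eq.1 h1 |>.symm
      rw [hstep y, (commute_of_pow_coprime hA ha h2).eq, mul_inv_cancel_right]
  intro x hx
  obtain ⟨s, hs, rfl⟩ := hle hx
  refine ⟨(c s : MulAut T), ?_, fun t => rfl⟩
  have h : c s ∈ K := (QuotientGroup.eq_one_iff _).1 hs
  have h2 : K.map G.subtype ≤
      (Cfsg.pResidual p G).map G.subtype ⊔ Cfsg.Inn T := by
    rw [hK, Subgroup.map_sup]
    exact sup_le_sup le_rfl (Subgroup.map_comap_le _ _)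
  exact h2 ⟨c s, h, rfl⟩

end H87
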