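import Mathlib
import Cfsg.Agent.S5132
import Cfsg.Agent.S5134
import Cfsg.Agent.H86.Image
import Cfsg.Agent.H88.WeaklyNormal
import Cfsg.Agent.H89.CentralEltApps

/-!
A quasisimple fusion system lives over a nonabelian group.
-/
set_option autoImplicit false
set_option linter.style.haveILetI false

namespace H87

open Cfsg Cfsg.FusionSystem

variable {Ω : Type*} [Group Ω] {S : Subgroup Ω} [Finite S] {p : ℕ} [Fact p.Prime]

omit [Fact p.Prime] in
theorem stronglyClosed_center (F : FusionSystem S) : F.StronglyClosed F.center := by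
  refine ⟨H89.center_le F, fun P hP φ hφ x => ?_⟩
  have h : φ x = (x : Ω) := H89.center_fix hφ x.2 (hP x.2)
  exact h.symm ▸ hP x.2

theorem not_isMulCommutative_of_quasisimple (hS : IsPGroup p S) (F : FusionSystem S)
    (hq : F.Quasisimple p) : ¬ IsMulCommutative S := by
  intro hab
  obtain ⟨hF, hhyp, hsimple⟩ := hq
  have hsc := stronglyClosed_center F
  obtain ⟨E, hE⟩ := Cfsg.Agent.S5132.result p hS F F.center hsc
  obtain ⟨hEsat, hne, hnorm⟩ := hsimple E hE
  have hsm := Cfsg.Agent.S5134.result p hS F hF F.center hsc _ E hE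
  set θ := QuotientGroup.mk' (F.center.subgroupOf S) with hθ
  haveI : Finite (⊤ : Subgroup (S ⧸ F.center.subgroupOf S)) := Subtype.finite
  have hS' : IsPGroup p (⊤ : Subgroup (S ⧸ F.center.subgroupOf S)) :=
    (hS.to_quotient _).of_equiv Subgroup.topEquiv.symm
  have hcomm : ∀ a b : S ⧸ F.center.subgroupOf S, a * b = b * a := by
    intro a b
    obtain ⟨s, rfl⟩ := QuotientGroup.mk'_surjective (F.center.subgroupOf S) a
    obtain ⟨t, rfl⟩ := QuotientGroup.mk'_surjective (F.center.subgroupOf S) b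
    rw [← map_mul, ← map_mul, mul_comm' s t]
  have htop : E.IsNormal (⊤ : Subgroup (S ⧸ F.center.subgroupOf S)) :=
    H85.isNormal_of_abelian hS' hEsat (H86.stronglyClosed_self E)
      ⟨⟨fun a b => Subtype.ext (hcomm a b)⟩⟩
  have hinner : (innerFusionSystem (⊤ : Subgroup (S ⧸ F.center.subgroupOf S))).IsNormalIn E p := by
    refine ⟨H88.inner_weaklyNormal_of_isNormal hS' hEsat htop, fun α hα => ⟨1, one_mem _, ?_, ?_⟩⟩
    · intro x
      obtain ⟨-, g, -, hg⟩ := (H85.mem_autGroup le_rfl).1 hα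
      have h1 := hg x
      change ((α x : _) : S ⧸ F.center.subgroupOf S) = _ at h1
      rw [h1, hcomm g, mul_inv_cancel_right]
      rfl
    · intro c _
      rw [MulAut.one_apply, inv_mul_cancel]
      exact one_mem _
  have hfocal : ∀ (P : Subgroup Ω) (φ : P →* Ω), φ ∈ F.Hom P → ∀ x : P,
      (x : Ω)⁻¹ * φ x ∈ F.center := by
    intro P φ hφ x
    obtain ⟨hPS, hφS⟩ := F.le_of_mem hφ
    have hSn : F.IsNormal S := H85.isNormal_of_abelian hS hF (H86.stronglyClosed_self F) hab
    obtain ⟨ψ, hψ, hext, -⟩ := hSn.2 P φ hφ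
    obtain ⟨χ', hχ', hA, hB, hC, he⟩ := hsm.1.2 _ _ hψ
    rcases hnorm _ _ hinner with h | ⟨-, h⟩
    · exact absurd h hne
    rw [← h] at hχ'
    obtain ⟨-, g, -, hg⟩ := hχ'
    have h1 := he (Subgroup.inclusion le_sup_left x)
    rw [hg, hcomm g, mul_inv_cancel_right] at h1
    have h2 : θ ((⟨(x : Ω), hPS x.2⟩ : S)⁻¹ * ⟨φ x, hφS x⟩) = 1 := by
      rw [map_mul, map_inv, show (⟨φ x, hφS x⟩ : S) = ⟨ψ (Subgroup.inclusion le_sup_left x),
        hB _⟩ from Subtype.ext (hext x).symm, ← h1]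
      exact inv_mul_cancel _
    exact (hE.2.1 _).1 h2
  have hle : S ≤ F.center := by
    intro s hs
    have hs' : s ∈ F.hyperfocalSubgroup p := hhyp.symm ▸ hs
    refine (Subgroup.closure_le _).2 ?_ hs'
    rintro y ⟨P, α, x, hP, -, rfl⟩
    exact hfocal P _ ((H85.mem_autGroup hP).1 α.2) x
  refine hne ((Subgroup.eq_bot_iff_forall _).2 fun y _ => ?_)
  obtain ⟨s, rfl⟩ := QuotientGroup.mk'_surjective (F.center.subgroupOf S) y
  exact (hE.2.1 s).2 (hle s.2)

end H87
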