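import Mathlib
import Cfsg.Agent.S0664
import Cfsg.Agent.H88.ThompsonTransport
import Cfsg.Agent.H89.CentralEltApps
import Cfsg.Agent.H87.NormalFunctor

/-!
For odd `p`, `Qd(p)`-free saturated systems have `Z(J(S))` normal and are solvable.
-/
set_option autoImplicit false
set_option linter.style.haveILetI false

namespace H87

open Cfsg Cfsg.FusionSystem

universe u

section ZJ

variable {p : ℕ} [Fact p.Prime]

omit [Fact p.Prime] in
theorem subW_zjSub {G : Type u} [Group G] (D : Subgroup G) :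
    subW (fun (Q : Type u) (_ : Group Q) => H88.zjSub Q) D = Cfsg.centerThompsonAOf D :=
  (H88.centerThompsonAOf_eq_map D).symm

theorem zjSub_ne_bot (Q : Type u) [Group Q] [Finite Q] (hQ : IsPGroup p Q) (hne : Nontrivial Q) :
    H88.zjSub Q ≠ ⊥ := by
  intro h
  refine H11.centerThompsonAOf_ne_bot (p := p) (D := (⊤ : Subgroup Q))
    (hQ.of_equiv Subgroup.topEquiv.symm) top_ne_bot ?_
  rw [H88.centerThompsonAOf_eq_map, Subgroup.map_eq_bot_iff, Subgroup.ker_subtype, le_bot_iff,
    eq_bot_iff]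
  intro x hx
  have h1 := H88.zjSub_map Subgroup.topEquiv hx
  rw [h, Subgroup.mem_bot] at h1
  exact Subgroup.mem_bot.2 (Subgroup.topEquiv.injective (h1.trans (map_one _).symm))

omit [Fact p.Prime] in
theorem zjSub_iso (Q R : Type u) [Group Q] [Group R] (φ : Q ≃* R) :
    (H88.zjSub Q).map φ.toMonoidHom = H88.zjSub R := by
  refine le_antisymm ?_ (fun y hy => ⟨φ.symm y, H88.zjSub_map φ.symm hy, φ.apply_symm_apply y⟩)
  rintro _ ⟨x, hx, rfl⟩
  exact H88.zjSub_map φ hx

/-- `Z(J(S))` is normal in every `Qd(p)`-free saturated system, `p` odd. -/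
theorem isNormal_zj (hp : p ≠ 2) {Ω : Type u} [Group Ω] {S : Subgroup Ω} [Finite S]
    (hS : IsPGroup p S) {F : FusionSystem S} (hF : F.IsSaturated p)
    (hfree : F.IsSectionFree p ↥(Cfsg.qd p)) : F.IsNormal (Cfsg.centerThompsonAOf S) := by
  rw [← subW_zjSub]
  refine isNormal_subW (H := ↥(Cfsg.qd p)) _ (fun Q _ _ h1 h2 => zjSub_ne_bot (p := p) Q h1 h2)
    (fun Q R _ _ _ _ φ => zjSub_iso Q R φ) (fun L _ _ P hc hL => ?_) Ω S hS F hF hfree
  show (subW (fun (Q : Type u) (_ : Group Q) => H88.zjSub Q) (P : Subgroup L)).Normal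
  rw [subW_zjSub]
  exact Cfsg.Agent.S0664.result hp (fun ⟨K, R, hR, he⟩ => hL ⟨K, R, hR, he⟩) hc P

end ZJ

section Solvable

variable {Ω : Type u} [Group Ω] {S : Subgroup Ω} [Finite S] {p : ℕ} [Fact p.Prime]

omit [Finite S] [Fact p.Prime] in
/-- Transport of a system along an equality of the underlying subgroups. -/
theorem exists_cast_system {H : Type*} [Group H] {T : Subgroup Ω} (hT : T = S)
    {D : FusionSystem T} (hsat : D.IsSaturated p) (hfree : D.IsSectionFree p H) :
    ∃ D' : FusionSystem S, (∀ P, D'.Hom P = D.Hom P) ∧ D'.IsSaturated p ∧ D'.IsSectionFree p H ∧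
      ∀ R, D.IsNormal R → D'.IsNormal R := by
  subst hT
  exact ⟨D, fun P => rfl, hsat, hfree, fun R h => h⟩

/-- A `Qd(p)`-free saturated system is solvable (`p` odd). -/
theorem isSolvableSystem_of_free (hp : p ≠ 2) (hS : IsPGroup p S) {F : FusionSystem S}
    (hF : F.IsSaturated p) (hfree : F.IsSectionFree p ↥(Cfsg.qd p)) : F.IsSolvableSystem := by
  intro R hR hne hn E hE
  have hRS := hR.1
  haveI := H85.finite_of_le hRS
  have hNS : normalizerIn S R = S :=
    le_antisymm inf_le_left fun g hg => ⟨hg, H85.stronglyClosed_normalizer hR hg⟩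
  have hRn : F.IsFullyNormalized R := ⟨hRS, fun Q _ => by
    rw [hNS]; exact Subgroup.card_le_of_le (H85.normalizerIn_le Q)⟩
  have hNspec := H85.normalizerSystem_spec F R hRS
  obtain ⟨D, hD, hDsat, hDfree, hDn⟩ := exists_cast_system hNS
    (H85.isSaturated_normalizerSystem hS hF hRn _ hNspec)
    (sectionFree_normalizerSystem hS hF hfree hRn hNspec)
  have hDR := hDn R (H89.isNormal_normalizerSystem hRS hNspec)
  obtain ⟨hQS, hker, hrange, hEhom⟩ := hE
  have hED : D.IsFactorSystem R (QuotientGroup.mk' (R.subgroupOf S)) E := by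
    refine ⟨hQS, hker, hrange, fun P' φ' => ⟨fun h => ?_, fun ⟨h1, φ, hφ, h2⟩ => ?_⟩⟩
    · obtain ⟨h1, φ, hφ, h2⟩ := (hEhom P' φ').1 h
      refine ⟨h1, φ, ?_, h2⟩
      have hRP : R ≤ preimageAlong (QuotientGroup.mk' (R.subgroupOf S)) P' :=
        le_factor_preimage hQS hker P'
      have hsup := sup_le (le_refl (preimageAlong (QuotientGroup.mk' (R.subgroupOf S)) P')) hRP
      rw [hD]
      refine H85.mem_normalizerHom.2 ⟨hφ, by rw [hNS]; exact factor_preimage_le P',
        fun x => by rw [hNS]; exact H85.map_mem hφ x, _, H85.restrict hφ hsup, fun x => rfl, ?_⟩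
      have hi : H85.img (φ.comp (Subgroup.inclusion hsup)) R ≤ R := by
        intro y hy
        obtain ⟨z, hz, rfl⟩ := H85.mem_img.1 hy
        exact H86.map_mem_of_stronglyClosed hR hφ (x := Subgroup.inclusion hsup z) hz
      haveI : Finite ↥(H85.img (φ.comp (Subgroup.inclusion hsup)) R) := H85.finite_of_le hi
      refine Subgroup.eq_of_le_of_card_ge hi ?_
      rw [H85.img, Subgroup.card_map_of_injective (F.injective_of_mem (H85.restrict hφ hsup)),
        H85.card_subgroupOf _ _ le_sup_right]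
    · rw [hD] at hφ
      exact (hEhom P' φ').2 ⟨h1, φ, hφ.1, h2⟩
  have hsm := Cfsg.Agent.S5134.result p hS F hF R hR (QuotientGroup.mk' (R.subgroupOf S)) E
    ⟨hQS, hker, hrange, hEhom⟩
  have hEfree := sectionFree_factor hS hDsat hDR hED hDfree
  haveI : Finite (⊤ : Subgroup (S ⧸ R.subgroupOf S)) := Subtype.finite
  have hS' : IsPGroup p (⊤ : Subgroup (S ⧸ R.subgroupOf S)) :=
    (hS.to_quotient _).of_equiv Subgroup.topEquiv.symm
  have htop : (⊤ : Subgroup (S ⧸ R.subgroupOf S)) ≠ ⊥ := fun h =>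
    hne (le_antisymm hRS fun x hx =>
      (hker ⟨x, hx⟩).1 (Subgroup.mem_bot.1 (h.le (Subgroup.mem_top _))))
  intro hcore
  refine H11.centerThompsonAOf_ne_bot hS' htop (eq_bot_iff.2 ?_)
  exact hcore ▸ le_core (isNormal_zj hp hS' (H86.isSaturated_image hS hF hsm) hEfree)

end Solvable

end H87
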