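import Mathlib
import Cfsg.Agent.H87.ThompsonFusion

/-!
A saturated system (`p` odd or `S₄`-free) in which the nontrivial characteristic subgroups of `S`
have `p`-groups of automorphisms is inner.
-/
set_option autoImplicit false
set_option linter.style.haveILetI false

namespace H87

open Cfsg Cfsg.FusionSystem

universe u

variable {p : ℕ} [Fact p.Prime]

/-- Characteristic subgroups have `p`-groups of automorphisms in the system. -/
def CharAutP (p : ℕ) {Ω : Type u} [Group Ω] {S : Subgroup Ω} (F : FusionSystem S) : Prop :=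
  ∀ Q : Subgroup Ω, Q ≤ S → Q ≠ ⊥ → (Q.subgroupOf S).Characteristic → IsPGroup p (F.autGroup Q)

omit [Fact p.Prime] in
theorem thompson_characteristic (X : Type u) [Group X] :
    (Cfsg.thompsonSubgroupA X).Characteristic :=
  Subgroup.characteristic_iff_map_eq.2 fun φ => H88.thompsonSubgroupA_equiv φ

/-- An automorphism `p`-group of `J` leaves no stabilizing automorphisms of order prime to `p`. -/
theorem stabTrivial_thompson {Ω : Type u} [Group Ω] {S : Subgroup Ω} [Finite S]
    (hS : IsPGroup p S) {F : FusionSystem S}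
    (h : IsPGroup p (F.autGroup (Cfsg.thompsonSubgroupAOf S))) :
    H88.StabTrivial p F (Cfsg.thompsonSubgroupAOf S) := by
  intro P hJP hP a ha hac hstab
  set J := Cfsg.thompsonSubgroupAOf S with hJ
  have hPS : P ≤ S := hP.trans (H85.normalizerIn_le J)
  have hJS : J ≤ S := Subgroup.map_subtype_le _
  haveI := H85.finite_of_le hJS
  have haF := (H85.mem_autGroup hPS).1 ha
  set φ : J →* Ω := (P.subtype.comp a.toMonoidHom).comp (Subgroup.inclusion hJP) with hφdef
  have hφ : φ ∈ F.Hom J := H85.restrict haF hJP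
  have hr : φ.range = J := Subgroup.eq_of_le_of_card_ge
    (by rintro _ ⟨x, rfl⟩; exact hstab _ x.2)
    (by rw [← Nat.card_congr (MonoidHom.ofInjective (F.injective_of_mem hφ)).toEquiv])
  set b : MulAut J := H85.isoOf φ hφ hr with hb
  have hbmem : b ∈ F.autGroup J := (H85.mem_autGroup hJS).2 (H85.isFIso_isoOf φ hφ hr)
  have hpow : ∀ (i : ℕ) (x : J), (a ^ i) (Subgroup.inclusion hJP x) =
      Subgroup.inclusion hJP ((b ^ i) x) := by
    intro i
    induction i with
    | zero => intro x; simp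
    | succ i ih =>
      intro x
      rw [pow_succ', MulAut.mul_apply, ih, pow_succ', MulAut.mul_apply]
      exact Subtype.ext rfl
  have hb1 : b ^ orderOf a = 1 := by
    refine MulEquiv.ext fun x => Subgroup.inclusion_injective hJP ?_
    rw [← hpow, pow_orderOf_eq_one]
    rfl
  have hb : b = 1 :=
    H88.eq_one_of_isPGroup h hbmem (hac.coprime_dvd_left (orderOf_dvd_of_pow_eq_one hb1))
  have hfix : ∀ x : P, (x : Ω) ∈ J → a x = x := by
    intro x hx
    have h1 := hpow 1 ⟨x, hx⟩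
    rwa [pow_one, hb, one_pow, MulAut.one_apply] at h1
  refine eq_one_of_stable (hS.to_le hPS) hac hfix fun x => ?_
  -- the displacement centralizes `J`
  have hxS : ((a x * x⁻¹ : P) : Ω) ∈ S := hPS (a x * x⁻¹).2
  refine ⟨⟨_, hxS⟩, centralizer_thompson_le S (Subgroup.mem_centralizer_iff.2 fun j hj => ?_), rfl⟩
  have hjJ : (j : Ω) ∈ J := ⟨j, hj, rfl⟩
  set j' : P := ⟨j, hJP hjJ⟩ with hj'
  have h1 : a (x⁻¹ * j' * x) = x⁻¹ * j' * x :=
    hfix _ (H85.conj_mem_of_mem_normalizer' (hP x.2).2 hjJ)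
  rw [map_mul, map_mul, map_inv, hfix j' hjJ] at h1
  have h2 : j' * (a x * x⁻¹) = a x * x⁻¹ * j' := by
    calc j' * (a x * x⁻¹) = a x * ((a x)⁻¹ * j' * a x) * x⁻¹ := by group
      _ = a x * (x⁻¹ * j' * x) * x⁻¹ := by rw [h1]
      _ = a x * x⁻¹ * j' := by group
  exact Subtype.ext (congrArg (fun z : P => (z : Ω)) h2)

/-- **The characteristic subgroup criterion.** -/
theorem le_inner_of_charAut (Ω : Type u) [Group Ω] (S : Subgroup Ω) [Finite S] (hS : IsPGroup p S)
    (F : FusionSystem S) (hF : F.IsSaturated p)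
    (hp : p ≠ 2 ∨ F.IsSectionFree p (Equiv.Perm (Fin 4))) (h : CharAutP p F) :
    F ≤ innerFusionSystem S := by
  refine fusion_induction p (fun Ω _ S F => (p ≠ 2 ∨ F.IsSectionFree p (Equiv.Perm (Fin 4))) →
    CharAutP p F → F ≤ innerFusionSystem S) ?_ Ω S hS F hF hp h
  intro Ω _ S _ hS F hF ih1 ih2 hp h
  by_cases hS1 : S = ⊥
  · refine le_inner_of_coprime_trivial hS hF fun R hR a _ _ => MulEquiv.ext fun x => Subtype.ext ?_
    have hRS : R ≤ S := by
      rcases hR with rfl | hR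
      · exact le_rfl
      · exact hR.1.1
    rw [Subgroup.mem_bot.1 ((hRS.trans hS1.le) (a x).2)]
    exact (Subgroup.mem_bot.1 ((hRS.trans hS1.le) x.2)).symm
  haveI : Nontrivial S := (Subgroup.nontrivial_iff_ne_bot S).2 hS1
  have hJchar : ((Cfsg.thompsonSubgroupAOf S).subgroupOf S).Characteristic := by
    rw [Cfsg.thompsonSubgroupAOf, Subgroup.subgroupOf,
      Subgroup.comap_map_eq_self_of_injective Subtype.coe_injective]
    exact thompson_characteristic S
  have hJ1 : Cfsg.thompsonSubgroupAOf S ≠ ⊥ := fun he => thompson_ne_bot (p := p) S hS inferInstance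
    (by
      rw [Cfsg.thompsonSubgroupAOf, Subgroup.map_eq_bot_iff, Subgroup.ker_subtype, le_bot_iff] at he
      exact he)
  have hJ := stabTrivial_thompson hS (h _ (Subgroup.map_subtype_le _) hJ1 hJchar)
  set Z := S ⊓ Subgroup.centralizer (S : Set Ω) with hZdef
  have hZS : Z ≤ S := inf_le_left
  haveI := H85.finite_of_le hZS
  have hZeq : Z.subgroupOf S = Subgroup.center S := by
    ext s
    rw [Subgroup.mem_subgroupOf, Subgroup.mem_center_iff]
    refine ⟨fun hs t => Subtype.ext (Subgroup.mem_centralizer_iff.1 hs.2 t t.2),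
      fun hs => ⟨s.2, Subgroup.mem_centralizer_iff.2 fun t ht => congrArg Subtype.val (hs ⟨t, ht⟩)⟩⟩
  have hZchar : (Z.subgroupOf S).Characteristic := by rw [hZeq]; infer_instance
  have hZ1 : Z ≠ ⊥ := by
    intro he
    haveI := hS.center_nontrivial
    obtain ⟨z, hz1⟩ := exists_ne (1 : Subgroup.center S)
    refine hz1 (Subtype.ext (Subtype.ext ?_))
    have h1 : ((z : S) : Ω) ∈ Z := hZeq.ge z.2
    rw [he, Subgroup.mem_bot] at h1
    exact h1
  have hZN : ∀ g ∈ S, g ∈ Subgroup.normalizer (Z : Set Ω) := fun g hg => by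
    refine H85.mem_normalizer_of_conj fun x hx => ?_
    rw [Subgroup.mem_centralizer_iff.1 hx.2 g hg, mul_inv_cancel_right]
    exact hx
  have hNS : normalizerIn S Z = S := le_antisymm inf_le_left fun g hg => ⟨hg, hZN g hg⟩
  have hZn : F.IsFullyNormalized Z := ⟨hZS, fun R _ => by
    rw [hNS]; exact Subgroup.card_le_of_le (H85.normalizerIn_le R)⟩
  refine le_inner_thompson Ω S hS F hF hp hJ ?_
  by_cases hn : F.IsNormal Z
  swap
  · -- the normalizer system of `Z(S)` is proper
    intro P hZP hP a ha hac hfix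
    haveI := H85.finite_of_le (H85.normalizerIn_le (S := S) Z)
    have hspec := H85.normalizerSystem_spec F Z hZS
    have hchar : CharAutP p (H85.normalizerSystem F Z hZS) := by
      intro Q hQ hQ1 hQc
      refine (h Q (hQ.trans (H85.normalizerIn_le Z)) hQ1 ?_).to_le
        (H88.normalizerSystem_autGroup_le hspec)
      revert hQ hQc
      rw [hNS]
      exact fun _ hc => hc
    have hle := ih2 _ (hS.to_le (H85.normalizerIn_le Z)) (H85.normalizerSystem F Z hZS)
      (H85.isSaturated_normalizerSystem hS hF hZn _ hspec)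
      (Subgroup.card_le_of_le (H85.normalizerIn_le Z)) (weight_normalizerSystem_lt hZS hn)
      (hp.imp_right fun h' => sectionFree_normalizerSystem hS hF h' hZn hspec) hchar
    have hPN : P ≤ normalizerIn S Z := by rw [hNS]; exact hP
    have haE := H88.mem_normalizerSystem_autGroup hspec hZP hPN ha
      fun x hx => by rw [hfix x hx]; exact hx
    obtain ⟨-, g, hg, hgx⟩ := hle P ((H85.mem_autGroup hPN).1 haE)
    exact eq_one_of_conj hS hP hac hg.1 hgx
  -- `Z(S)` is normal, hence central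
  have hZfix : ∀ (P : Subgroup Ω) (φ : P →* Ω), φ ∈ F.Hom P → ∀ x : P, (x : Ω) ∈ Z → φ x = x := by
    obtain ⟨-, Zs, hZs⟩ := H85.fullyAutomized_of_fullyNormalized hS hF hZn
    haveI := H85.finite_autGroup F hZS
    have htriv : ∀ α ∈ F.autGroup Z, α = 1 := by
      intro α hα
      have htop : (⟨α, hα⟩ : F.autGroup Z) ∈ (Zs : Subgroup (F.autGroup Z)) :=
        (Zs.3 ((h Z hZS hZ1 hZchar).to_subgroup ⊤) le_top).le (Subgroup.mem_top _)
      rw [hZs] at htop
      obtain ⟨g, hg, hgα⟩ := H85.mem_autInducedBy.1 htop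
      refine MulEquiv.ext fun z => Subtype.ext ((hgα z).trans ?_)
      rw [Subgroup.mem_centralizer_iff.1 z.2.2 g hg, mul_inv_cancel_right]
      rfl
    intro P φ hφ x hx
    obtain ⟨ψ, hψ, hext, hmap⟩ := hn.2 P φ hφ
    have hle : Z ≤ P ⊔ Z := le_sup_right
    have hr : (ψ.comp (Subgroup.inclusion hle)).range = Z := by
      refine Subgroup.eq_of_le_of_card_ge ?_ (by
        rw [← Nat.card_congr (MonoidHom.ofInjective
          (F.injective_of_mem (H85.restrict hψ hle))).toEquiv])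
      rintro _ ⟨z, rfl⟩
      exact (show H85.img ψ Z = Z from hmap).le (H85.apply_mem_img z.2)
    have h1 := htriv _ ((H85.mem_autGroup hZS).2 (H85.isFIso_isoOf _ (H85.restrict hψ hle) hr))
    have h2 : ψ (Subgroup.inclusion hle ⟨x, hx⟩) = x :=
      congrArg (fun f : MulAut Z => ((f ⟨x, hx⟩ : Z) : Ω)) h1
    exact (hext x).symm.trans h2
  intro P hZP hP a ha hac hfix
  -- the factor system modulo the centre
  have hZsc := H85.stronglyClosed_of_isNormal hn
  haveI hZnorm : (Z.subgroupOf S).Normal := by rw [hZeq]; infer_instance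
  obtain ⟨E, hE⟩ := Cfsg.Agent.S5132.result p hS F Z hZsc
  have hsm := Cfsg.Agent.S5134.result p hS F hF Z hZsc _ E hE
  set θ := QuotientGroup.mk' (Z.subgroupOf S) with hθdef
  have hker : ∀ s : S, θ s = 1 ↔ (s : Ω) ∈ Z := fun s => by
    rw [hθdef, QuotientGroup.mk'_apply, QuotientGroup.eq_one_iff]
    rfl
  have hsur : Function.Surjective θ := QuotientGroup.mk'_surjective _
  have hS' : IsPGroup p (⊤ : Subgroup (S ⧸ Z.subgroupOf S)) :=
    (hS.to_quotient _).of_equiv Subgroup.topEquiv.symm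
  haveI : Finite (⊤ : Subgroup (S ⧸ Z.subgroupOf S)) := Subtype.finite
  have hlt : Nat.card (⊤ : Subgroup (S ⧸ Z.subgroupOf S)) < Nat.card S := by
    rw [Nat.card_congr Subgroup.topEquiv.toEquiv,
      Subgroup.card_eq_card_quotient_mul_card_subgroup (Z.subgroupOf S),
      H85.card_subgroupOf _ _ hZS]
    exact lt_mul_of_one_lt_right Nat.card_pos ((Subgroup.one_lt_card_iff_ne_bot Z).2 hZ1)
  have hchar : CharAutP p E := by
    intro Q' _ hQ'1 hQ'c
    set K := preimageAlong θ Q' with hK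
    have hKS : K ≤ S := preimageAlong_le Q'
    haveI := H85.finite_of_le hKS
    haveI := H85.finite_of_le (le_top : Q' ≤ ⊤)
    have hQ'c' : ∀ (f : MulAut (S ⧸ Z.subgroupOf S)) (y : S ⧸ Z.subgroupOf S), y ∈ Q' → f y ∈ Q' := by
      intro f y hy
      set f' : MulAut (⊤ : Subgroup (S ⧸ Z.subgroupOf S)) :=
        MulAut.congr Subgroup.topEquiv.symm f with hf'
      have hmem : f' ⟨y, Subgroup.mem_top y⟩ ∈ Q'.subgroupOf ⊤ :=
        (Subgroup.characteristic_iff_map_eq.1 hQ'c f').le ⟨⟨y, Subgroup.mem_top y⟩, hy, rfl⟩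
      exact hmem
    have hKc : (K.subgroupOf S).Characteristic := by
      refine Subgroup.characteristic_iff_map_le.2 fun f => ?_
      rintro _ ⟨s, hs, rfl⟩
      obtain ⟨hsS, hs'⟩ := mem_preimageAlong.1 hs
      refine mem_preimageAlong.2 ⟨(f s).2, ?_⟩
      have hmap : (Z.subgroupOf S).map f.toMonoidHom = Z.subgroupOf S :=
        Subgroup.characteristic_iff_map_eq.1 hZchar f
      exact hQ'c' (QuotientGroup.congr (Z.subgroupOf S) (Z.subgroupOf S) f hmap) _ hs'
    have hK1 : K ≠ ⊥ := fun he => hZ1 (le_bot_iff.1 (he ▸ le_preimageAlong hZS hker Q'))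
    haveI := H85.finite_autGroup E (le_top : Q' ≤ ⊤)
    rintro ⟨α, hα⟩
    obtain ⟨φ, hφ, hA1, hA2, hA3, hA4⟩ := hsm.2.2 Q' le_top _ ((H85.mem_autGroup le_top).1 hα)
    have hr : φ.range = K := by
      refine Subgroup.eq_of_le_of_card_ge ?_ (by
        rw [← Nat.card_congr (MonoidHom.ofInjective (F.injective_of_mem hφ)).toEquiv])
      rintro _ ⟨x, rfl⟩
      refine mem_preimageAlong.2 ⟨hA2 x, ?_⟩
      rw [← hA4 x]
      exact (α _).2
    set b : MulAut K := H85.isoOf φ hφ hr with hb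
    obtain ⟨k, hk⟩ := h K hKS hK1 hKc ⟨b, (H85.mem_autGroup hKS).2 (H85.isFIso_isoOf φ hφ hr)⟩
    have hbk : b ^ p ^ k = 1 := congrArg Subtype.val hk
    refine ⟨k, Subtype.ext (MulEquiv.ext fun y => ?_)⟩
    have hpow : ∀ (i : ℕ) (x : K), (α ^ i) ⟨θ ⟨x, hA1 x.2⟩, hA3 x⟩ =
        ⟨θ ⟨((b ^ i) x : K), hA1 ((b ^ i) x).2⟩, hA3 _⟩ := by
      intro i
      induction i with
      | zero => intro x; rfl
      | succ i ih =>
        intro x
        rw [pow_succ', MulAut.mul_apply, ih]
        refine Subtype.ext ?_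
        refine (hA4 ((b ^ i) x)).trans (congrArg θ (Subtype.ext ?_))
        rw [pow_succ', MulAut.mul_apply]
        rfl
    obtain ⟨s, hs⟩ := hsur y
    have hsK : (s : Ω) ∈ K := mem_preimageAlong.2 ⟨s.2, hs ▸ y.2⟩
    have h1 := hpow (p ^ k) ⟨s, hsK⟩
    rw [hbk] at h1
    show (α ^ p ^ k) y = y
    rw [show y = ⟨θ ⟨(s : Ω), hA1 hsK⟩, hA3 ⟨s, hsK⟩⟩ from Subtype.ext hs.symm]
    exact h1
  have hEinner := ih1 _ ⊤ hS' E (H86.isSaturated_image hS hF hsm) hlt
    (hp.imp_right fun h' => sectionFree_factor hS hF hn hE h') hchar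
  have hall : ∀ R, F.Hom R ⊆ innerOnHom F Z R := by
    intro R φ hφ
    obtain ⟨ψ, hψ, hext, -⟩ := hn.2 R φ hφ
    refine ⟨hφ, ψ, hψ, hext, 1, S.one_mem, fun q => ?_⟩
    rw [hZfix _ ψ hψ (Subgroup.inclusion le_sup_right q) q.2]
    simp
  have hinner : F ≤ innerFusionSystem S := le_inner_of_factor hS hF hn hall hker fun R φ hφ => by
    obtain ⟨χ, hχ, hA1, hA2, hA3, hA4⟩ := hsm.1.2 R φ hφ
    obtain ⟨-, g, -, hgx⟩ := hEinner _ hχ
    obtain ⟨s, rfl⟩ := hsur g
    exact ⟨s, fun x => (hA4 x).symm.trans (hgx _)⟩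
  obtain ⟨-, g, hg, hgx⟩ := hinner P ((H85.mem_autGroup hP).1 ha)
  exact eq_one_of_conj hS hP hac hg hgx

end H87
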