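import Cfsg.Agent.H87.GoodExtension
import Cfsg.Agent.H88.WeaklyNormal
import Cfsg.Agent.H89.CentralEltApps
import Cfsg.Agent.H86.Image
import Cfsg.Agent.S5132
import Cfsg.Agent.S5134

/-!
Quasisimple subnormal subsystems centralize normal subgroups.
-/
set_option autoImplicit false
set_option linter.style.haveILetI false
set_option linter.unusedSectionVars false

open Cfsg Cfsg.FusionSystem
open scoped Pointwise

namespace H87

universe u

variable {Ω : Type u} [Group Ω] {S : Subgroup Ω}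

/-- The maps of `C` that are also maps of `G`. -/
def interSys {T W : Subgroup Ω} (C : FusionSystem T) (G : FusionSystem W) (hTW : T ≤ W) :
    FusionSystem T where
  Hom P := C.Hom P ∩ G.Hom P
  le_of_mem h := C.le_of_mem h.1
  injective_of_mem h := C.injective_of_mem h.1
  conj_mem hP hg := ⟨C.conj_mem hP hg, G.conj_mem (hP.trans hTW) (hTW hg)⟩
  comp_mem hφ hψ h := ⟨C.comp_mem hφ.1 hψ.1 h, G.comp_mem hφ.2 hψ.2 h⟩
  inv_mem := by
    intro P φ hφ
    obtain ⟨f, hf, hfe⟩ := C.inv_mem hφ.1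
    obtain ⟨g, hg, hge⟩ := G.inv_mem hφ.2
    refine ⟨f, ⟨hf, H85.hom_congr hg ?_⟩, hfe⟩
    rintro ⟨_, x, rfl⟩
    exact (hge x).trans (hfe x).symm

variable [Finite S] {p : ℕ} [Fact p.Prime]

/-- The intersection of a normal subgroup with the base of a normal subsystem is normal in it. -/
theorem isNormal_inf_base (hS : IsPGroup p S) {F : FusionSystem S} {U : Subgroup Ω}
    {D : FusionSystem U} (hD : D.IsNormalIn F p) {R : Subgroup Ω} (hR : F.IsNormal R) :
    D.IsNormal (R ⊓ U) := by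
  obtain ⟨⟨hDs, -, hsub, hUc, -, -⟩, -⟩ := hD
  have : Finite U := H85.finite_of_le hUc.1
  have hRc := H85.stronglyClosed_of_isNormal hR
  have hsc2 : F.StronglyClosed (R ⊓ U) :=
    ⟨inf_le_left.trans hR.1, fun Q hQ φ hφ x =>
      ⟨hRc.2 Q (hQ.trans inf_le_left) φ hφ x, hUc.2 Q (hQ.trans inf_le_right) φ hφ x⟩⟩
  refine H88.isNormal_of_char_wc (hS.to_le hUc.1) hDs
    ⟨inf_le_right, fun Q hQ φ hφ x => hsc2.2 Q hQ φ (hsub Q hφ) x⟩ fun C hCY hC => ?_
  refine ⟨hCY.trans inf_le_right, fun φ hφ => ?_⟩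
  refine H88.range_eq_of_le (hCY.trans inf_le_right) hφ fun x => ?_
  obtain ⟨ψ, hψ, hψx, -⟩ := hR.2 C φ (hsub C hφ)
  rw [← hψx x]
  exact H88.char_map_mem hsc2 hCY hC hψ (inf_le_left.trans le_sup_right) x.2

/-- A system all of whose `p'`-automorphisms are trivial modulo `Z` has hyperfocal subgroup in
`Z`. -/
theorem hyperfocal_le_of_trivial {F : FusionSystem S} {Z : Subgroup Ω}
    (h : ∀ P : Subgroup Ω, P ≤ S → ∀ α ∈ F.autGroup P, Nat.Coprime (orderOf α) p →
      ∀ x : P, (x : Ω)⁻¹ * (α x : Ω) ∈ Z) : F.hyperfocalSubgroup p ≤ Z := by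
  refine (Subgroup.closure_le _).2 ?_
  rintro _ ⟨P, α, x, hP, hα, rfl⟩
  let K : Subgroup (F.autGroup P) :=
    { carrier := {β | ∀ x : P, (x : Ω)⁻¹ * ((β : MulAut P) x : Ω) ∈ Z}
      one_mem' := fun x => by simp [one_mem]
      mul_mem' := fun {a b} ha hb x => by
        have := Z.mul_mem (hb x) (ha ((b : MulAut P) x))
        rw [mul_assoc, mul_inv_cancel_left] at this
        exact this
      inv_mem' := fun {a} ha x => by
        have h1 := Z.inv_mem (ha (((a⁻¹ : F.autGroup P) : MulAut P) x))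
        rw [show (a : MulAut P) (((a⁻¹ : F.autGroup P) : MulAut P) x) = x from
          MulAut.apply_inv_self _ (a : MulAut P) x, mul_inv_rev, inv_inv] at h1
        exact h1 }
  have hle : pResidual p (F.autGroup P) ≤ K := by
    refine (Subgroup.closure_le _).2 fun β hβ x => h P hP _ β.2 ?_ x
    rwa [Subgroup.orderOf_coe]
  exact hle hα x

/-- In a quasisimple system a normal subgroup is central. -/
theorem le_center_of_quasisimple (hS : IsPGroup p S) {F : FusionSystem S} (hq : F.Quasisimple p)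
    {R : Subgroup Ω} (hR : F.IsNormal R) : R ≤ F.center := by
  obtain ⟨hF, hhyp, hsimple⟩ := hq
  have hsc : F.StronglyClosed F.center := by
    refine ⟨H89.center_le F, fun P hP φ hφ x => ?_⟩
    have h : φ x = (x : Ω) := H89.center_fix hφ x.2 (hP x.2)
    exact h.symm ▸ hP x.2
  obtain ⟨E, hE⟩ := Cfsg.Agent.S5132.result p hS F F.center hsc
  obtain ⟨hEsat, hne, hnorm⟩ := hsimple E hE
  have hsm := Cfsg.Agent.S5134.result p hS F hF F.center hsc _ E hE
  set θ := QuotientGroup.mk' (F.center.subgroupOf S) with hθ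
  have : Finite (⊤ : Subgroup (S ⧸ F.center.subgroupOf S)) := Subtype.finite
  have hS' : IsPGroup p (⊤ : Subgroup (S ⧸ F.center.subgroupOf S)) :=
    (hS.to_quotient _).of_equiv Subgroup.topEquiv.symm
  set R' : Subgroup (S ⧸ F.center.subgroupOf S) := imageAlong θ R with hR'
  have hRn : E.IsNormal R' := by
    refine ⟨le_top, fun P' φ' hφ' => ?_⟩
    obtain ⟨-, φ, hφ, hA, hB, hC, he⟩ := (hE.2.2.2 P' φ').1 hφ'
    obtain ⟨ψ, hψ, hext, -⟩ := hR.2 _ φ hφ
    obtain ⟨ψ', hψ', hA', hB', hC', he'⟩ := hsm.1.2 _ _ hψ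
    have hle : P' ⊔ R' ≤ imageAlong θ (preimageAlong θ P' ⊔ R) := by
      refine sup_le (fun y hy => ?_) (fun y hy => ?_)
      · obtain ⟨s, rfl⟩ := QuotientGroup.mk'_surjective _ y
        exact H86.mem_imageAlong.2 ⟨s, Subgroup.mem_sup_left ⟨s, hy, rfl⟩, rfl⟩
      · obtain ⟨s, hs, rfl⟩ := H86.mem_imageAlong.1 hy
        exact H86.mem_imageAlong.2 ⟨s, Subgroup.mem_sup_right hs, rfl⟩
    have hin : ∀ (y : ↥(P' ⊔ R')), (y : S ⧸ F.center.subgroupOf S) ∈ R' →
        (ψ'.comp (Subgroup.inclusion hle)) y ∈ R' := by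
      intro y hy
      obtain ⟨s, hs, hsy⟩ := H86.mem_imageAlong.1 hy
      let z : ↥(preimageAlong θ P' ⊔ R) := Subgroup.inclusion le_sup_right ⟨(s : Ω), hs⟩
      have hzy : Subgroup.inclusion hle y = ⟨θ ⟨(z : Ω), hA' z.2⟩, hC' z⟩ :=
        Subtype.ext hsy.symm
      rw [MonoidHom.comp_apply, hzy, he' z]
      exact H86.mem_imageAlong.2 ⟨_, map_mem_normal hR hψ (x := z) hs, rfl⟩
    refine ⟨_, H85.restrict hψ' hle, fun y => ?_, le_antisymm ?_ ?_⟩
    · obtain ⟨s, hs⟩ := QuotientGroup.mk'_surjective (F.center.subgroupOf S)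
        (y : S ⧸ F.center.subgroupOf S)
      have hsP : (s : Ω) ∈ preimageAlong θ P' := ⟨s, show θ s ∈ P' by rw [hθ, hs]; exact y.2, rfl⟩
      let z : ↥(preimageAlong θ P' ⊔ R) := Subgroup.inclusion le_sup_left ⟨(s : Ω), hsP⟩
      have hzy : Subgroup.inclusion hle (Subgroup.inclusion le_sup_left y) =
          ⟨θ ⟨(z : Ω), hA' z.2⟩, hC' z⟩ := Subtype.ext hs.symm
      rw [MonoidHom.comp_apply, hzy, he' z,
        show y = ⟨θ ⟨(s : Ω), hA hsP⟩, hC ⟨s, hsP⟩⟩ from Subtype.ext hs.symm, he ⟨s, hsP⟩]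
      exact congrArg θ (Subtype.ext (hext ⟨s, hsP⟩))
    · intro y hy
      obtain ⟨z, hz, rfl⟩ := H85.mem_img.1 hy
      exact hin z hz
    · intro y hy
      have : Finite R' := Subtype.finite
      have hres := H85.restrict (H85.restrict hψ' hle) (le_sup_right : R' ≤ P' ⊔ R')
      have hr := H86.range_eq_self_of_le E hres (by
        rintro _ ⟨z, rfl⟩
        exact hin _ z.2)
      obtain ⟨z, hz⟩ := hr.ge hy
      exact H85.mem_img.2 ⟨_, z.2, hz⟩
  intro r hr
  let rS : S := ⟨r, hR.1 hr⟩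
  rcases hnorm _ _ (isNormalIn_inner hS' hEsat hRn) with h | ⟨htop, hall⟩
  · refine (hE.2.1 rS).1 (Subgroup.mem_bot.1 ?_)
    rw [← h]
    exact H86.mem_imageAlong.2 ⟨rS, hr, rfl⟩
  exfalso
  have hle : F.hyperfocalSubgroup p ≤ F.center := by
    refine hyperfocal_le_of_trivial fun P hP α hα hco x => ?_
    obtain ⟨χ, hχ, hA, hB, hC, he⟩ := hsm.1.2 _ _ ((H85.mem_autGroup hP).1 hα)
    rw [← hall] at hχ
    obtain ⟨-, g, -, hg⟩ := hχ
    let t : P → S ⧸ F.center.subgroupOf S := fun z => θ ⟨z, hP z.2⟩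
    have hstep : ∀ z : P, t (α z) = g * t z * g⁻¹ := fun z => by
      have h1 := he z
      rw [hg] at h1
      exact h1.symm
    have hiter : ∀ (k : ℕ) (z : P), t ((α ^ k) z) = g ^ k * t z * (g ^ k)⁻¹ := by
      intro k
      induction k with
      | zero => intro z; simp
      | succ k ih =>
        intro z
        rw [pow_succ' α, MulAut.mul_apply, hstep, ih, pow_succ']
        group
    obtain ⟨n, hn⟩ := IsPGroup.iff_card.1 (hS.to_quotient (F.center.subgroupOf S))
    obtain ⟨j, hj⟩ := exists_pow_eq_self_of_coprime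
      (n := Nat.card (S ⧸ F.center.subgroupOf S)) (x := α) (by
        rw [hn]; exact Nat.Coprime.pow_left n hco.symm)
    have h2 : t (α x) = t x := by
      conv_lhs => rw [← hj, ← pow_mul, hiter, pow_mul, pow_card_eq_one', one_pow]
      simp
    have h3 : θ ((⟨(x : Ω), hP x.2⟩ : S)⁻¹ * ⟨(α x : Ω), hP (α x).2⟩) = 1 := by
      rw [map_mul, map_inv, inv_mul_eq_one]
      exact h2.symm
    exact (hE.2.1 _).1 h3
  apply hne
  rw [eq_bot_iff]
  intro y _
  obtain ⟨s, rfl⟩ := QuotientGroup.mk'_surjective _ y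
  exact Subgroup.mem_bot.2 ((hE.2.1 s).2 (hle (hhyp.ge s.2)))

/-- The step of the induction: a quasisimple subsystem centralizing `R ⊓ U` centralizes `R`. -/
theorem centralize_step (hS : IsPGroup p S) {F : FusionSystem S} {U T : Subgroup Ω}
    {D : FusionSystem U} {C : FusionSystem T} (hD : D.IsNormalIn F p) (hCq : C.Quasisimple p)
    {R : Subgroup Ω} (hR : F.IsNormal R)
    (hC : ∀ hY : R ⊓ U ≤ U, C.IsSubsystemOf (H85.centralizerSystem D (R ⊓ U) hY)) :
    C.IsSubsystemOf (H85.centralizerSystem F R hR.1) := by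
  have hUc := hD.1.2.2.2.1
  have hsub := hD.1.2.2.1
  have hUS := hUc.1
  have : Finite U := H85.finite_of_le hUS
  set Y := R ⊓ U with hY
  have hC' : ∀ (P : Subgroup Ω) (φ : P →* Ω), φ ∈ C.Hom P → φ ∈ D.centralizerHom Y P :=
    fun P φ hφ => hC inf_le_right P hφ
  have hTY : T ≤ centralizerIn U Y := fun t ht =>
    (hC' T _ (H85.id_mem C le_rfl)).2.1 ht
  have hTU : T ≤ U := hTY.trans inf_le_left
  have hTS : T ≤ S := hTU.trans hUS
  have : Finite T := H85.finite_of_le hTS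
  have hRn : ∀ {s r : Ω}, s ∈ S → r ∈ R → s * r * s⁻¹ ∈ R := fun hs hr =>
    H86.normal_of_stronglyClosed F (H85.stronglyClosed_of_isNormal hR) hs hr
  have hUn : ∀ {s u : Ω}, s ∈ S → u ∈ U → s * u * s⁻¹ ∈ U := fun hs hu =>
    H86.normal_of_stronglyClosed F hUc hs hu
  -- maps of `C` extend over `R`, fixing `Y` and moving `R` inside cosets of `Y`
  have hext : ∀ (P : Subgroup Ω) (φ : P →* Ω), φ ∈ C.Hom P →
      ∃ ψ ∈ F.Hom (P ⊔ R), (∀ x : P, ψ (Subgroup.inclusion le_sup_left x) = φ x) ∧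
        (∀ r : R, (r : Ω) ∈ U → ψ (Subgroup.inclusion le_sup_right r) = r) ∧
        ∀ r : R, (r : Ω)⁻¹ * ψ (Subgroup.inclusion le_sup_right r) ∈ Y := by
    intro P φ hφ
    obtain ⟨-, -, -, ψ₀, hψ₀, hP₀, hY₀⟩ := hC' P φ hφ
    obtain ⟨-, ψ, hψ, hψ1, hψ2⟩ := le_goodSys hS hD hR _ hψ₀
    have hle : P ⊔ R ≤ P ⊔ Y ⊔ R := sup_le_sup_right le_sup_left R
    refine ⟨_, H85.restrict hψ hle, fun x => ?_, fun r hr => ?_, fun r => ?_⟩
    · exact (hψ1 (Subgroup.inclusion le_sup_left x)).trans (hP₀ x)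
    · exact ((congrArg ψ (Subtype.ext rfl)).trans
        (hψ1 (Subgroup.inclusion le_sup_right (⟨r, r.2, hr⟩ : Y)))).trans (hY₀ ⟨r, r.2, hr⟩)
    · refine ⟨R.mul_mem (R.inv_mem r.2) ?_, hψ2 r⟩
      exact map_mem_normal hR hψ (x := Subgroup.inclusion le_sup_right r) r.2
  -- `T` centralizes `R`
  have hTR : T ≤ centralizerIn S R := by
    intro t ht
    have ht' : t ∈ C.hyperfocalSubgroup p := hCq.2.1.ge ht
    refine (Subgroup.closure_le _).2 ?_ ht'
    rintro _ ⟨P, α, x, hP, -, rfl⟩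
    set a : Ω := (((α : MulAut P) x : P) : Ω) with ha
    have hxT : (x : Ω) ∈ T := hP x.2
    have haT : a ∈ T := hP ((α : MulAut P) x).2
    refine H85.mem_centralizerIn.2 ⟨S.mul_mem (S.inv_mem (hTS hxT)) (hTS haT), fun r hr => ?_⟩
    obtain ⟨ψ, hψ, hψP, hψY, hψR⟩ := hext P _ ((H85.mem_autGroup hP).1 α.2)
    -- work with `r⁻¹`
    let r' : R := ⟨r⁻¹, R.inv_mem hr⟩
    let c : Ω := (r' : Ω) * x * (r' : Ω)⁻¹ * (x : Ω)⁻¹
    have hcR : c ∈ R := by
      show r⁻¹ * x * r⁻¹⁻¹ * (x : Ω)⁻¹ ∈ R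
      have := R.mul_mem (R.inv_mem hr) (hRn (hTS hxT) hr)
      simpa [mul_assoc] using this
    have hcU : c ∈ U := U.mul_mem (hUn (hR.1 r'.2) (hTU hxT)) (U.inv_mem (hTU hxT))
    have hy := hψR r'
    set y := (r' : Ω)⁻¹ * ψ (Subgroup.inclusion le_sup_right r') with hy'
    have hψr : ψ (Subgroup.inclusion le_sup_right r') = (r' : Ω) * y := by
      rw [hy', mul_inv_cancel_left]
    have hψx : ψ (Subgroup.inclusion le_sup_left x) = a := hψP x
    have h1 : ψ (Subgroup.inclusion le_sup_right r' * Subgroup.inclusion le_sup_left x *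
        (Subgroup.inclusion le_sup_right r')⁻¹ * (Subgroup.inclusion le_sup_left x)⁻¹) = c :=
      (congrArg ψ (Subtype.ext rfl)).trans (hψY ⟨c, hcR⟩ hcU)
    rw [map_mul, map_mul, map_mul, map_inv, map_inv, hψr, hψx] at h1
    have hay : y * a = a * y := (H85.mem_centralizerIn.1 (hTY haT)).2 y hy
    have h2 : r⁻¹ * a * r * a⁻¹ = r⁻¹ * (x : Ω) * r * (x : Ω)⁻¹ := by
      rw [show c = r⁻¹ * (x : Ω) * r * (x : Ω)⁻¹ by simp only [c, r', inv_inv]] at h1
      rw [← h1, show (r' : Ω) = r⁻¹ from rfl, mul_inv_rev, inv_inv]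
      calc r⁻¹ * a * r * a⁻¹ = r⁻¹ * (a * y) * y⁻¹ * r * a⁻¹ := by group
        _ = r⁻¹ * y * a * (y⁻¹ * r) * a⁻¹ := by rw [← hay]; group
    calc r * ((x : Ω)⁻¹ * a) = (x : Ω)⁻¹ * (r * (r⁻¹ * (x : Ω) * r * (x : Ω)⁻¹))⁻¹⁻¹ * a := by
          group
      _ = (x : Ω)⁻¹ * (r * (r⁻¹ * a * r * a⁻¹)) * a := by rw [h2, inv_inv]
      _ = (x : Ω)⁻¹ * a * r := by group
  -- maps
  let G : FusionSystem (centralizerIn S R) := H85.centralizerSystem F R hR.1
  let I : FusionSystem T := interSys C G hTR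
  suffices h : ∀ P : Subgroup Ω, P ≤ T → ∀ φ ∈ C.Hom P, φ ∈ I.Hom P from
    fun P φ hφ => (h P (H85.source_le hφ) φ hφ).2
  refine H86.induction_within (hS.to_le hTS) hCq.1 (H86.stronglyClosed_self C)
    (fun P φ => φ ∈ I.Hom P) ?_ ?_ ?_ ?_
  · intro P Q φ h _ _ hφ
    exact H85.restrict hφ h
  · intro P Q Q' e e' _ _ _ _ _ h h'
    exact H85.hom_congr (H85.IsFIso.trans (F := I) h h') fun _ => rfl
  · intro P Q e _ _ _ h
    exact H85.IsFIso.symm (F := I) h
  intro P hPT hP _ a ha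
  refine (H85.mem_autGroup (F := I) hPT).1 ?_
  obtain ⟨-, Q, hQ⟩ := H85.fullyAutomized_of_fullyNormalized (hS.to_le hTS) hCq.1 hP
  have : Finite (C.autGroup P) := H85.finite_autGroup C hPT
  suffices hle : (⊤ : Subgroup (C.autGroup P)) ≤ (I.autGroup P).subgroupOf (C.autGroup P) from
    hle (Subgroup.mem_top (⟨a, ha⟩ : C.autGroup P))
  rw [← H86.pResidual_sup_sylow Q, Cfsg.pResidual]
  refine sup_le ((Subgroup.closure_le _).2 ?_) ?_
  · intro k hk
    obtain ⟨n, hn⟩ := IsPGroup.iff_card.1 hS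
    obtain ⟨j, hj⟩ := exists_pow_eq_self_of_coprime (n := Nat.card S) (x := (k : MulAut P)) (by
      rw [hn, Subgroup.orderOf_coe]; exact Nat.Coprime.pow_left n hk.symm)
    show (k : MulAut P) ∈ I.autGroup P
    rw [← hj]
    refine pow_mem ?_ j
    set N := Nat.card S with hN
    have hPR : P ⊔ R ≤ S := sup_le (hPT.trans hTS) hR.1
    have : Finite ↥(P ⊔ R) := H85.finite_of_le hPR
    obtain ⟨ψ, hψ, hψP, hψY, hψR⟩ := hext P _ ((H85.mem_autGroup hPT).1 k.2)
    have hr : ψ.range = P ⊔ R := H86.range_eq_self_of_le F hψ (by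
      rintro _ ⟨z, rfl⟩
      exact mapsTo_sup
        (fun x => by rw [hψP]; exact Subgroup.mem_sup_left ((k : MulAut P) x).2)
        (fun r => Subgroup.mem_sup_right
          (map_mem_normal hR hψ (x := Subgroup.inclusion le_sup_right r) r.2)) z)
    set b := H86.autOfHom ψ (F.injective_of_mem hψ) hr with hbdef
    have hb : b ∈ F.autGroup (P ⊔ R) := H86.autOfHom_mem F hψ hr
    have hbv : ∀ z, (b z : Ω) = ψ z := fun z => rfl
    have hbP : ∀ (m : ℕ) (x : P), (b ^ m) (Subgroup.inclusion le_sup_left x) =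
        Subgroup.inclusion le_sup_left (((k : MulAut P) ^ m) x) := by
      intro m
      induction m with
      | zero => intro x; rfl
      | succ m ih =>
        intro x
        rw [pow_succ', MulAut.mul_apply, ih, pow_succ']
        exact Subtype.ext ((hbv _).trans (hψP _))
    have hiter : ∀ (r : R) (m : ℕ), ((b ^ m) (Subgroup.inclusion le_sup_right r) : Ω) =
        (r : Ω) * ((r : Ω)⁻¹ * ψ (Subgroup.inclusion le_sup_right r)) ^ m := by
      intro r m
      induction m with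
      | zero => simp
      | succ m ih =>
        set y := (r : Ω)⁻¹ * ψ (Subgroup.inclusion le_sup_right r) with hy
        have hyY : y ∈ Y := hψR r
        have e : (b ^ m) (Subgroup.inclusion le_sup_right r) = Subgroup.inclusion le_sup_right r *
            Subgroup.inclusion le_sup_right (⟨y ^ m, R.pow_mem hyY.1 m⟩ : R) := Subtype.ext ih
        rw [pow_succ', MulAut.mul_apply, e, hbv, map_mul, hψY ⟨y ^ m, R.pow_mem hyY.1 m⟩ (U.pow_mem hyY.2 m), pow_succ',
          ← mul_assoc]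
        congr 1
        rw [hy, mul_inv_cancel_left]
    refine (H85.mem_autGroup (F := I) hPT).2 ⟨(H85.mem_autGroup hPT).1 (pow_mem k.2 N),
      (H85.mem_autGroup (hPT.trans hTS)).1
        (pow_mem ((H85.mem_autGroup (hPT.trans hTS)).2 (H85.hom_congr
          (hsub P (hC' P _ ((H85.mem_autGroup hPT).1 k.2)).1) fun _ => rfl)) N),
      hPT.trans hTR, fun x => hTR (hPT (((k : MulAut P) ^ N) x).2),
      _, (H85.mem_autGroup hPR).1 (pow_mem hb N), fun x => ?_, fun r => ?_⟩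
    · exact congrArg Subtype.val (hbP N x)
    · refine (hiter r N).trans ?_
      have h1 : ((r : Ω)⁻¹ * ψ (Subgroup.inclusion le_sup_right r)) ^ N = 1 :=
        congrArg Subtype.val
          (pow_card_eq_one' (x := (⟨_, (hR.1 (hψR r).1)⟩ : S)))
      rw [h1, mul_one]
  · intro k hk
    rw [hQ] at hk
    exact H85.autInducedBy_le_autGroup I hPT hk

/-- A quasisimple subnormal subsystem centralizes every normal subgroup. -/
theorem component_centralizes (hS : IsPGroup p S) {F : FusionSystem S} {T : Subgroup Ω}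
    {C : FusionSystem T} (hC : C.IsComponentIn F p) {R : Subgroup Ω} (hR : F.IsNormal R) :
    C.IsSubsystemOf (H85.centralizerSystem F R hR.1) := by
  suffices main : ∀ {T S : Subgroup Ω} {C : FusionSystem T} {F : FusionSystem S} {q : ℕ},
      C.IsSubnormalIn F q → q = p → Finite S → IsPGroup p S → C.Quasisimple p →
      ∀ (R : Subgroup Ω) (hR : F.IsNormal R),
        C.IsSubsystemOf (H85.centralizerSystem F R hR.1) from
    main hC.1 rfl inferInstance hS hC.2 R hR
  intro T S C F q h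
  induction h with
  | refl F q =>
    intro _ _ hS hq R hR P φ hφ
    have hZ := le_center_of_quasisimple hS hq hR
    have hRc : ∀ {x : Ω}, x ∈ _ → x ∈ centralizerIn _ R := fun {x} hx =>
      H85.mem_centralizerIn.2 ⟨hx, fun r hr =>
        ((Subgroup.mem_centralizer_iff.1 (F.center_le_centralizer (hZ hr))) x hx).symm⟩
    obtain ⟨ψ, hψ, hψP, hψZ⟩ := (H89.center_isCentral F).2 P φ hφ
    exact ⟨hφ, fun x hx => hRc (H85.source_le hφ hx), fun x => hRc (H85.map_mem hφ x), _,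
      H85.restrict hψ (sup_le_sup_left hZ P), fun x => hψP x,
      fun r => hψZ ⟨r, hZ r.2⟩⟩
  | step _ hDF ih =>
    intro hq _ hS hCq R hR
    subst hq
    have hUS := hDF.1.2.2.2.1.1
    exact centralize_step hS hDF hCq hR fun hY => ih rfl (H85.finite_of_le hUS) (hS.to_le hUS) hCq _
      (isNormal_inf_base hS hDF hR)

end H87
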