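import Cfsg.Agent.H85.ModelExists
import Cfsg.Agent.H85.Systems
import Cfsg.Agent.H11.PConstrained
import Cfsg.Agent.H87.CentralizerNormal

/-!
Normalizer systems in a constrained fusion system are constrained.
-/
set_option autoImplicit false
set_option linter.style.haveILetI false
set_option linter.unusedSectionVars false

open Cfsg Cfsg.FusionSystem

namespace H87

universe u

variable {Ω : Type u} [Group Ω] {S : Subgroup Ω} [Finite S] {p : ℕ} [Fact p.Prime]
  {F : FusionSystem S} {U : Subgroup Ω}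

/-- For a fully normalized subgroup the normalizer in the realizing group has its Sylow subgroup
inside the image of `S`. -/
theorem sylowIn_normalizer {G : Type*} [Group G] [Finite G] {ι : S →* G}
    (h : F.IsRealizedBy ι) (T : Sylow p G) (hT : (T : Subgroup G) = ι.range)
    (hU : F.IsFullyNormalized U) :
    H85.SylowIn p ι (Subgroup.normalizer (H85.rimg ι U : Set G)) := by
  obtain ⟨Q, ⟨φ, hφ, hr⟩, B, hB⟩ := H85.exists_conj_sylowIn_normalizer h T hT hU.1
  obtain ⟨g, hg⟩ := H85.exists_conj_of_hom h hφ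
  have hQ : H85.rimg ι Q = (H85.rimg ι U).map (MulAut.conj g).toMonoidHom :=
    hr ▸ H85.rimg_range hφ hg
  have hQS : Q ≤ S := hr ▸ H85.range_le hφ
  have hcard : Nat.card (Subgroup.normalizer (H85.rimg ι Q : Set G)) =
      Nat.card (Subgroup.normalizer (H85.rimg ι U : Set G)) := by
    rw [hQ, ← H85.map_conj_normalizer]
    exact Subgroup.card_map_of_injective (MulAut.conj g).injective
  have hsec : ∀ {X : Subgroup Ω}, X ≤ S →
      Nat.card (ι.range.subgroupOf (Subgroup.normalizer (H85.rimg ι X : Set G))) =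
        Nat.card (normalizerIn S X) := by
    intro X hX
    rw [← Subgroup.inf_subgroupOf_right, H85.card_subgroupOf _ _ inf_le_right,
      ← H85.rimg_normalizerIn h.1 hX, H85.card_rimg h.1 (H85.normalizerIn_le X)]
  have hp : IsPGroup p (ι.range.subgroupOf (Subgroup.normalizer (H85.rimg ι U : Set G))) :=
    (T.2.to_le hT.ge).comap_subtype
  obtain ⟨V, hV⟩ := hp.exists_le_sylow
  refine ⟨V, (Subgroup.eq_of_le_of_card_ge hV ?_).symm⟩
  have hVB : Nat.card V = Nat.card B := by
    rw [Sylow.card_eq_multiplicity, Sylow.card_eq_multiplicity, hcard]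
  rw [hVB, hB, hsec hQS, hsec hU.1]
  exact hU.2 Q ⟨φ, hφ, hr⟩

/-- The normalizer system of a fully normalized subgroup of a constrained system is constrained. -/
theorem normalizer_constrained (hS : IsPGroup p S) (hF : F.IsConstrained p)
    (hU : F.IsFullyNormalized U) :
    (H85.normalizerSystem F U hU.1).IsConstrained p := by
  obtain ⟨G, _, ι, hG⟩ := H85.exists_model_of_constrained hS hF
  obtain ⟨hfin, h, ⟨T, hT⟩, hC⟩ := hG
  haveI := hfin
  set M := Subgroup.normalizer (H85.rimg ι U : Set G) with hM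
  have hmem : ∀ x : ↥(normalizerIn S U), ι (Subgroup.inclusion inf_le_left x) ∈ M := fun x =>
    (H85.apply_mem_normalizer_rimg h.1 hU.1).2 x.2.2
  let ι' : ↥(normalizerIn S U) →* M :=
    (ι.comp (Subgroup.inclusion inf_le_left)).codRestrict M hmem
  have hι' : ∀ x, (ι' x : G) = ι (Subgroup.inclusion inf_le_left x) := fun x => rfl
  refine H85.isConstrained_of_model (G := M) (ι := ι') ⟨inferInstance, ⟨?_, ?_⟩, ?_, ?_⟩
  · intro a b hab
    exact Subgroup.inclusion_injective _ (h.1 (congrArg Subtype.val hab :))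
  · intro P hP φ hφN
    constructor
    · intro hφ
      obtain ⟨hφF, -, -, ψ, hψ, hext, hmap⟩ := H85.mem_normalizerHom.1 hφ
      obtain ⟨g, hg⟩ := H85.exists_conj_of_hom h hψ
      have hres := H85.restrict hψ (le_sup_right : U ≤ P ⊔ U)
      have hr : (ψ.comp (Subgroup.inclusion (le_sup_right : U ≤ P ⊔ U))).range = U := by
        refine le_antisymm ?_ fun y hy => ?_
        · rintro _ ⟨x, rfl⟩
          exact hmap.le (H85.apply_mem_img (R := U) (x := Subgroup.inclusion le_sup_right x) x.2)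
        · obtain ⟨x, hx, rfl⟩ := H85.mem_img.1 (hmap.ge hy)
          exact ⟨⟨x, hx⟩, rfl⟩
      have hgM : g ∈ M := by
        have h1 := H85.rimg_range (ι := ι) hres (g := g)
          fun x => hg (Subgroup.inclusion le_sup_right x)
        rw [hr] at h1
        haveI : Finite (H85.rimg ι U) := Subtype.finite
        refine H85.mem_normalizer_of_conj fun w hw => ?_
        rw [h1]
        exact ⟨w, hw, rfl⟩
      refine ⟨⟨g, hgM⟩, fun x => Subtype.ext ?_⟩
      refine Eq.trans (congrArg ι ?_) ((hg (Subgroup.inclusion le_sup_left x)).trans rfl)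
      exact Subtype.ext (hext x).symm
    · rintro ⟨g, hg⟩
      have hPS : P ≤ S := hP.trans (H85.normalizerIn_le U)
      have hPU : P ⊔ U ≤ S := sup_le hPS hU.1
      have hrange : ∀ x : ↥(P ⊔ U), (g : G) * ι ⟨x, hPU x.2⟩ * (g : G)⁻¹ ∈ ι.range := by
        let c : ↥(P ⊔ U) →* G :=
          (MulAut.conj (g : G)).toMonoidHom.comp (ι.comp (Subgroup.inclusion hPU))
        have hle : P ⊔ U ≤ (ι.range.comap c).map (P ⊔ U).subtype := by
          refine sup_le (fun w hw => ⟨⟨w, Subgroup.mem_sup_left hw⟩, ?_, rfl⟩)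
            (fun w hw => ⟨⟨w, Subgroup.mem_sup_right hw⟩, ?_, rfl⟩)
          · exact ⟨_, congrArg Subtype.val (hg ⟨w, hw⟩)⟩
          · exact H85.rimg_le_range ι U ((Subgroup.mem_normalizer_iff.1 g.2 _).1
              (H85.mem_rimg.2 ⟨⟨w, hU.1 hw⟩, hw, rfl⟩))
        intro x
        obtain ⟨w, hw, hwx⟩ := hle x.2
        exact (Subtype.ext hwx : w = x) ▸ hw
      obtain ⟨ψ, hψ, hψS, hψe⟩ := H85.exists_hom_of_conj h hPU (g : G) hrange
      have hext : ∀ x : P, ψ (Subgroup.inclusion le_sup_left x) = φ x := fun x =>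
        congrArg Subtype.val (h.1 ((hψe (Subgroup.inclusion le_sup_left x)).trans
          (congrArg Subtype.val (hg x)).symm) :
          (⟨ψ _, hψS _⟩ : S) = Subgroup.inclusion inf_le_left ⟨φ x, hφN x⟩)
      refine H85.mem_normalizerHom.2 ⟨H85.of_extend hψ le_sup_left hext,
        hP, hφN, ψ, hψ, hext, ?_⟩
      have hin : ∀ x : ↥(P ⊔ U), (x : Ω) ∈ U → ψ x ∈ U := fun x hx => by
        refine (H85.apply_mem_rimg h.1 (x := ⟨ψ x, hψS x⟩)).1 ?_
        rw [hψe]
        exact (Subgroup.mem_normalizer_iff.1 g.2 _).1 (H85.mem_rimg.2 ⟨_, hx, rfl⟩)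
      haveI : Finite U := H85.finite_of_le hU.1
      have hr := H86.range_eq_self_of_le F (H85.restrict hψ (le_sup_right : U ≤ P ⊔ U))
        (by rintro _ ⟨x, rfl⟩; exact hin _ x.2)
      refine le_antisymm ?_ fun y hy => ?_
      · intro y hy
        obtain ⟨x, hx, rfl⟩ := H85.mem_img.1 hy
        exact hin x hx
      · obtain ⟨x, hx⟩ := hr.ge hy
        exact H85.mem_img.2 ⟨_, x.2, hx⟩
  · obtain ⟨B, hB⟩ := sylowIn_normalizer h T hT hU
    refine ⟨B, ?_⟩
    rw [hB]
    ext y
    constructor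
    · rintro ⟨x, hx⟩
      refine ⟨⟨x, x.2, (H85.apply_mem_normalizer_rimg h.1 hU.1).1 ?_⟩, Subtype.ext hx⟩
      rw [hx]
      exact y.2
    · rintro ⟨x, rfl⟩
      exact ⟨_, rfl⟩
  · exact H11.coreSelfCentralizing_normalizer hC _
      ((hS.to_subgroup (U.subgroupOf S)).map ι)

end H87
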