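import Cfsg.Agent.H87.SylowCert

/-! Certificate data for the Sylow 2-subgroup of M11. -/

namespace H87

/-- Certificate for M11. -/
def dataM11 : SylowData where
  bs := [
    944576703234065857180591671912828960,
    944569772236290697579231267829188640,
    304382488815307602047787978285647904,
    233054687951835244750033064009402400]
  sq := [
    [796422664143520048046740322637776928],
    [796438544217127952970934154678177824]]
  rounds := [
    ⟨[2, 4, 8], [], 0, 607954707439788771906300687740899360, 607954707439788771906300687740899360⟩,
    ⟨[8, 24, 24], [], 0, 304383412539821291079733571624636448, 304383412539821291079733571624636448⟩]
  z := 944569772236290697579231267829188640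
  steps := [
    .conj 234595916867257899668651066224348192 0 984799016615329826603595760505294880,
    .conj 650933000891426619939025240817313344 0 304383412539821291079733571624636448,
    .prod 2 1,
    .conj 849799627579505317935233083876934784 3 233054687951835244750033064009402400,
    .prod 0 1]

end H87
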