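import Cfsg.Agent.H87.SylowCert

/-! Certificate data for the Sylow 2-subgroup of M12. -/

namespace H87

/-- Certificate for M12. -/
def dataM12 : SylowData where
  bs := [
    318942912129016588904666744959897650,
    443561854416301109981844484284059686,
    318927516748852191749049054656563250,
    320204026281324119287617511082723442,
    858949212866134157652818794487350349,
    648321739110346641762324489167834176]
  sq := [
    [648321739110346641762324489167834176],
    [443550232175826243185481616453634086],
    [734317806557270709938870109858827336]]
  rounds := [
    ⟨[8, 24, 24], [], 0, 984799016615329826603595760505294880, 648333173198446926654847902756766784⟩,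
    ⟨[0, 24, 24], [], 0, 734323938686007878888804108446336072, 734323938686007878888804108446336072⟩]
  z := 652507427890340834643637769448032300
  steps := [
    .conj 736869425151440012151976589635203078 0 984799016615329826603595760505294880,
    .conj 923748801529878873701471192300683656 0 648333173198446926654847902756766784,
    .conj 226584426767314419257864019793523986 0 443561854416301109981844484284059686,
    .prod 1 2,
    .conj 895191682545798137709706025490399812 4 725126142934346282307343698781898797,
    .prod 0 3,
    .prod 1 3,
    .prod 2 3,
    .prod 8 2,
    .prod 5 2,
    .prod 2 1]

end H87
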