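import Cfsg.Agent.H87.SylowCert

/-! Certificate data for the Sylow 2-subgroup of M22. -/

namespace H87

/-- Certificate for M22. -/
def dataM22 : SylowData where
  bs := [
    958269799639027155104535205206153632,
    958191205210014188301951160125872160,
    961436346333119473563502785677574176,
    976731818436816743765474366235709856,
    984434063486226027615293699885566368,
    959588111762814148794182867096184864,
    964878062145565643056596036654315552]
  sq := [
    [970007014836938712943575348010227104],
    [968864702066776617743018298092031008],
    [974452627206372891707193155165265312],
    [976731818436816743765474366235709856]]
  rounds := [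
    ⟨[2, 4, 8], [], 0, 964635896421529405006781235388004768, 964635896421529405006781235388004768⟩,
    ⟨[8, 24, 24], [8, 24, 24], 11, 958269799639027155104535205206153632, 958269799639027155104535205206153632⟩,
    ⟨[8, 24, 24], [], 0, 973804896116145416835644806975036448, 973804896116145416835644806975036448⟩]
  z := 958359841193275559058527489894996000
  steps := [
    .conj 958818491879484947753653421292738016 0 967150998107068424814075433960756256,
    .conj 984525142451150226794821073332611360 0 969241353870756385364331985140518304,
    .conj 977015135837410724265259575202109920 0 976607671605327482668242317735039008,
    .prod 0 2,
    .conj 961958769314502533431290707042469056 4 964038877513418185281829089058103712,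
    .conj 975311413020572967059840764861860096 0 976535332656625866811670459970588704,
    .prod 0 1,
    .prod 7 5,
    .prod 8 1,
    .prod 2 3,
    .prod 10 5,
    .prod 0 6,
    .prod 6 1,
    .prod 13 2,
    .prod 14 1,
    .prod 8 6,
    .prod 16 1,
    .prod 1 5,
    .prod 18 1,
    .prod 19 5,
    .prod 20 6,
    .prod 4 1,
    .prod 22 5]

end H87
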