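import Cfsg.Agent.H87.SylowCert

/-! Certificate data for the Sylow 2-subgroup of M23. -/

namespace H87

/-- Certificate for M23. -/
def dataM23 : SylowData where
  bs := [
    958269799639027155104535205206153632,
    958191205210014188301951160125872160,
    961436346333119473563502785677574176,
    976731818436816743765474366235709856,
    984434063486226027615293699885566368,
    959588111762814148794182867096184864,
    964878062145565643056596036654315552]
  sq := [
    [970007014836938712943575348010227104],
    [968864702066776617743018298092031008],
    [974452627206372891707193155165265312],
    [976731818436816743765474366235709856]]
  rounds := [
    ⟨[2, 4, 8], [], 0, 964635896421529405006781235388004768, 964635896421529405006781235388004768⟩,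
    ⟨[8, 24, 24], [8, 24, 24], 11, 958269799639027155104535205206153632, 958269799639027155104535205206153632⟩,
    ⟨[8, 24, 24], [], 0, 973804896116145416835644806975036448, 973804896116145416835644806975036448⟩]
  z := 958359841193275559058527489894996000
  steps := [
    .conj 966585604943949080948654014941434289 0 959775806916153066781728529055426592,
    .conj 976525092943514361708731680362798675 0 981778418385515084080897070847012896,
    .conj 970326008397068991292013184764323009 0 958191205210014188301951160125872160,
    .prod 3 1,
    .conj 961474375635297155905717329306460786 4 973726301711284096076877329410137504,
    .conj 979331592228613704141060966154026241 0 976535332656625866811670459970588704,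
    .prod 2 3,
    .prod 7 5,
    .prod 0 6,
    .prod 1 6,
    .prod 10 5,
    .prod 11 2,
    .prod 2 6,
    .prod 13 5,
    .prod 6 1,
    .prod 3 2]

end H87
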