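import Cfsg.Agent.H87.SylowCert

/-! Certificate data for the Sylow 2-subgroup of M24. -/

namespace H87

/-- Certificate for M24. -/
def dataM24 : SylowData where
  bs := [
    983548058628271758227072553185584160,
    963746088592452898125099198249967648,
    716917318267044062313766934975486575,
    735284307821020951181074983181978223,
    732522557674380381138083291195945551,
    11947114801266703426000845121410103,
    981778418385515084080897070847012896,
    544284225031614206030377178355542753,
    628849828107719255572265299372884561,
    543413431904781374684540277654510305]
  sq := [
    [735182483137627527270435503911144015],
    [569131367728219799193461828360440545],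
    [968943373194923430526296049842261024, 735005397067459598986536590065797743],
    [968864702066776617743018298092031008],
    [735536157205826461706665898113436271],
    [974452627206372891707193155165265312]]
  rounds := [
    ⟨[2, 4, 8], [], 0, 964635896421529405006781235388004768, 964635896421529405006781235388004768⟩,
    ⟨[8, 24, 24], [8, 24, 24], 33, 714818088864611888807776536565916271, 652023747844006491049289528987945585⟩,
    ⟨[8, 24, 24], [], 0, 561240363926910054744152250943377409, 561240363926910054744152250943377409⟩]
  z := 958359841193275559058527489894996000
  steps := [
    .conj 26574201985817014080180692734516513 0 961436346333119473563502785677574176,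
    .conj 107060843159743175826698738865462985 0 777125623082956855965688354949925427,
    .conj 937593780313064869841492207327380675 0 651931669878393944637991554872609361,
    .conj 856366920298513434167551812998137070 0 714818088864611888807776536565916271,
    .conj 44997041373714082787004886814109171 0 962043633843586950641282970664807456,
    .prod 1 5,
    .prod 6 1,
    .prod 2 3,
    .prod 8 2,
    .prod 9 4,
    .prod 0 4,
    .prod 1 2,
    .prod 12 1,
    .prod 13 3,
    .prod 14 4,
    .prod 15 5,
    .prod 4 1,
    .prod 17 5,
    .prod 18 2,
    .prod 19 1,
    .prod 4 5,
    .prod 21 4,
    .prod 0 1,
    .prod 23 4,
    .prod 24 2,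
    .prod 25 1,
    .prod 12 3,
    .prod 27 5,
    .prod 28 1,
    .prod 29 5,
    .prod 30 2,
    .prod 2 4,
    .prod 32 1,
    .prod 33 3,
    .prod 34 4]

end H87
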