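import Cfsg.Agent.H87.ConstrainedLocal
import Cfsg.Agent.H87.CentralizerNormal
import Cfsg.Agent.H87.CentreControl
import Cfsg.Agent.H88.WeaklyNormal
import Cfsg.Agent.H83.PGroupBasic
import Cfsg.Agent.S5342
import Cfsg.Prelude.Def_FusionComponents

/-!
A fusion system that is not of characteristic `p`-type is of component type, given that
systems which are not constrained have components.
-/
set_option autoImplicit false
set_option linter.style.haveILetI false
set_option linter.unusedSectionVars false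

open Cfsg Cfsg.FusionSystem

namespace H87

universe u

variable {Ω : Type u} [Group Ω] {S : Subgroup Ω}

theorem isConstrained_congr {p : ℕ} {A B : Subgroup Ω} (h : A = B) {C : FusionSystem A}
    {D : FusionSystem B} (hh : ∀ P, C.Hom P = D.Hom P) (hC : C.IsConstrained p) :
    D.IsConstrained p := by
  subst h
  rwa [← H85.fusionSystem_ext hh]

/-- A subgroup is normal in its normalizer system. -/
theorem isNormal_normalizerSystem {F : FusionSystem S} {U : Subgroup Ω} (hU : U ≤ S) :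
    (H85.normalizerSystem F U hU).IsNormal U := by
  have hUN : U ≤ normalizerIn S U := H85.le_normalizerIn hU
  refine ⟨hUN, fun P φ hφ => ?_⟩
  obtain ⟨-, hPN, hφN, ψ, hψ, hext, hmap⟩ := H85.mem_normalizerHom.1 hφ
  have he : P ⊔ U ⊔ U ≤ P ⊔ U := sup_le le_rfl le_sup_right
  refine ⟨ψ, H85.mem_normalizerHom.2 ⟨hψ, sup_le hPN hUN,
    mapsTo_sup (fun x => (hext x).symm ▸ hφN x)
      (fun r => hUN (hmap.le (H85.apply_mem_img (R := U)
        (x := Subgroup.inclusion le_sup_right r) r.2))),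
    _, H85.restrict hψ he, fun x => rfl, le_antisymm ?_ ?_⟩, hext, hmap⟩
  · intro y hy
    obtain ⟨x, hx, rfl⟩ := H85.mem_img.1 hy
    exact hmap.le (H85.apply_mem_img (R := U) (x := Subgroup.inclusion he x) hx)
  · intro y hy
    obtain ⟨x, hx, rfl⟩ := H85.mem_img.1 (show y ∈ H85.img ψ U from hmap.ge hy)
    exact H85.mem_img.2 ⟨⟨x, Subgroup.mem_sup_left (T := U) x.2⟩, hx, rfl⟩

variable [Finite S] {p : ℕ} [Fact p.Prime] {F : FusionSystem S}

/-- A system is constrained if the centralizer system of a normal subgroup is. -/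
theorem isConstrained_of_centralizer (hS : IsPGroup p S) (hF : F.IsSaturated p) {U : Subgroup Ω}
    (hU : F.IsNormal U) (hC : (H85.centralizerSystem F U hU.1).IsConstrained p) :
    F.IsConstrained p := by
  haveI : Finite (centralizerIn S U) := H85.finite_of_le (H85.centralizerIn_le U)
  obtain ⟨hn, hc, -⟩ := H86.core_spec (hS.to_le (H85.centralizerIn_le U)) hC
  set C := H85.centralizerSystem F U hU.1
  set Q := C.core with hQ
  have hCN := (isNormalIn_centralizerSystem hS hF hU).1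
  have hQS : Q ≤ S := hn.1.trans (H85.centralizerIn_le U)
  have hQn := H88.isNormal_conjClosure hS hF hCN hn
  set Qs := Subgroup.closure {x : Ω | ∃ φ ∈ F.Hom Q, ∃ r : Q, x = φ r} with hQs
  have hle : Q ≤ Qs := fun x hx =>
    Subgroup.subset_closure ⟨Q.subtype, H85.id_mem F hQS, ⟨x, hx⟩, rfl⟩
  have hW : F.IsNormal (Qs ⊔ U) := H86.isNormal_sup F hQn hU
  refine ⟨hF, _, hW, isCentric_of_isNormal hW fun x hx => ?_⟩
  obtain ⟨hxS, hxW⟩ := H85.mem_centralizerIn.1 hx
  have hxC : x ∈ centralizerIn S U :=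
    H85.mem_centralizerIn.2 ⟨hxS, fun u hu => hxW u (Subgroup.mem_sup_right hu)⟩
  refine Subgroup.mem_sup_left (hle (hc.2 Q (H85.isConj_refl C hn.1) ?_))
  exact H85.mem_centralizerIn.2 ⟨hxC, fun q hq => hxW q (Subgroup.mem_sup_left (hle hq))⟩

/-- Transport of maps of normalizer systems along a map between normalizers. -/
theorem normalizerHom_map {U U' : Subgroup Ω} (hU : U ≤ S) (hU' : U' ≤ S)
    {e : ↥(normalizerIn S U) ≃* ↥(normalizerIn S U')} (he : H85.IsFIso F e)
    (heU : ∀ x : ↥(normalizerIn S U), (e x : Ω) ∈ U' ↔ (x : Ω) ∈ U)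
    {P P' : Subgroup Ω} {φ : P →* Ω} (hφ : φ ∈ F.normalizerHom U P) {φ' : P' →* Ω}
    (hrel : ∀ y : P', ∃ (x : P) (hx : (x : Ω) ∈ normalizerIn S U)
      (hφx : φ x ∈ normalizerIn S U), (y : Ω) = e ⟨x, hx⟩ ∧ φ' y = e ⟨φ x, hφx⟩) :
    φ' ∈ F.normalizerHom U' P' := by
  obtain ⟨hφF, hPN, hφN, ψ, hψ, hext, hmap⟩ := H85.mem_normalizerHom.1 hφ
  have hUN : U ≤ normalizerIn S U := H85.le_normalizerIn hU
  have hX : P ⊔ U ≤ normalizerIn S U := sup_le hPN hUN
  have hψN : ∀ z, ψ z ∈ normalizerIn S U := mapsTo_sup (fun x => (hext x).symm ▸ hφN x)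
    (fun r => hUN (hmap.le (H85.apply_mem_img (R := U)
      (x := Subgroup.inclusion le_sup_right r) r.2)))
  set X' := H85.img ((normalizerIn S U').subtype.comp e.toMonoidHom) (P ⊔ U) with hX'
  let e1 : ↥(P ⊔ U) ≃* X' :=
    H85.resIso ((normalizerIn S U').subtype.comp e.toMonoidHom) (F.injective_of_mem he) hX
  have he1 : H85.IsFIso F e1 := H85.isFIso_resIso he hX
  have h2 := F.comp_mem he1.symm hψ fun z => (e1.symm z).2
  have h3 := F.comp_mem h2 he fun z => hψN _
  set g : X' →* Ω := _ with hg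
  change g ∈ F.Hom X' at h3
  have hval : ∀ (w : ↥(P ⊔ U)) (y : X'), (y : Ω) = e ⟨w, hX w.2⟩ →
      g y = e ⟨ψ w, hψN w⟩ := by
    intro w y hy
    have h : e1.symm y = w := by
      rw [MulEquiv.symm_apply_eq]
      exact Subtype.ext (hy.trans (show (e ⟨w, hX w.2⟩ : Ω) = e1 w from rfl))
    exact congrArg (fun a : ↥(P ⊔ U) => (e ⟨ψ a, hψN a⟩ : Ω)) h
  have hle : P' ⊔ U' ≤ X' := by
    refine sup_le (fun y hy => ?_) (fun y hy => ?_)
    · obtain ⟨x, hx, -, hxy, -⟩ := hrel ⟨y, hy⟩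
      exact H85.mem_img.2 ⟨⟨x, hx⟩, Subgroup.mem_sup_left x.2, hxy.symm⟩
    · have hyN : y ∈ normalizerIn S U' := H85.le_normalizerIn hU' hy
      obtain ⟨x, hx⟩ := e.surjective ⟨y, hyN⟩
      have hxU : (x : Ω) ∈ U := (heU x).1 (by rw [hx]; exact hy)
      exact H85.mem_img.2 ⟨x, Subgroup.mem_sup_right hxU, congrArg Subtype.val hx⟩
  have hP'N : P' ≤ normalizerIn S U' := fun y hy => by
    obtain ⟨x, hx, -, hxy, -⟩ := hrel ⟨y, hy⟩
    exact (show (y : Ω) = _ from hxy) ▸ (e ⟨x, hx⟩).2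
  have hext' : ∀ y : P', g (Subgroup.inclusion hle (Subgroup.inclusion le_sup_left y)) = φ' y := by
    intro y
    obtain ⟨x, hx, hφx, hxy, hφy⟩ := hrel y
    rw [hval (Subgroup.inclusion le_sup_left x) _ hxy, hφy]
    exact congrArg (fun a => (e a : Ω)) (Subtype.ext (hext x))
  have hres := H85.restrict h3 hle
  refine H85.mem_normalizerHom.2 ⟨H85.of_extend hres le_sup_left hext', hP'N, fun y => ?_,
    _, hres, hext', le_antisymm ?_ ?_⟩
  · obtain ⟨x, hx, hφx, -, hφy⟩ := hrel y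
    rw [hφy]
    exact SetLike.coe_mem _
  · intro y hy
    obtain ⟨z, hz, rfl⟩ := H85.mem_img.1 hy
    obtain ⟨w, hw, hwz⟩ := H85.mem_img.1 (hle z.2)
    rw [MonoidHom.comp_apply, hval ⟨w, hw⟩ _ hwz.symm]
    refine (heU _).2 (hmap.le (H85.apply_mem_img ?_))
    refine (heU w).1 ?_
    exact (show ((e w : ↥(normalizerIn S U')) : Ω) = z from hwz) ▸ hz
  · intro y hy
    obtain ⟨v, hv⟩ := e.surjective ⟨y, H85.le_normalizerIn hU' hy⟩
    have hvU : (v : Ω) ∈ U := (heU v).1 (by rw [hv]; exact hy)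
    obtain ⟨w, hw, hwv⟩ := H85.mem_img.1 (hmap.ge hvU)
    refine H85.mem_img.2 ⟨⟨e ⟨w, hX w.2⟩, Subgroup.mem_sup_right ((heU _).2 hw)⟩, (heU _).2 hw, ?_⟩
    rw [MonoidHom.comp_apply, hval w _ rfl]
    exact (congrArg (fun a => (e a : Ω)) (Subtype.ext hwv : (⟨ψ w, hψN w⟩ : ↥(normalizerIn S U)) = v)).trans
      (congrArg Subtype.val hv)

/-- Constrainedness of normalizer systems is carried along maps of normalizers. -/
theorem isConstrained_normalizer_transport (hS : IsPGroup p S) {U U' : Subgroup Ω} (hU : U ≤ S)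
    (hU' : U' ≤ S)
    {e : ↥(normalizerIn S U) ≃* ↥(normalizerIn S U')} (he : H85.IsFIso F e)
    (heU : ∀ x : ↥(normalizerIn S U), (e x : Ω) ∈ U' ↔ (x : Ω) ∈ U)
    (h : (H85.normalizerSystem F U' hU').IsConstrained p) :
    (H85.normalizerSystem F U hU).IsConstrained p := by
  haveI : Finite ↥(normalizerIn S U) := H85.finite_of_le (H85.normalizerIn_le U)
  haveI : Finite ↥(normalizerIn S U') := H85.finite_of_le (H85.normalizerIn_le U')
  obtain ⟨G, _, ι, hfin, hreal, ⟨T, hT⟩, hC⟩ :=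
    H85.exists_model_of_constrained (hS.to_le (H85.normalizerIn_le U')) h
  refine H85.isConstrained_of_model (G := G) (ι := ι.comp e.toMonoidHom)
    ⟨hfin, ⟨hreal.1.comp e.injective, ?_⟩, ⟨T, ?_⟩, hC⟩
  · intro P hP φ hφ
    set P' := H85.img ((normalizerIn S U').subtype.comp e.toMonoidHom) P with hP'
    let e1 : P ≃* P' :=
      H85.resIso ((normalizerIn S U').subtype.comp e.toMonoidHom) (F.injective_of_mem he) hP
    let φ' : P' →* Ω := (normalizerIn S U').subtype.comp (e.toMonoidHom.comp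
      ((φ.codRestrict _ hφ).comp e1.symm.toMonoidHom))
    have hP'N : P' ≤ normalizerIn S U' := fun y hy => by
      obtain ⟨w, -, rfl⟩ := H85.mem_img.1 hy
      exact (e w).2
    have hφ'N : ∀ y, φ' y ∈ normalizerIn S U' := fun y => SetLike.coe_mem _
    have hre : ∀ y : P', (y : Ω) = (e ⟨e1.symm y, hP (e1.symm y).2⟩ : Ω) := fun y => by
      conv_lhs => rw [← e1.apply_symm_apply y]
      exact H85.resIso_apply _ _ _ _
    have hiff : φ ∈ F.normalizerHom U P ↔ φ' ∈ F.normalizerHom U' P' := by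
      constructor
      · exact fun h1 => normalizerHom_map hU hU' he heU h1 fun y =>
          ⟨e1.symm y, hP (e1.symm y).2, hφ _, hre y, rfl⟩
      · intro h1
        refine normalizerHom_map hU' hU he.symm (fun x => ?_) h1 fun x =>
          ⟨e1 x, hP'N (e1 x).2, hφ'N _, ?_, ?_⟩
        · rw [← heU (e.symm x), e.apply_symm_apply]
        · rw [show (⟨(e1 x : Ω), hP'N (e1 x).2⟩ : ↥(normalizerIn S U')) = e ⟨x, hP x.2⟩ from
            Subtype.ext rfl, e.symm_apply_apply]
        · rw [show (⟨φ' (e1 x), hφ'N _⟩ : ↥(normalizerIn S U')) = e ⟨φ x, hφ x⟩ from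
            Subtype.ext (congrArg (fun a : P => (e ⟨φ a, hφ a⟩ : Ω)) (e1.symm_apply_apply x)),
            e.symm_apply_apply]
    refine hiff.trans ((hreal.2 P' hP'N φ' hφ'N).trans ⟨?_, ?_⟩)
    · rintro ⟨g, hg⟩
      refine ⟨g, fun x => ?_⟩
      have := hg (e1 x)
      refine Eq.trans ?_ (this.trans ?_)
      · exact congrArg ι (Subtype.ext
          (congrArg (fun a : P => (e ⟨φ a, hφ a⟩ : Ω)) (e1.symm_apply_apply x)).symm)
      · exact congrArg (fun a => g * ι a * g⁻¹) (Subtype.ext rfl)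
    · rintro ⟨g, hg⟩
      refine ⟨g, fun y => ?_⟩
      refine Eq.trans ?_ ((hg (e1.symm y)).trans ?_)
      · rfl
      · exact congrArg (fun a => g * ι a * g⁻¹) (Subtype.ext (hre y).symm)
  · rw [hT, MonoidHom.range_comp, (MonoidHom.range_eq_top.2 e.surjective : e.toMonoidHom.range = ⊤), ← MonoidHom.range_eq_map]

/-- Not characteristic `p`-type gives component type, given components in systems that are not
constrained. -/
theorem dichotomy (hS : IsPGroup p S) (hF : F.IsSaturated p)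
    (hcomp : ∀ (T : Subgroup Ω) [Finite T] (C : FusionSystem T), IsPGroup p T → C.IsSaturated p →
      ¬ C.IsConstrained p → ∃ (U : Subgroup Ω) (D : FusionSystem U), D.IsComponentIn C p) :
    F.IsOfCharacteristicPType p ∨ F.IsOfComponentType p := by
  by_cases hct : F.IsOfCharacteristicPType p
  · exact Or.inl hct
  refine Or.inr ?_
  simp only [IsOfCharacteristicPType, not_forall] at hct
  obtain ⟨U, hU1, hUn, E, hE, hnc⟩ := hct
  have hEe : E = H85.normalizerSystem F U hUn.1 := H85.fusionSystem_ext hE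
  subst hEe
  haveI : Finite ↥(normalizerIn S U) := H85.finite_of_le (H85.normalizerIn_le U)
  have hUA : U ≤ normalizerIn S U := H85.le_normalizerIn hUn.1
  haveI : (U.subgroupOf (normalizerIn S U)).Normal :=
    Subgroup.normal_subgroupOf_of_le_normalizer inf_le_right
  obtain ⟨z, hz, hz1, hzp, hzc⟩ := H83.exists_central_order_p
    (hS.to_le (H85.normalizerIn_le U)) (U.subgroupOf (normalizerIn S U)) (by
      rw [Ne, Subgroup.subgroupOf_eq_bot]
      exact fun h => hU1 (h.eq_bot_of_le hUA))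
  set X₀ := Subgroup.zpowers (z : Ω) with hX₀def
  have hX₀U : X₀ ≤ U := Subgroup.zpowers_le.2 hz
  have hX₀S : X₀ ≤ S := hX₀U.trans hUn.1
  have hX₀c : Nat.card X₀ = p := by
    rw [hX₀def, Nat.card_zpowers]
    exact orderOf_eq_prime (by simpa using congrArg Subtype.val hzp)
      fun h => hz1 (Subtype.ext h)
  obtain ⟨X, hX, hXn⟩ := H85.exists_fullyNormalized F hX₀S
  obtain ⟨f, hf, hfN, hfX⟩ := H85.exists_map_to_fullyNormalized hS hF hXn hX
  haveI : Finite X₀ := H85.finite_of_le hX₀S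
  have hA : normalizerIn S U ≤ normalizerIn S X₀ := fun a ha =>
    ⟨ha.1, H85.mem_normalizer_of_conj fun y hy => by
      obtain ⟨k, rfl⟩ := Subgroup.mem_zpowers_iff.1 hy
      have hc : Commute a (z : Ω) := congrArg Subtype.val (hzc ⟨a, ha⟩)
      rw [(hc.zpow_right k).eq, mul_inv_cancel_right]
      exact hy⟩
  set g := f.comp (Subgroup.inclusion hA) with hgdef
  have hg : g ∈ F.Hom (normalizerIn S U) := H85.restrict hf hA
  set U' := H85.img g U with hU'def
  have hconj : F.IsConj U U' := H85.isConj_img hg hUA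
  have hU'S : U' ≤ S := H85.img_le hg
  haveI : Finite U' := H85.finite_of_le hU'S
  have hrange : g.range = normalizerIn S U' := by
    haveI : Finite ↥(normalizerIn S U') := H85.finite_of_le (H85.normalizerIn_le U')
    refine Subgroup.eq_of_le_of_card_ge ?_ ?_
    · rintro _ ⟨a, rfl⟩
      refine ⟨H85.map_mem hg a, H85.mem_normalizer_of_conj fun y hy => ?_⟩
      obtain ⟨w, hw, rfl⟩ := H85.mem_img.1 hy
      rw [← map_inv, ← map_mul, ← map_mul]
      exact H85.apply_mem_img (H85.conj_mem_of_mem_normalizer a.2.2 hw)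
    · rw [← Nat.card_congr (MonoidHom.ofInjective (F.injective_of_mem hg)).toEquiv]
      exact hUn.2 U' hconj
  set e := H85.isoOf g hg hrange with hedef
  have he : H85.IsFIso F e := H85.isFIso_isoOf g hg hrange
  have hev : ∀ x, (e x : Ω) = g x := fun x => H85.isoOf_apply g hg hrange x
  have heU : ∀ x : ↥(normalizerIn S U), (e x : Ω) ∈ U' ↔ (x : Ω) ∈ U := fun x => by
    rw [hev]
    exact H85.mem_img_iff hg x
  have hU'n : F.IsFullyNormalized U' := ⟨hU'S, fun Q hQ => by
    refine (hUn.2 Q (H85.isConj_trans hconj hQ)).trans ?_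
    exact le_of_eq (Nat.card_congr e.toEquiv)⟩
  have hXU : X ≤ U' := by
    intro y hy
    obtain ⟨w, hw, rfl⟩ := H85.mem_img.1 (hfX.ge hy)
    exact H85.mem_img.2 ⟨⟨w, hUA (hX₀U hw)⟩, hX₀U hw, congrArg f (Subtype.ext rfl)⟩
  have hNX : normalizerIn S U' ≤ centralizerIn S X := by
    intro y hy
    obtain ⟨a, rfl⟩ := hrange.ge hy
    refine H85.mem_centralizerIn.2 ⟨H85.map_mem hg a, fun x hx => ?_⟩
    obtain ⟨w, hw, rfl⟩ := H85.mem_img.1 (hfX.ge hx)
    obtain ⟨k, hk⟩ := Subgroup.mem_zpowers_iff.1 hw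
    have hc : Commute (a : Ω) (z : Ω) := congrArg Subtype.val (hzc a)
    have h1 : Subgroup.inclusion hA a * w = w * Subgroup.inclusion hA a := by
      refine Subtype.ext ?_
      show (a : Ω) * w = w * a
      rw [← hk]
      exact (hc.zpow_right k).eq
    have h2 := congrArg f h1
    rw [map_mul, map_mul] at h2
    exact h2.symm
  have hXS : X ≤ S := hXn.1
  have hXfc := H85.fullyCentralized_of_fullyNormalized hS hF hXn
  set CX := H85.centralizerSystem F X hXS with hCX
  have hXcard : Nat.card X = p := (H85.isConj_card hX).symm.trans hX₀c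
  refine ⟨X, hXcard, hXn, CX, H85.centralizerSystem_spec F X hXS, ?_⟩
  haveI : Finite ↥(centralizerIn S X) := H85.finite_of_le (H85.centralizerIn_le X)
  have hCXsat : CX.IsSaturated p :=
    H85.isSaturated_centralizerSystem hS hF hXfc CX (H85.centralizerSystem_spec F X hXS)
  refine hcomp _ CX (hS.to_le (H85.centralizerIn_le X)) hCXsat fun hcon => hnc ?_
  refine isConstrained_normalizer_transport hS hUn.1 hU'S he heU ?_
  -- `U'` inside the centralizer of `X`
  have hU'W : U' ≤ centralizerIn S X := (H85.le_normalizerIn hU'S).trans hNX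
  have hU'nC : CX.IsFullyNormalized U' := ⟨hU'W, fun Q hQ => by
    obtain ⟨φ, hφ, hr⟩ := hQ
    haveI : Finite ↥(S ⊓ Subgroup.normalizer (Q : Set Ω)) := H85.finite_of_le (S := S) inf_le_left
    haveI : Finite ↥(centralizerIn S X ⊓ Subgroup.normalizer (U' : Set Ω)) :=
      H85.finite_of_le (S := S) (inf_le_left.trans (H85.centralizerIn_le X))
    haveI : Finite ↥(normalizerIn (centralizerIn S X) U') :=
      H85.finite_of_le (S := S) (inf_le_left.trans (H85.centralizerIn_le X))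
    refine (Subgroup.card_le_of_le (inf_le_inf_right _ (H85.centralizerIn_le X))).trans
      ((hU'n.2 Q ⟨φ, hφ.1, hr⟩).trans ?_)
    exact Subgroup.card_le_of_le (le_inf hNX inf_le_right)⟩
  have hN1 := normalizer_constrained (hS.to_le (H85.centralizerIn_le X)) hcon hU'nC
  set N1 := H85.normalizerSystem CX U' hU'nC.1 with hN1def
  haveI : Finite ↥(normalizerIn (centralizerIn S X) U') :=
    H85.finite_of_le (S := S) (inf_le_left.trans (H85.centralizerIn_le X))
  have hpN1 : IsPGroup p ↥(normalizerIn (centralizerIn S X) U') :=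
    hS.to_le (inf_le_left.trans (H85.centralizerIn_le X))
  have hU'N1 : N1.IsNormal U' := isNormal_normalizerSystem hU'nC.1
  have hC1 := Cfsg.Agent.S5342.result p hpN1 N1 hN1 (H85.centralizerSystem N1 U' hU'N1.1)
    (IsSubnormalIn.step (IsSubnormalIn.refl _ _) (isNormalIn_centralizerSystem hpN1 hN1.1 hU'N1))
  haveI : Finite ↥(normalizerIn S U') := H85.finite_of_le (H85.normalizerIn_le U')
  have hU'N : (H85.normalizerSystem F U' hU'S).IsNormal U' := isNormal_normalizerSystem hU'S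
  refine isConstrained_of_centralizer (hS.to_le (H85.normalizerIn_le U'))
    (H85.isSaturated_normalizerSystem hS hF hU'n _ (H85.normalizerSystem_spec F U' hU'S)) hU'N
    (isConstrained_congr ?_ ?_ hC1)
  · refine le_antisymm (fun x hx => ?_) (fun x hx => ?_)
    · exact ⟨⟨hx.1.1.1, hx.1.2⟩, hx.2⟩
    · exact ⟨⟨hNX hx.1, hx.1.2⟩, hx.2⟩
  intro P
  ext φ
  constructor
  · rintro ⟨hφ, hP, hφm, ψ, hψ, hext, hfix⟩
    exact ⟨(H85.mem_normalizerHom.1 hφ).1.1 |> fun h => H85.mem_normalizerHom.2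
        ⟨h, hP.trans (fun x hx => ⟨hx.1.1.1, hx.1.2⟩), fun x => ⟨(hφm x).1.1.1, (hφm x).1.2⟩,
          ψ, (H85.mem_normalizerHom.1 hψ).1.1, hext, by
            refine le_antisymm (fun y hy => ?_) (fun y hy => ?_)
            · obtain ⟨w, hw, rfl⟩ := H85.mem_img.1 hy
              rw [show w = Subgroup.inclusion le_sup_right (⟨w, hw⟩ : U') from rfl, hfix]
              exact hw
            · exact H85.mem_img.2 ⟨Subgroup.inclusion le_sup_right ⟨y, hy⟩, hy, hfix ⟨y, hy⟩⟩⟩,
      fun x hx => ⟨⟨(hP hx).1.1.1, (hP hx).1.2⟩, (hP hx).2⟩,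
      fun x => ⟨⟨(hφm x).1.1.1, (hφm x).1.2⟩, (hφm x).2⟩, ψ,
      H85.mem_normalizerHom.2 ((H85.mem_normalizerHom.1 hψ) |> fun h =>
        ⟨h.1.1, h.2.1.trans (fun x hx => ⟨hx.1.1, hx.2⟩), fun x => ⟨(h.2.2.1 x).1.1, (h.2.2.1 x).2⟩,
          h.2.2.2.choose, h.2.2.2.choose_spec.1.1, h.2.2.2.choose_spec.2⟩), hext, hfix⟩
  · rintro ⟨hφ, hP, hφm, ψ, hψ, hext, hfix⟩
    have hψF := (H85.mem_normalizerHom.1 hψ).1
    have hψN := (H85.mem_normalizerHom.1 hψ).2.2.1
    have hψP := (H85.mem_normalizerHom.1 hψ).2.1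
    have hW : ∀ {x : Ω}, x ∈ normalizerIn S U' → x ∈ normalizerIn (centralizerIn S X) U' :=
      fun hx => ⟨hNX hx, hx.2⟩
    have hfixX : ∀ (w : ↥(P ⊔ U')), (w : Ω) ∈ X → ψ w = w := fun w hw => by
      rw [show w = Subgroup.inclusion le_sup_right (⟨w, hXU hw⟩ : U') from rfl, hfix]
      rfl
    have hψC : ψ ∈ CX.Hom (P ⊔ U') := by
      have hle : P ⊔ U' ⊔ X ≤ P ⊔ U' := sup_le le_rfl (hXU.trans le_sup_right)
      exact ⟨hψF, hψP.trans hNX, fun x => hNX (hψN x), _, H85.restrict hψF hle, fun x => rfl,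
        fun x => hfixX _ x.2⟩
    have hφC : φ ∈ CX.Hom P := H85.of_extend hψC le_sup_left hext
    have hmap : H85.img ψ U' = U' := by
      refine le_antisymm (fun y hy => ?_) (fun y hy => ?_)
      · obtain ⟨w, hw, rfl⟩ := H85.mem_img.1 hy
        rw [show w = Subgroup.inclusion le_sup_right (⟨w, hw⟩ : U') from rfl, hfix]
        exact hw
      · exact H85.mem_img.2 ⟨Subgroup.inclusion le_sup_right ⟨y, hy⟩, hy, hfix ⟨y, hy⟩⟩
    have hφ1 : φ ∈ N1.Hom P := H85.mem_normalizerHom.2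
      ⟨hφC, fun x hx => hW (hP hx).1, fun x => hW (hφm x).1, ψ, hψC, hext, hmap⟩
    obtain ⟨χ, hχ, hχe, hχm⟩ := hU'N1.2 P φ hφ1
    have hle : P ⊔ U' ⊔ U' ≤ P ⊔ U' := sup_le le_rfl le_sup_right
    refine ⟨hφ1, fun x hx => ⟨hW (hP hx).1, (hP hx).2⟩, fun x => ⟨hW (hφm x).1, (hφm x).2⟩, ψ,
      H85.mem_normalizerHom.2 ⟨hψC, fun x hx => hW (hψP hx), fun x => hW (hψN x), _,
        H85.restrict hψC hle, fun x => rfl, ?_⟩, hext, hfix⟩
    refine le_antisymm (fun y hy => ?_) (fun y hy => ?_)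
    · obtain ⟨w, hw, rfl⟩ := H85.mem_img.1 hy
      exact hmap.le (H85.apply_mem_img (x := Subgroup.inclusion hle w) hw)
    · obtain ⟨w, hw, rfl⟩ := H85.mem_img.1 (show y ∈ H85.img ψ U' from hmap.ge hy)
      exact H85.mem_img.2 ⟨⟨w, Subgroup.mem_sup_left (T := U') w.2⟩, hw, rfl⟩

end H87
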