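import Cfsg.Agent.H87.CentralizerNormal

/-!
Maps of a normal subsystem extend over a normal subgroup `R`, moving each element of `R` inside its
coset of the base of the subsystem.
-/
set_option autoImplicit false
set_option linter.style.haveILetI false
set_option linter.unusedSectionVars false

open Cfsg Cfsg.FusionSystem
open scoped Pointwise

namespace H87

variable {Ω : Type*} [Group Ω] {S U R : Subgroup Ω} [Finite S] {F : FusionSystem S}
  {D : FusionSystem U}

/-- The maps of `D` with an extension over `R` trivial modulo `U`. -/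
def goodSys (D : FusionSystem U) (_hsub : D.IsSubsystemOf F) (hU : F.StronglyClosed U)
    (hR : F.IsNormal R) : FusionSystem U where
  Hom P := {φ | φ ∈ D.Hom P ∧ ∃ ψ ∈ F.Hom (P ⊔ R),
    (∀ x : P, ψ (Subgroup.inclusion le_sup_left x) = φ x) ∧
    ∀ r : R, (r : Ω)⁻¹ * ψ (Subgroup.inclusion le_sup_right r) ∈ U}
  le_of_mem h := D.le_of_mem h.1
  injective_of_mem h := D.injective_of_mem h.1
  conj_mem {P g} hP hg := ⟨D.conj_mem hP hg, Cfsg.conjHom _ g,
    F.conj_mem (sup_le (hP.trans hU.1) hR.1) (hU.1 hg), fun _ => rfl, fun r => by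
      show (r : Ω)⁻¹ * (g * r * g⁻¹) ∈ U
      have := U.mul_mem (H86.normal_of_stronglyClosed F hU (inv_mem (hR.1 r.2)) hg) (inv_mem hg)
      simpa [mul_assoc] using this⟩
  comp_mem := by
    rintro P Q φ χ ⟨hφ, ψ₁, hψ₁, h₁, r₁⟩ ⟨hχ, ψ₂, hψ₂, h₂, r₂⟩ h
    refine ⟨D.comp_mem hφ hχ h, ?_⟩
    have hm : ∀ z, ψ₁ z ∈ Q ⊔ R := mapsTo_sup
      (fun x => (h₁ x).symm ▸ Subgroup.mem_sup_left (h x))
      (fun r => Subgroup.mem_sup_right (map_mem_normal hR hψ₁
        (x := Subgroup.inclusion le_sup_right r) r.2))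
    refine ⟨_, F.comp_mem hψ₁ hψ₂ hm, fun x => ?_, fun r => ?_⟩
    · exact (congrArg ψ₂ (Subtype.ext (h₁ x) : (⟨_, hm _⟩ : ↥(Q ⊔ R)) =
        Subgroup.inclusion le_sup_left ⟨φ x, h x⟩)).trans (h₂ _)
    · have hr : ψ₁ (Subgroup.inclusion le_sup_right r) ∈ R :=
        map_mem_normal hR hψ₁ (x := Subgroup.inclusion le_sup_right r) r.2
      have h3 := U.mul_mem (r₁ r) (r₂ ⟨_, hr⟩)
      rw [mul_assoc, show (⟨_, hr⟩ : R).1 = ψ₁ (Subgroup.inclusion le_sup_right r) from rfl,
        mul_inv_cancel_left] at h3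
      exact h3
  inv_mem := by
    rintro P φ ⟨hφ, ψ, hψ, hext, hmod⟩
    obtain ⟨f, hf, hfe⟩ := D.inv_mem hφ
    obtain ⟨g, hg, hge⟩ := F.inv_mem hψ
    have hle : φ.range ⊔ R ≤ ψ.range := by
      refine sup_le ?_ ?_
      · rintro _ ⟨x, rfl⟩
        exact ⟨_, hext x⟩
      · intro y hy
        obtain ⟨x, -, hx⟩ := H86.exists_preimage_of_stronglyClosed
          (H85.stronglyClosed_of_isNormal hR) le_sup_right hψ hy
        exact ⟨x, hx⟩
    refine ⟨f, ⟨hf, _, H85.restrict hg hle, ?_, fun r => ?_⟩, hfe⟩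
    · rintro ⟨_, x, rfl⟩
      rw [hfe]
      refine Eq.trans (congrArg g (Subtype.ext ?_)) (hge (Subgroup.inclusion le_sup_left x))
      exact (hext x).symm
    · obtain ⟨x, hxR, hx⟩ := H86.exists_preimage_of_stronglyClosed
        (H85.stronglyClosed_of_isNormal hR) le_sup_right hψ r.2
      show (r : Ω)⁻¹ * g _ ∈ U
      rw [show (Subgroup.inclusion hle (Subgroup.inclusion le_sup_right r) : ψ.range) =
        ⟨ψ x, x, rfl⟩ from Subtype.ext hx.symm, hge, ← hx]
      have := U.inv_mem (hmod ⟨x, hxR⟩)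
      rw [mul_inv_rev, inv_inv] at this
      exact this

variable {p : ℕ} [Fact p.Prime]

theorem fullyAutomized_self (hS : IsPGroup p S) (hD : D.IsWeaklyNormalIn F p) :
    D.IsFullyAutomized p U := by
  have : Finite U := H85.finite_of_le hD.2.2.2.1.1
  exact H85.fullyAutomized_of_fullyNormalized (hS.to_le hD.2.2.2.1.1) hD.1
    (H85.fullyNormalized_top D)

/-- A normal `p`-subgroup of `Aut_D(U)` consists of inner automorphisms. -/
theorem le_inner_of_normal (hS : IsPGroup p S) (hD : D.IsWeaklyNormalIn F p)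
    {L : Subgroup (MulAut U)} (hL : L ≤ D.autGroup U) (hLp : IsPGroup p L)
    (hLn : ∀ a ∈ D.autGroup U, ∀ l ∈ L, a * l * a⁻¹ ∈ L) : L ≤ autInducedBy U U := by
  have : Finite U := H85.finite_of_le hD.2.2.2.1.1
  obtain ⟨γ, hγ, hc⟩ := H85.fullyAutomized_conj (fullyAutomized_self hS hD) hL hLp
  intro l hl
  have h1 := hc _ (hLn γ⁻¹ (inv_mem hγ) l hl)
  simpa [mul_assoc] using h1

/-- Every automorphism of the base in `D` is good after raising it to a `p`-power. -/
theorem good_pow_top (hS : IsPGroup p S) (hD : D.IsNormalIn F p) (hR : F.IsNormal R)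
    {α : MulAut U} (hα : α ∈ D.autGroup U) :
    α ^ Nat.card S ∈ (goodSys D hD.1.2.2.1 hD.1.2.2.2.1 hR).autGroup U := by
  have hF := hD.1.2.1
  have hUc := hD.1.2.2.2.1
  have hRc := H85.stronglyClosed_of_isNormal hR
  have hUS := hUc.1
  have : Finite U := H85.finite_of_le hUS
  obtain ⟨β, hβ, hβU, hβC⟩ := hD.2 α hα
  let X := U ⊔ centralizerIn S U
  have hXS : X ≤ S := sup_le hUS inf_le_left
  have : Finite X := H85.finite_of_le hXS
  have hUn : ∀ {s : Ω}, s ∈ S → ∀ {u : Ω}, u ∈ U → s * u * s⁻¹ ∈ U :=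
    fun hs _ hu => H86.normal_of_stronglyClosed F hUc hs hu
  have hCn : ∀ {s : Ω}, s ∈ S → ∀ {c : Ω}, c ∈ centralizerIn S U →
      s * c * s⁻¹ ∈ centralizerIn S U := by
    intro s hs c hc
    refine H85.mem_centralizerIn.2 ⟨S.mul_mem (S.mul_mem hs hc.1) (S.inv_mem hs), fun u hu => ?_⟩
    have h1 := (H85.mem_centralizerIn.1 hc).2 _ (hUn (S.inv_mem hs) hu)
    rw [inv_inv] at h1
    calc u * (s * c * s⁻¹) = s * ((s⁻¹ * u * s) * c) * s⁻¹ := by group
      _ = s * (c * (s⁻¹ * u * s)) * s⁻¹ := by rw [h1]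
      _ = s * c * s⁻¹ * u := by group
  have hXn : S ≤ Subgroup.normalizer (X : Set Ω) := fun s hs =>
    H85.mem_normalizer_of_conj fun x hx => by
      have h : X ≤ X.comap (MulAut.conj s).toMonoidHom := sup_le
        (fun y hy => Subgroup.mem_sup_left (hUn hs hy))
        (fun y hy => Subgroup.mem_sup_right (hCn hs hy))
      exact h hx
  -- `β` is trivial on `X` modulo `U`
  have hUX : U ≤ X := le_sup_left
  have hXU : X ≤ Subgroup.normalizer (U : Set Ω) := fun x hx =>
    H85.mem_normalizer_of_conj fun u hu => hUn (hXS hx) hu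
  have hβt : β ∈ H86.trivMod U X := H86.trivMod_of_sup hXU le_rfl hUX le_sup_right
    (fun x hx => U.mul_mem (U.inv_mem hx) (by
      rw [show x = Subgroup.inclusion le_sup_left ⟨(x : Ω), hx⟩ from Subtype.ext rfl, hβU]
      exact SetLike.coe_mem _))
    (fun x hx => (hβC x hx).1)
  have hβI : H85.IsFIso F β := (H85.mem_autGroup hXS).1 hβ
  -- `R` lies in the extender of `β`
  obtain ⟨a, ha, haU, haR⟩ := exists_iso_sup_normal hR
    (show H85.IsFIso F α from hD.1.2.2.1 U ((H85.mem_autGroup le_rfl).1 hα))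
  have hRe : R ≤ extender S X (X.subtype.comp β.toMonoidHom) := by
    intro r hr
    have hrS := hR.1 hr
    have hrX := hXn hrS
    let cX : MulAut X := H85.conjAut S X ⟨r, hrS, hrX⟩
    let cU : MulAut U :=
      H85.conjAut S U ⟨r, hrS, H85.mem_normalizer_of_conj fun u hu => hUn hrS hu⟩
    have hcXv : ∀ x : X, (cX x : Ω) = r * x * r⁻¹ := fun x => rfl
    have hcUv : ∀ x : U, (cU x : Ω) = r * x * r⁻¹ := fun x => rfl
    have hcX : cX ∈ F.autGroup X :=
      H85.autInducedBy_le_autGroup F hXS (H85.mem_autInducedBy.2 ⟨r, hrS, hcXv⟩)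
    have hcU : cU ∈ F.autGroup U :=
      H85.autInducedBy_le_autGroup F hUS (H85.mem_autInducedBy.2 ⟨r, hrS, hcUv⟩)
    -- the restriction to `U` of the commutator is inner
    let r' : R := ⟨_, haR ⟨r, hr⟩⟩
    have h1 : ∀ x : U, ((α * cU * α⁻¹) x : Ω) = (r' : Ω) * x * (r' : Ω)⁻¹ := by
      intro x
      obtain ⟨y, rfl⟩ := α.surjective x
      have h : a (Subgroup.inclusion le_sup_left (cU y)) =
          a (Subgroup.inclusion le_sup_right ⟨r, hr⟩ * Subgroup.inclusion le_sup_left y *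
            (Subgroup.inclusion le_sup_right (⟨r, hr⟩ : R))⁻¹) :=
        congrArg a (Subtype.ext rfl)
      rw [map_mul, map_mul, map_inv] at h
      have h' := congrArg Subtype.val h
      rw [Subgroup.coe_mul, Subgroup.coe_mul, Subgroup.coe_inv, haU, haU] at h'
      rw [MulAut.mul_apply, MulAut.mul_apply, MulAut.inv_apply_self]
      exact h'
    let L : Subgroup (MulAut U) := D.autGroup U ⊓ autInducedBy R U
    have hL : L ≤ autInducedBy U U := by
      refine le_inner_of_normal hS hD.1 inf_le_left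
        (((H85.autInducedBy_isPGroup (hS.to_le hR.1) U)).to_le inf_le_right) ?_
      rintro b hb l ⟨hlD, hlR⟩
      refine ⟨(D.autGroup U).mul_mem ((D.autGroup U).mul_mem hb hlD)
        ((D.autGroup U).inv_mem hb), ?_⟩
      obtain ⟨k, hk, hke⟩ := H85.mem_autInducedBy.1 hlR
      obtain ⟨b', -, hbU, hbR⟩ := exists_iso_sup_normal hR
        (show H85.IsFIso F b from hD.1.2.2.1 U ((H85.mem_autGroup le_rfl).1 hb))
      refine H85.mem_autInducedBy.2 ⟨_, hbR ⟨k, hk⟩, fun x => ?_⟩
      obtain ⟨y, rfl⟩ := b.surjective x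
      have h : b' (Subgroup.inclusion le_sup_left (l y)) =
          b' (Subgroup.inclusion le_sup_right ⟨k, hk⟩ * Subgroup.inclusion le_sup_left y *
            (Subgroup.inclusion le_sup_right (⟨k, hk⟩ : R))⁻¹) :=
        congrArg b' (Subtype.ext (hke y))
      rw [map_mul, map_mul, map_inv] at h
      have h' := congrArg Subtype.val h
      rw [Subgroup.coe_mul, Subgroup.coe_mul, Subgroup.coe_inv, hbU, hbU] at h'
      rw [MulAut.mul_apply, MulAut.mul_apply, MulAut.inv_apply_self]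
      exact h'
    have hcL : α * cU * α⁻¹ * cU⁻¹ ∈ L := by
      refine ⟨?_, ?_⟩
      · show α * cU * α⁻¹ * cU⁻¹ ∈ D.autGroup U
        have h2 : cU * α⁻¹ * cU⁻¹ ∈ D.autGroup U :=
          H86.autGroup_transport hD.1 le_rfl le_rfl ((H85.mem_autGroup hUS).1 hcU) (inv_mem hα)
        have := mul_mem hα h2
        simpa only [mul_assoc] using this
      · exact (autInducedBy R U).mul_mem (H85.mem_autInducedBy.2 ⟨r', r'.2, h1⟩)
          ((autInducedBy R U).inv_mem (H85.mem_autInducedBy.2 ⟨r, hr, hcUv⟩))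
    obtain ⟨u, hu, hue⟩ := H85.mem_autInducedBy.1 (hL hcL)
    -- the commutator is induced by `S`
    let du : MulAut X := H85.conjAut S X ⟨u, hUS hu, hXn (hUS hu)⟩
    have hduv : ∀ x : X, (du x : Ω) = u * x * u⁻¹ := fun x => rfl
    have hdu : du ∈ autInducedBy S X := H85.mem_autInducedBy.2 ⟨u, hUS hu, hduv⟩
    let ε : MulAut X := β * cX * β⁻¹ * cX⁻¹
    have hεF : ε ∈ F.autGroup X :=
      mul_mem (mul_mem (mul_mem hβ hcX) (inv_mem hβ)) (inv_mem hcX)
    have hεt : ε ∈ H86.trivMod U X := by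
      have h : cX * β⁻¹ * cX⁻¹ ∈ H86.trivMod U X := fun x => by
        have h1 := (inv_mem hβt : β⁻¹ ∈ H86.trivMod U X) (cX⁻¹ x)
        obtain ⟨y, rfl⟩ := cX.surjective x
        rw [MulAut.inv_apply_self] at h1
        rw [MulAut.mul_apply, MulAut.mul_apply, MulAut.inv_apply_self, hcXv, hcXv]
        have h2 := hUn hrS h1
        simpa [mul_assoc] using h2
      show β * cX * β⁻¹ * cX⁻¹ ∈ H86.trivMod U X
      rw [show β * cX * β⁻¹ * cX⁻¹ = β * (cX * β⁻¹ * cX⁻¹) by simp only [mul_assoc]]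
      exact mul_mem hβt h
    have hεU : ∀ x : U, (ε (Subgroup.inclusion le_sup_left x) : Ω) = u * x * u⁻¹ := by
      intro x
      have hc1 : ∀ y : U, cX⁻¹ (Subgroup.inclusion le_sup_left y) =
          Subgroup.inclusion le_sup_left (cU⁻¹ y) := fun y => by
        apply cX.injective
        rw [MulAut.apply_inv_self]
        exact Subtype.ext (congrArg Subtype.val (MulAut.apply_inv_self _ cU y)).symm
      have hb1 : ∀ y : U, β⁻¹ (Subgroup.inclusion le_sup_left y) =
          Subgroup.inclusion le_sup_left (α⁻¹ y) := fun y => by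
        apply β.injective
        rw [MulAut.apply_inv_self]
        exact Subtype.ext ((hβU _).trans
          (congrArg Subtype.val (MulAut.apply_inv_self _ α y))).symm
      have h2 : ∀ y : U, cX (Subgroup.inclusion le_sup_left y) =
          Subgroup.inclusion le_sup_left (cU y) := fun y => Subtype.ext rfl
      rw [MulAut.mul_apply, MulAut.mul_apply, MulAut.mul_apply, hc1, hb1, h2, hβU]
      exact hue x
    have hεS : ε ∈ autInducedBy S X := by
      let K : Subgroup (MulAut X) :=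
        { carrier := {k | k ∈ F.autGroup X ∧ k ∈ H86.trivMod U X ∧ ∀ x : X, (x : Ω) ∈ U → k x = x}
          one_mem' := ⟨one_mem _, one_mem _, fun x _ => rfl⟩
          mul_mem' := fun {k l} hk hl => ⟨mul_mem hk.1 hl.1, mul_mem hk.2.1 hl.2.1, fun x hx => by
            rw [MulAut.mul_apply, hl.2.2 x hx, hk.2.2 x hx]⟩
          inv_mem' := fun {k} hk => ⟨inv_mem hk.1, inv_mem hk.2.1, fun x hx => by
            conv_lhs => rw [← hk.2.2 x hx]
            exact MulAut.inv_apply_self _ _ _⟩ }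
      have hKp : IsPGroup p K := fun k => by
        obtain ⟨j, hj⟩ := H86.pow_eq_one_trivMod (hS.to_le hXS) k.2.2.1 k.2.2.2
        exact ⟨j, Subtype.ext hj⟩
      have hKn : ∀ b ∈ F.autGroup X, ∀ k ∈ K, b * k * b⁻¹ ∈ K := by
        intro b hb k hk
        have hbI : H85.IsFIso F b := (H85.mem_autGroup hXS).1 hb
        have hbinv : H85.IsFIso F (b⁻¹ : MulAut X) := (H85.mem_autGroup hXS).1 (inv_mem hb)
        refine ⟨mul_mem (mul_mem hb hk.1) (inv_mem hb), fun x => ?_, fun x hx => ?_⟩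
        · obtain ⟨y, rfl⟩ := b.surjective x
          rw [MulAut.mul_apply, MulAut.mul_apply, MulAut.inv_apply_self, ← Subgroup.coe_inv,
            ← map_inv, ← Subgroup.coe_mul, ← map_mul]
          exact H86.map_mem_of_stronglyClosed hUc hbI (x := y⁻¹ * k y) (hk.2.1 y)
        · have h : ((b⁻¹ x : X) : Ω) ∈ U := H86.map_mem_of_stronglyClosed hUc hbinv (x := x) hx
          rw [MulAut.mul_apply, MulAut.mul_apply, hk.2.2 _ h, MulAut.apply_inv_self]
      have hX2 := H85.fullyAutomized_of_fullyNormalized hS hF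
        (H86.fullyNormalized_of_normal hXS hXn)
      obtain ⟨γ, hγ, hc⟩ := H85.fullyAutomized_conj hX2 (K := K) (fun k hk => hk.1) hKp
      have hk : du⁻¹ * ε ∈ K := by
        have hdt : du ∈ H86.trivMod U X := fun x => by
          rw [hduv]
          have := U.mul_mem (hUn (inv_mem (hXS x.2)) hu) (inv_mem hu)
          simpa [mul_assoc] using this
        refine ⟨mul_mem (inv_mem (H85.autInducedBy_le_autGroup F hXS hdu)) hεF,
          mul_mem (inv_mem hdt) hεt, fun x hx => ?_⟩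
        rw [MulAut.mul_apply]
        apply du.injective
        rw [MulAut.apply_inv_self]
        exact Subtype.ext ((hεU ⟨x, hx⟩).trans (hduv x).symm)
      have h3 := hc _ (hKn γ⁻¹ (inv_mem hγ) _ hk)
      have h4 : du⁻¹ * ε ∈ autInducedBy S X := by simpa [mul_assoc] using h3
      have := mul_mem hdu h4
      simpa using this
    have hβc : β * cX * β⁻¹ ∈ autInducedBy S X := by
      have := mul_mem hεS (H85.mem_autInducedBy.2 ⟨r, hrS, hcXv⟩ : cX ∈ autInducedBy S X)
      simpa [ε] using this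
    obtain ⟨s, hs, hse⟩ := H85.mem_autInducedBy.1 hβc
    refine H85.mem_extender.2 ⟨hrS, hrX, s, hs, fun x hx => ?_⟩
    refine Eq.trans ?_ (hse (β x))
    rw [MulAut.mul_apply, MulAut.mul_apply, MulAut.inv_apply_self]
    exact congrArg (fun z : X => (β z : Ω)) (Subtype.ext rfl)
  -- the extension
  obtain ⟨ψ, hψ, hext⟩ := H85.receptive_extend
    (H85.receptive_of_fullyNormalized hS hF (H86.fullyNormalized_of_normal hXS hXn)) hβI
  let W := X ⊔ R
  have hWS : W ≤ S := sup_le hXS hR.1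
  have : Finite W := H85.finite_of_le hWS
  have hWe : W ≤ extender S X (X.subtype.comp β.toMonoidHom) :=
    sup_le (H85.le_extender hXS fun x => H85.map_mem hβI x) hRe
  set γ := ψ.comp (Subgroup.inclusion hWe) with hγdef
  have hγ : γ ∈ F.Hom W := H85.restrict hψ hWe
  have hγX : ∀ x : X, γ (Subgroup.inclusion le_sup_left x) = (β x : Ω) :=
    fun x => hext x x.2 _
  have hγR : ∀ r : R, γ (Subgroup.inclusion le_sup_right r) ∈ R :=
    fun r => map_mem_normal hR hγ (x := Subgroup.inclusion le_sup_right r) r.2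
  have hr0 : γ.range = W := H86.range_eq_self_of_le F hγ (by
    rintro _ ⟨z, rfl⟩
    exact mapsTo_sup (fun x => by rw [hγX]; exact Subgroup.mem_sup_left (β x).2)
      (fun r => Subgroup.mem_sup_right (hγR r)) z)
  set g := H86.autOfHom γ (F.injective_of_mem hγ) hr0 with hgdef
  have hgF : g ∈ F.autGroup W := H86.autOfHom_mem F hγ hr0
  have hgv : ∀ z : W, (g z : Ω) = γ z := fun z => rfl
  have hgU : ∀ u : U, g (Subgroup.inclusion (hUX.trans le_sup_left) u) =
      Subgroup.inclusion (hUX.trans le_sup_left) (α u) := fun u =>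
    Subtype.ext ((hgv _).trans ((hγX (Subgroup.inclusion le_sup_left u)).trans (hβU u)))
  -- `γ` moves `R` inside cosets of `X`
  have hmod : ∀ r : R, (r : Ω)⁻¹ * γ (Subgroup.inclusion le_sup_right r) ∈ X := by
    intro r
    set s := γ (Subgroup.inclusion le_sup_right r) with hs
    have hrS := hR.1 r.2
    have hsS : s ∈ S := H85.map_mem hγ _
    let cU : MulAut U :=
      H85.conjAut S U ⟨r, hrS, H85.mem_normalizer_of_conj fun u hu => hUn hrS hu⟩
    let L : Subgroup (MulAut U) := D.autGroup U ⊓ autInducedBy R U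
    -- `s` and `r` agree on `U` up to an element of `U`
    have hcU : cU ∈ F.autGroup U :=
      H85.autInducedBy_le_autGroup F hUS (H85.mem_autInducedBy.2 ⟨r, hrS, fun x => rfl⟩)
    have hLU : L ≤ autInducedBy U U := by
      refine le_inner_of_normal hS hD.1 inf_le_left
        (((H85.autInducedBy_isPGroup (hS.to_le hR.1) U)).to_le inf_le_right) ?_
      rintro b hb l ⟨hlD, hlR⟩
      refine ⟨(D.autGroup U).mul_mem ((D.autGroup U).mul_mem hb hlD)
        ((D.autGroup U).inv_mem hb), ?_⟩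
      obtain ⟨k, hk, hke⟩ := H85.mem_autInducedBy.1 hlR
      obtain ⟨b', -, hbU, hbR⟩ := exists_iso_sup_normal hR
        (show H85.IsFIso F b from hD.1.2.2.1 U ((H85.mem_autGroup le_rfl).1 hb))
      refine H85.mem_autInducedBy.2 ⟨_, hbR ⟨k, hk⟩, fun x => ?_⟩
      obtain ⟨y, rfl⟩ := b.surjective x
      have h : b' (Subgroup.inclusion le_sup_left (l y)) =
          b' (Subgroup.inclusion le_sup_right ⟨k, hk⟩ * Subgroup.inclusion le_sup_left y *
            (Subgroup.inclusion le_sup_right (⟨k, hk⟩ : R))⁻¹) :=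
        congrArg b' (Subtype.ext (hke y))
      rw [map_mul, map_mul, map_inv] at h
      have h' := congrArg Subtype.val h
      rw [Subgroup.coe_mul, Subgroup.coe_mul, Subgroup.coe_inv, hbU, hbU] at h'
      rw [MulAut.mul_apply, MulAut.mul_apply, MulAut.inv_apply_self]
      exact h'
    have hsU : ∀ y : U, ((α * cU * α⁻¹) y : Ω) = s * y * s⁻¹ := by
      intro y
      obtain ⟨x, rfl⟩ := α.surjective y
      have h : g (Subgroup.inclusion (hUX.trans le_sup_left) (cU x)) =
          g (Subgroup.inclusion le_sup_right r * Subgroup.inclusion (hUX.trans le_sup_left) x *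
            (Subgroup.inclusion le_sup_right r)⁻¹) :=
        congrArg g (Subtype.ext rfl)
      rw [map_mul, map_mul, map_inv, hgU, hgU] at h
      have h' := congrArg Subtype.val h
      rw [MulAut.mul_apply, MulAut.mul_apply, MulAut.inv_apply_self]
      exact h'
    have hcL : α * cU * α⁻¹ * cU⁻¹ ∈ L := by
      refine ⟨?_, (autInducedBy R U).mul_mem (H85.mem_autInducedBy.2 ⟨s, hγR r, hsU⟩)
        ((autInducedBy R U).inv_mem (H85.mem_autInducedBy.2 ⟨r, r.2, fun x => rfl⟩))⟩
      show α * cU * α⁻¹ * cU⁻¹ ∈ D.autGroup U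
      have h2 : cU * α⁻¹ * cU⁻¹ ∈ D.autGroup U :=
        H86.autGroup_transport hD.1 le_rfl le_rfl ((H85.mem_autGroup hUS).1 hcU) (inv_mem hα)
      have := mul_mem hα h2
      simpa only [mul_assoc] using this
    obtain ⟨u, hu, hue⟩ := H85.mem_autInducedBy.1 (hLU hcL)
    -- `(u r)⁻¹ s` centralizes `U`
    have hc : (r : Ω)⁻¹ * u⁻¹ * s ∈ centralizerIn S U := by
      refine H85.mem_centralizerIn.2
        ⟨S.mul_mem (S.mul_mem (S.inv_mem hrS) (S.inv_mem (hUS hu))) hsS, fun x hx => ?_⟩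
      have h1 := hue (cU ⟨x, hx⟩)
      rw [MulAut.mul_apply, MulAut.inv_apply_self, hsU] at h1
      change s * x * s⁻¹ = u * ((r : Ω) * x * (r : Ω)⁻¹) * u⁻¹ at h1
      have h2 : s * x = u * (r : Ω) * x * ((r : Ω)⁻¹ * u⁻¹ * s) := by
        calc s * x = s * x * s⁻¹ * s := by group
          _ = _ := by rw [h1]; group
      calc x * ((r : Ω)⁻¹ * u⁻¹ * s)
          = (r : Ω)⁻¹ * u⁻¹ * (u * (r : Ω) * x * ((r : Ω)⁻¹ * u⁻¹ * s)) := by group
        _ = (r : Ω)⁻¹ * u⁻¹ * (s * x) := by rw [h2]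
        _ = _ := (mul_assoc _ _ _).symm
    have h3 := X.mul_mem (Subgroup.mem_sup_left (T := centralizerIn S U) (hUn (inv_mem hrS) hu))
      (Subgroup.mem_sup_right (S := U) hc)
    simpa [mul_assoc] using h3
  -- iterate
  have hgX : ∀ x : W, (x : Ω) ∈ X → (x : Ω)⁻¹ * (g x : Ω) ∈ U := fun x hx => by
    rw [hgv, show x = Subgroup.inclusion le_sup_left (⟨x, hx⟩ : X) from Subtype.ext rfl, hγX]
    exact hβt ⟨x, hx⟩
  have hiter : ∀ (r : R) (m : ℕ),
      ((r : Ω) * ((r : Ω)⁻¹ * γ (Subgroup.inclusion le_sup_right r)) ^ m)⁻¹ *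
        ((g ^ m) (Subgroup.inclusion le_sup_right r) : Ω) ∈ U := by
    intro r m
    set x := (r : Ω)⁻¹ * γ (Subgroup.inclusion le_sup_right r) with hx
    induction m with
    | zero => simp
    | succ m ih =>
      let rW : W := Subgroup.inclusion le_sup_right r
      let xW : W := ⟨x ^ m, Subgroup.mem_sup_left (X.pow_mem (hmod r) m)⟩
      set u := ((r : Ω) * x ^ m)⁻¹ * ((g ^ m) rW : Ω) with hu
      have hum : (g ^ m) rW = rW * xW * ⟨u, Subgroup.mem_sup_left (hUX ih)⟩ :=
        Subtype.ext (mul_inv_cancel_left ((r : Ω) * x ^ m) _).symm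
      rw [pow_succ' g, MulAut.mul_apply, hum, map_mul, map_mul, Subgroup.coe_mul,
        Subgroup.coe_mul, hgv rW]
      have hgu : (g ⟨u, Subgroup.mem_sup_left (hUX ih)⟩ : Ω) ∈ U := by
        rw [show (⟨u, Subgroup.mem_sup_left (hUX ih)⟩ : W) =
          Subgroup.inclusion (hUX.trans le_sup_left) ⟨u, ih⟩ from Subtype.ext rfl, hgU]
        exact SetLike.coe_mem _
      have hgx := hgX xW (X.pow_mem (hmod r) m)
      have h2 := U.mul_mem hgx hgu
      have hγr : γ rW = (r : Ω) * x := by rw [hx, mul_inv_cancel_left]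
      rw [hγr, pow_succ']
      have e : ((r : Ω) * (x * x ^ m))⁻¹ * ((r : Ω) * x * (g xW : Ω) *
          (g ⟨u, Subgroup.mem_sup_left (hUX ih)⟩ : Ω)) =
          (x ^ m)⁻¹ * (g xW : Ω) * (g ⟨u, Subgroup.mem_sup_left (hUX ih)⟩ : Ω) := by group
      rw [e]
      exact h2
  set N := Nat.card S with hN
  have hgN : g ^ N ∈ F.autGroup W := pow_mem hgF _
  have hgNI : H85.IsFIso F (g ^ N : MulAut W) := (H85.mem_autGroup hWS).1 hgN
  have hgNU : ∀ (m : ℕ) (u : U), (g ^ m) (Subgroup.inclusion (hUX.trans le_sup_left) u) =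
      Subgroup.inclusion (hUX.trans le_sup_left) ((α ^ m) u) := by
    intro m
    induction m with
    | zero => intro u; rfl
    | succ m ih => intro u; rw [pow_succ', MulAut.mul_apply, ih, hgU, pow_succ']; rfl
  have hle : U ⊔ R ≤ W := sup_le_sup_right hUX R
  refine (H85.mem_autGroup le_rfl).2 ⟨(H85.mem_autGroup le_rfl).1 (pow_mem hα _),
    _, H85.restrict hgNI hle, fun x => ?_, fun r => ?_⟩
  · exact congrArg Subtype.val (hgNU N x)
  · have h := hiter r N
    have hxS : ((r : Ω)⁻¹ * γ (Subgroup.inclusion le_sup_right r)) ^ N = 1 :=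
      congrArg Subtype.val (pow_card_eq_one' (x := (⟨_, hXS (hmod r)⟩ : S)))
    rw [hxS, mul_one] at h
    exact h

/-- Every map of a normal subsystem extends over `R` trivially modulo its base. -/
theorem le_goodSys (hS : IsPGroup p S) (hD : D.IsNormalIn F p) (hR : F.IsNormal R) :
    ∀ (P : Subgroup Ω), D.Hom P ⊆ (goodSys D hD.1.2.2.1 hD.1.2.2.2.1 hR).Hom P := by
  have hDs := hD.1.1
  have hUc := hD.1.2.2.2.1
  have hUS := hUc.1
  have : Finite U := H85.finite_of_le hUS
  have hUp : IsPGroup p U := hS.to_le hUS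
  set G := goodSys D hD.1.2.2.1 hUc hR with hGdef
  suffices h : ∀ P : Subgroup Ω, P ≤ U → ∀ φ ∈ D.Hom P, φ ∈ G.Hom P from
    fun P φ hφ => h P (H85.source_le hφ) φ hφ
  refine H86.induction_within hUp hDs (H86.stronglyClosed_self D) (fun P φ => φ ∈ G.Hom P)
    ?_ ?_ ?_ ?_
  · intro P Q φ h _ _ hφ
    exact H85.restrict hφ h
  · intro P Q Q' e e' _ _ _ _ _ h h'
    exact H85.hom_congr (H85.IsFIso.trans (F := G) h h') fun _ => rfl
  · intro P Q e _ _ _ h
    exact H85.IsFIso.symm (F := G) h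
  intro P hPU hP ih a ha
  refine (H85.mem_autGroup (F := G) hPU).1 ?_
  rcases eq_or_lt_of_le hPU with rfl | hlt
  · obtain ⟨hUle, Q, hQ⟩ := H85.fullyAutomized_of_fullyNormalized hUp hDs hP
    have : Finite (D.autGroup P) := H85.finite_autGroup D le_rfl
    suffices hle : (⊤ : Subgroup (D.autGroup P)) ≤ (G.autGroup P).subgroupOf (D.autGroup P) from
      hle (Subgroup.mem_top (⟨a, ha⟩ : D.autGroup P))
    rw [← H86.pResidual_sup_sylow Q, Cfsg.pResidual]
    refine sup_le ((Subgroup.closure_le _).2 ?_) ?_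
    · intro k hk
      obtain ⟨n, hn⟩ := IsPGroup.iff_card.1 hS
      obtain ⟨j, hj⟩ := exists_pow_eq_self_of_coprime (n := Nat.card S) (x := (k : MulAut P)) (by
        rw [hn, Subgroup.orderOf_coe]; exact Nat.Coprime.pow_left n hk.symm)
      show (k : MulAut P) ∈ G.autGroup P
      rw [← hj]
      exact pow_mem (good_pow_top hS hD hR k.2) j
    · intro k hk
      rw [hQ] at hk
      exact H85.autInducedBy_le_autGroup G le_rfl hk
  let M : Subgroup (MulAut P) := Subgroup.closure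
    {k | ∃ b ∈ D.autGroup P, ∃ c ∈ autInducedBy U P, b * c * b⁻¹ = k}
  have hconj : ∀ b ∈ D.autGroup P, ∀ c ∈ autInducedBy U P, b * c * b⁻¹ ∈ G.autGroup P := by
    intro b hb c hc
    obtain ⟨u, hu, hue⟩ := H85.mem_autInducedBy.1 hc
    have hcD : c ∈ D.autGroup P := H85.autInducedBy_le_autGroup D hPU hc
    obtain ⟨b', hb', hbP, hbR⟩ := exists_iso_sup_normal hR
      (show H85.IsFIso F b from hD.1.2.2.1 P ((H85.mem_autGroup hPU).1 hb))
    have hPR : P ⊔ R ≤ S := sup_le (hPU.trans hUS) hR.1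
    have huN := H85.mem_normalizer_of_induced hue
    have hum : ∀ z : ↥(P ⊔ R), u * ((b'.symm z : ↥(P ⊔ R)) : Ω) * u⁻¹ ∈ P ⊔ R := by
      intro z
      refine mapsTo_sup (φ := (Cfsg.conjHom (P ⊔ R) u)) (fun x => ?_) (fun r => ?_) (b'.symm z)
      · exact Subgroup.mem_sup_left (H85.conj_mem_of_mem_normalizer huN x.2)
      · exact Subgroup.mem_sup_right
          (H86.normal_of_stronglyClosed F (H85.stronglyClosed_of_isNormal hR) (hUS hu) r.2)
    have h2 := F.comp_mem hb'.symm (F.conj_mem hPR (hUS hu) (P := P ⊔ R)) fun z => (b'.symm z).2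
    have h3 := F.comp_mem h2 hb' hum
    refine (H85.mem_autGroup hPU).2
      ⟨(H85.mem_autGroup hPU).1 (mul_mem (mul_mem hb hcD) (inv_mem hb)), _, h3, fun x => ?_,
        fun r => ?_⟩
    · obtain ⟨y, rfl⟩ := b.surjective x
      have e1 : b'.symm (Subgroup.inclusion le_sup_left (b y)) =
          Subgroup.inclusion le_sup_left y := by
        rw [MulEquiv.symm_apply_eq]
        exact Subtype.ext (hbP y).symm
      show (b' ⟨u * ((b'.symm _ : ↥(P ⊔ R)) : Ω) * u⁻¹, _⟩ : Ω) = (b (c (b⁻¹ (b y))) : Ω)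
      rw [MulAut.inv_apply_self, ← hbP]
      refine congrArg (fun w : ↥(P ⊔ R) => (b' w : Ω)) (Subtype.ext ?_)
      show u * ((b'.symm _ : ↥(P ⊔ R)) : Ω) * u⁻¹ = (c y : Ω)
      rw [e1]
      exact (hue y).symm
    · set z := b'.symm (Subgroup.inclusion le_sup_right r) with hz
      have hzR : (z : Ω) ∈ R := map_mem_normal hR hb'.symm
        (x := Subgroup.inclusion le_sup_right r) r.2
      have hw : (z : Ω)⁻¹ * (u * z * u⁻¹) ∈ U := by
        have := U.mul_mem (H86.normal_of_stronglyClosed F hUc (inv_mem (hR.1 hzR)) hu) (inv_mem hu)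
        simpa [mul_assoc] using this
      show (r : Ω)⁻¹ * (b' ⟨u * (z : Ω) * u⁻¹, _⟩ : Ω) ∈ U
      have hkey : ∀ w : ↥(P ⊔ R), ((z⁻¹ * w : ↥(P ⊔ R)) : Ω) ∈ U → (r : Ω)⁻¹ * (b' w : Ω) ∈ U := by
        intro w hwU
        rw [← mul_inv_cancel_left z w, map_mul, Subgroup.coe_mul, hz, MulEquiv.apply_symm_apply]
        change (r : Ω)⁻¹ * ((r : Ω) * _) ∈ U
        rw [inv_mul_cancel_left]
        exact H86.map_mem_of_stronglyClosed hUc hb' hwU
      exact hkey _ hw
  have hMD : M ≤ D.autGroup P := (Subgroup.closure_le _).2 (by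
    rintro _ ⟨b, hb, c, hc, rfl⟩
    exact mul_mem (mul_mem hb (H85.autInducedBy_le_autGroup D hPU hc)) (inv_mem hb))
  have hMG : M ≤ G.autGroup P := (Subgroup.closure_le _).2 (by
    rintro _ ⟨b, hb, c, hc, rfl⟩
    exact hconj b hb c hc)
  have hMn : ∀ b ∈ D.autGroup P, ∀ k ∈ M, b * k * b⁻¹ ∈ M := by
    intro b hb k hk
    have : M ≤ M.comap (MulAut.conj b).toMonoidHom := (Subgroup.closure_le _).2 (by
      rintro _ ⟨d, hd, c, hc, rfl⟩
      exact Subgroup.subset_closure ⟨b * d, mul_mem hb hd, c, hc, by simp [mul_assoc]⟩)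
    exact this hk
  obtain ⟨k, hk, β, -, hkβ, ψ, hψ, hψe⟩ := H86.frattini_step hUp hDs hP hMD hMn ha
    (normalizerIn U P) le_rfl fun g hg => Subgroup.subset_closure
      ⟨1, one_mem _, H85.conjAut U P ⟨g, hg⟩, H85.mem_autInducedBy.2 ⟨g, hg.1, fun _ => rfl⟩,
        by simp⟩
  have hle : P ⊔ normalizerIn U P ≤ U := sup_le hPU inf_le_left
  have hbig : Nat.card P < Nat.card ↥(P ⊔ normalizerIn U P) :=
    (H86.card_lt_card_normalizerIn hUp le_rfl hlt).trans_le (by
      have : Finite ↥(P ⊔ normalizerIn U P) := H85.finite_of_le (hle.trans hUS)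
      exact Subgroup.card_le_of_le le_sup_right)
  have hβG : β ∈ G.autGroup P :=
    (H85.mem_autGroup hPU).2 (H85.of_extend (ih _ hle hbig ψ hψ) le_sup_left hψe)
  rw [hkβ]
  exact mul_mem (hMG hk) hβG

end H87
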