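import Cfsg.Agent.H87.NormalMapInd
import Cfsg.Agent.H85.Centric

/-!
Normal map theorem (helper87): the system generated by a normal map is saturated, and it is weakly
normal in every saturated subsystem of `F` containing it in which `X` is strongly closed and which
has enough conjugates; in particular it is weakly normal in `F`.
-/

set_option autoImplicit false
set_option linter.unusedSectionVars false

open Cfsg Cfsg.FusionSystem

namespace H87

variable {Ω : Type*} [Group Ω] {S : Subgroup Ω}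

namespace NMap

variable {p : ℕ} {F : FusionSystem S} {X : Subgroup Ω}
variable [Finite S] [Fact p.Prime] (N : NMap p F X)

theorem fullyAutomized_of_levE {Q U : Subgroup Ω} (hQ : CenX F X Q) (hU : CenX F X U)
    (hUn : F.IsFullyNormalized U) {e : Q ≃* U} (he : H85.IsFIso F e) {κ : MulAut X}
    (hke : ∀ x : Q, (e x : Ω) = κ ⟨x, hQ.1 x.2⟩) :
    N.sys.IsFullyAutomized p Q := by
  have : Finite U := N.finite_of hU.1
  have : Finite (MulAut U) := Finite.of_injective (fun f => (f : U → U)) DFunLike.coe_injective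
  rw [H85.isFullyAutomized_iff N.pGroup]
  refine ⟨hQ.1, fun K hKA hKp hle => ?_⟩
  have hKB : K ≤ N.B Q := fun a ha => N.autGroup_eq hQ ▸ hKA ha
  set K' := K.map (MulAut.congr e).toMonoidHom with hK'
  have hK'B : K' ≤ N.B U := by
    rintro _ ⟨a, ha, rfl⟩
    exact N.congr Q U e hQ he a (hKB ha)
  have hK'le : autInducedBy X U ≤ K' := by
    intro c hc
    obtain ⟨t, ht, hte⟩ := H85.mem_autInducedBy.1 hc
    refine ⟨MulAut.congr e.symm c, hle (H85.mem_autInducedBy.2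
      ⟨(κ⁻¹ ⟨t, ht⟩ : X), SetLike.coe_mem _, fun x => ?_⟩), MulEquiv.ext fun y => ?_⟩
    · set z := e.symm (c (e x)) with hz
      show (z : Ω) = _
      have h1 : ((κ ⟨z, hQ.1 z.2⟩ : X) : Ω) = t * (κ ⟨x, hQ.1 x.2⟩ : X) * t⁻¹ := by
        rw [← hke, ← hke, hz, MulEquiv.apply_symm_apply]
        exact hte (e x)
      have h2 : κ ⟨z, hQ.1 z.2⟩ = ⟨t, ht⟩ * κ ⟨x, hQ.1 x.2⟩ * ⟨t, ht⟩⁻¹ := Subtype.ext h1
      have h3 := congrArg (κ⁻¹ : MulAut X) h2
      simp only [map_mul, map_inv, MulAut.inv_apply_self] at h3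
      exact congrArg Subtype.val h3
    · show e (e.symm (c (e (e.symm y)))) = c y
      rw [MulEquiv.apply_symm_apply, MulEquiv.apply_symm_apply]
  obtain ⟨β, hβ, hβK⟩ := H85.fullyAutomized_conj
    (H85.fullyAutomized_of_fullyNormalized N.hS N.hF hUn)
    (hK'B.trans (N.le_aut U hU)) (hKp.map _)
  have hsub : K'.map (MulAut.conj β).toMonoidHom ≤ autInducedBy X U := by
    rintro _ ⟨k, hk, rfl⟩
    exact N.inf_induced U hU hUn ⟨N.conj_B hU hβ (hK'B hk), hβK k hk⟩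
  have heq : autInducedBy X U = K' := by
    refine Subgroup.eq_of_le_of_card_ge hK'le ?_
    rw [← Subgroup.card_map_of_injective (f := (MulAut.conj β).toMonoidHom)
      (MulAut.conj β).injective]
    exact Subgroup.card_le_of_le hsub
  refine le_antisymm (fun a ha => ?_) hle
  have h1 : MulAut.congr e a ∈ autInducedBy X U := heq ▸ ⟨a, ha, rfl⟩
  obtain ⟨t, ht, hte⟩ := H85.mem_autInducedBy.1 h1
  refine H85.mem_autInducedBy.2 ⟨(κ⁻¹ ⟨t, ht⟩ : X), SetLike.coe_mem _, fun x => ?_⟩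
  have h2 := hte (e x)
  have h3 : MulAut.congr e a (e x) = e (a x) := congrArg (fun w => e (a w)) (e.symm_apply_apply x)
  rw [h3, hke, hke] at h2
  have h4 : κ ⟨a x, hQ.1 (a x).2⟩ = ⟨t, ht⟩ * κ ⟨x, hQ.1 x.2⟩ * ⟨t, ht⟩⁻¹ := Subtype.ext h2
  have h5 := congrArg (κ⁻¹ : MulAut X) h4
  simp only [map_mul, map_inv, MulAut.inv_apply_self] at h5
  exact congrArg Subtype.val h5

theorem receptive_of_levE {Q U : Subgroup Ω} (hQ : CenX F X Q) (hU : CenX F X U)
    (hUn : F.IsFullyNormalized U) {e : Q ≃* U} (he : H85.IsFIso F e) {κ : MulAut X}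
    (hκ : κ ∈ F.autGroup X) (hl : N.LevE κ e)
    (hke : ∀ x : Q, (e x : Ω) = κ ⟨x, hQ.1 x.2⟩) :
    N.sys.IsReceptive Q := by
  refine ⟨hQ.1, fun P φ hφ hr => ?_⟩
  change N.Gen P φ at hφ
  have hPX : P ≤ X := N.gen_source_le hφ
  have : Finite P := N.finite_of hPX
  set E := extender X P φ with hE
  have hEX : E ≤ X := H85.extender_le P φ
  have hPE : P ≤ E := H85.le_extender hPX fun x => N.gen_map_mem hφ x
  let i : P ≃* Q := H85.isoOf φ (N.gen_mem hφ) hr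
  have hi : H85.IsFIso F i := H85.isFIso_isoOf φ (N.gen_mem hφ) hr
  have hli : N.LevE 1 i := H86.lev_one.2 (H85.hom_congr (F := N.sys) hφ fun _ => rfl)
  have hei : N.LevE κ (i.trans e) := by simpa using hli.trans hl (one_mem _)
  obtain ⟨ψ, hψ, hψe⟩ :=
    H85.receptive_extend (H85.receptive_of_fullyNormalized N.hS N.hF hUn) (hi.trans he)
  have hsub : E ≤ extender S P (U.subtype.comp (i.trans e).toMonoidHom) := by
    intro g hg
    obtain ⟨hgX, hgN, h, hh, hhe⟩ := H85.mem_extender.1 hg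
    refine H85.mem_extender.2 ⟨N.hX.1 hgX, hgN, (κ ⟨h, hh⟩ : X), N.hX.1 (SetLike.coe_mem _),
      fun x hx => ?_⟩
    show (e (i ⟨g * x * g⁻¹, hx⟩) : Ω) = _ * (e (i x) : Ω) * _
    rw [hke, hke]
    have h1 : (⟨(i ⟨g * x * g⁻¹, hx⟩ : Ω), hQ.1 (i _).2⟩ : X) =
        ⟨h, hh⟩ * ⟨(i x : Ω), hQ.1 (i x).2⟩ * ⟨h, hh⟩⁻¹ := Subtype.ext (hhe x hx)
    rw [h1, map_mul, map_mul, map_inv]
    rfl
  set χ := ψ.comp (Subgroup.inclusion hsub) with hχ
  have hχF : χ ∈ F.Hom E := H85.restrict hψ hsub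
  have hχe : ∀ x : P, χ (Subgroup.inclusion hPE x) = (e (i x) : Ω) := fun x => hψe x x.2 _
  obtain ⟨lam, hlam, hlχ⟩ := N.frattini hEX hχF
  have hχV : ∀ x, χ x ∈ normalizerIn X U := fun x => by
    have := map_mem_normalizerX N.hX hχF hEX hPE
      ((H85.extender_le_normalizerIn P φ).trans inf_le_right) x
    rwa [img_eq_of_iso hPE (i.trans e) hχe] at this
  have hlP : N.LevE lam (i.trans e) := levE_res hlχ hPE fun x => (hχe x).symm
  have hid : N.LevE (lam * κ⁻¹) (MulEquiv.refl U) :=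
    ((hei.symm hκ).trans hlP (inv_mem hκ)).congr fun x =>
      congrArg Subtype.val ((i.trans e).apply_symm_apply x)
  obtain ⟨n, hn, hnfix, hln⟩ :=
    N.fixAt hU hUn (lam * κ⁻¹) (mul_mem hlam (inv_mem hκ)) (hid.congr fun _ => rfl)
  have hlc : H86.Lev N.sys ((lam * κ⁻¹)⁻¹ * lam) E
      (((normalizerIn X U).subtype.comp n.symm.toMonoidHom).comp (χ.codRestrict _ hχV)) :=
    H86.Lev.comp hlχ (hln.symm (mul_mem hlam (inv_mem hκ))) (N.normAut (inv_mem hlam)) hχV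
      fun _ => rfl
  rw [show (lam * κ⁻¹)⁻¹ * lam = κ by group] at hlc
  obtain ⟨ψ₁, hψ₁, hψ₁e⟩ := hlc
  refine ⟨ψ₁, hψ₁, fun x hxP hxE => ?_⟩
  have hmem : ψ₁ ⟨x, hxE⟩ ∈ X := N.gen_map_mem hψ₁ _
  have h1 := hψ₁e ⟨x, hxE⟩ hmem
  have h2 : n.symm ⟨χ ⟨x, hxE⟩, hχV _⟩ = ⟨χ ⟨x, hxE⟩, hχV _⟩ := by
    rw [MulEquiv.symm_apply_eq]
    refine Subtype.ext (hnfix _ ?_).symm
    show χ (Subgroup.inclusion hPE ⟨x, hxP⟩) ∈ U
    rw [hχe]
    exact SetLike.coe_mem _
  have h3 : χ ⟨x, hxE⟩ = ((κ ⟨ψ₁ ⟨x, hxE⟩, hmem⟩ : X) : Ω) :=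
    (congrArg Subtype.val h2).symm.trans h1
  have h4 : χ ⟨x, hxE⟩ = ((κ ⟨φ ⟨x, hxP⟩, N.gen_map_mem hφ _⟩ : X) : Ω) :=
    (hχe ⟨x, hxP⟩).trans (hke (i ⟨x, hxP⟩))
  exact congrArg Subtype.val (κ.injective (Subtype.ext (h3.symm.trans h4)))

theorem sys_saturated : N.sys.IsSaturated p := by
  have : Finite X := N.finite
  refine H85.isSaturated_of_generated N.pGroup N.sys {P | CenX F X P} ?_ ?_ ?_ ?_
  · intro P hP R hPR
    obtain ⟨φ, hφ, hr⟩ := hPR
    exact hP.conj N.hX (H85.isFIso_isoOf φ (N.gen_mem hφ) hr)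
  · intro P hP
    obtain ⟨U, hPU, hUn⟩ := H85.exists_fullyNormalized F (hP.1.trans N.hX.1)
    obtain ⟨e, he⟩ := H85.isConj_iff.1 hPU
    have hU : CenX F X U := hP.conj N.hX he
    obtain ⟨κ, hκ, d, hd, hde⟩ := N.frattini_iso hP.1 he
    let i : P ≃* d.range := H85.isoOf d (N.gen_mem hd) rfl
    have hi : H85.IsFIso F i := H85.isFIso_isoOf d (N.gen_mem hd) rfl
    have hQ : CenX F X d.range := hP.conj N.hX hi
    have hke : ∀ x : d.range, ((i.symm.trans e) x : Ω) = κ ⟨x, hQ.1 x.2⟩ := fun y => by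
      obtain ⟨x, rfl⟩ := i.surjective y
      show (e (i.symm (i x)) : Ω) = _
      rw [MulEquiv.symm_apply_apply]
      exact hde x (N.gen_map_mem hd x)
    have hl : N.LevE κ (i.symm.trans e) :=
      ⟨d.range.subtype, H85.id_mem N.sys hQ.1, fun x hx => hke x⟩
    exact ⟨d.range, ⟨d, hd, rfl⟩, N.fullyAutomized_of_levE hQ hU hUn (hi.symm.trans he) hke,
      N.receptive_of_levE hQ hU hUn (hi.symm.trans he) hκ hl hke⟩
  · intro E hE P φ hφ
    change N.Gen P φ at hφ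
    induction hφ with
    | @step P R hR hPR b hb φ he =>
      exact H85.hom_congr (H85.restrict (hE R hR (show _ ∈ N.sys.Hom R from N.gen_of_B hR hb)) hPR)
        fun x => (he x).symm
    | comp _ _ hm he ih1 ih2 => exact H85.hom_congr (E.comp_mem ih1 ih2 hm) fun x => (he x).symm
  · intro P hP hnP
    exact absurd (N.cenX_of_centric hP) hnP

/-- The generated system is weakly normal in a saturated subsystem of `F` containing it in which
`X` is strongly closed and in which subgroups outside `CenX` have bad conjugates. -/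
theorem sys_weaklyNormal_in {T : Subgroup Ω} (G : FusionSystem T) (hTS : T ≤ S)
    (hG : G.IsSaturated p) (hGF : G.IsSubsystemOf F) (hDG : N.sys.IsSubsystemOf G)
    (hXG : G.StronglyClosed X)
    (hbad : ∀ U, U ≤ X → ¬ CenX F X U → ∃ Q, G.IsConj U Q ∧ ¬ centralizerIn X Q ≤ Q) :
    N.sys.IsWeaklyNormalIn G p := by
  have : Finite T := H85.finite_of_le hTS
  refine ⟨N.sys_saturated, hG, hDG, hXG, ?_, ?_⟩
  · intro P hP φ hφ α hα
    obtain ⟨χ, hχ, he⟩ := N.normAut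
      ((H85.mem_autGroup N.hX.1).2 (hGF _ ((H85.mem_autGroup hXG.1).1 hα))) P φ hφ
    exact ⟨χ, hχ, fun x _ hx => he x hx⟩
  · intro P hP φ hφ
    exact N.frattini_in G hG hGF hDG hXG hTS hbad P hP φ hφ

theorem sys_weaklyNormal : N.sys.IsWeaklyNormalIn F p :=
  N.sys_weaklyNormal_in F le_rfl N.hF (fun _ _ h => h) N.sys_sub N.hX fun U hU hnc => by
    by_contra h
    push Not at h
    exact hnc ⟨hU, h⟩

/-- Weak normality in a weakly normal subsystem of `F` over a group containing `X`. -/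
theorem sys_weaklyNormal_sub {T : Subgroup Ω} (G : FusionSystem T) (hG : G.IsWeaklyNormalIn F p)
    (hXT : X ≤ T) (hB : ∀ P, CenX F X P → N.B P ≤ G.autGroup P) :
    N.sys.IsWeaklyNormalIn G p := by
  obtain ⟨hGs, -, hGF, hT, -, -⟩ := hG
  have : Finite T := H85.finite_of_le hT.1
  have hXG : G.StronglyClosed X :=
    ⟨hXT, fun R hR φ hφ x => N.hX.2 R hR φ (hGF R hφ) x⟩
  have hDG : N.sys.IsSubsystemOf G := N.gen_le_system fun P hP b hb =>
    (H85.mem_autGroup (hP.1.trans hXT)).1 (hB P hP hb)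
  refine N.sys_weaklyNormal_in G hT.1 hGs hGF hDG hXG fun U hU hnc => ?_
  have : Finite X := N.finite
  obtain ⟨Q, hQ, hnle⟩ : ∃ Q, F.IsConj U Q ∧ ¬ centralizerIn X Q ≤ Q := by
    by_contra h
    push Not at h
    exact hnc ⟨hU, h⟩
  obtain ⟨φ, hφ, rfl⟩ := hQ
  obtain ⟨κ, hκ, d, hd, hde⟩ := N.frattini hU hφ
  refine ⟨d.range, ⟨d, hDG _ hd, rfl⟩, fun hle => hnle fun y hy => ?_⟩
  have hdX : ∀ x : U, d x ∈ X := fun x => N.gen_map_mem hd x
  have h1 : ((κ⁻¹ ⟨y, hy.1⟩ : X) : Ω) ∈ centralizerIn X d.range := by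
    refine H85.mem_centralizerIn.2 ⟨SetLike.coe_mem _, ?_⟩
    rintro _ ⟨x, rfl⟩
    have h1 := (H85.mem_centralizerIn.1 hy).2 (φ x) ⟨x, rfl⟩
    rw [hde x (hdX x)] at h1
    have h2 : (κ ⟨d x, hdX x⟩) * (⟨y, hy.1⟩ : X) = (⟨y, hy.1⟩ : X) * κ ⟨d x, hdX x⟩ :=
      Subtype.ext h1
    have h3 := congrArg (κ⁻¹ : MulAut X) h2
    simp only [map_mul, MulAut.inv_apply_self] at h3
    exact congrArg Subtype.val h3
  obtain ⟨x, hx⟩ := hle h1
  refine ⟨x, ?_⟩
  rw [hde x (hdX x), show (⟨d x, hdX x⟩ : X) = κ⁻¹ ⟨y, hy.1⟩ from Subtype.ext hx,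
    MulAut.apply_inv_self]

/-- The automorphisms of the generated system on `X`. -/
theorem autGroup_top : N.sys.autGroup X = N.B X := N.autGroup_eq (cenX_self N.hX)

end NMap

end H87
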