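import Cfsg.Agent.H86.Induction
import Cfsg.Agent.H86.Level
import Cfsg.Agent.H85.HSaturated2

/-!
Normal maps (helper87).

Inside a saturated system `F` let `X` be strongly closed, and attach to every subgroup `P` of `X`
whose conjugates contain their centralizer in `X` a group `B P` of automorphisms, compatible with
the maps of `F`. This file builds the system on `X` generated by the groups `B P` and proves the
Frattini property for it.
-/

set_option autoImplicit false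
set_option linter.unusedSectionVars false

open Cfsg Cfsg.FusionSystem

namespace H87

variable {Ω : Type*} [Group Ω] {S : Subgroup Ω}

/-- All conjugates of `P` in `F` contain their centralizer in `X`. -/
def CenX (F : FusionSystem S) (X P : Subgroup Ω) : Prop :=
  P ≤ X ∧ ∀ Q : Subgroup Ω, F.IsConj P Q → centralizerIn X Q ≤ Q

theorem CenX.conj {F : FusionSystem S} {X P Q : Subgroup Ω} (hX : F.StronglyClosed X)
    (hP : CenX F X P) {e : P ≃* Q} (he : H85.IsFIso F e) : CenX F X Q := by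
  refine ⟨fun y hy => ?_, fun R hR => hP.2 R (H85.isConj_trans he.isConj hR)⟩
  have h1 := hX.2 P hP.1 _ he (e.symm ⟨y, hy⟩)
  simpa using h1

theorem CenX.mono {F : FusionSystem S} {X P R : Subgroup Ω}
    (hP : CenX F X P) (hPR : P ≤ R) (hR : R ≤ X) : CenX F X R := by
  refine ⟨hR, fun Q hQ z hz => ?_⟩
  obtain ⟨φ, hφ, rfl⟩ := hQ
  refine H85.img_le_range φ (hP.2 _ (H85.isConj_img hφ hPR) ?_)
  refine H85.mem_centralizerIn.2 ⟨hz.1, fun x hx => ?_⟩
  exact (H85.mem_centralizerIn.1 hz).2 x (H85.img_le_range φ hx)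

theorem cenX_self [Finite S] {F : FusionSystem S} {X : Subgroup Ω} (hX : F.StronglyClosed X) :
    CenX F X X := by
  refine ⟨le_rfl, fun Q hQ z hz => ?_⟩
  obtain ⟨φ, hφ, rfl⟩ := hQ
  have : Finite X := H85.finite_of_le hX.1
  rw [H86.range_eq_self_of_le F hφ (by rintro _ ⟨x, rfl⟩; exact hX.2 X le_rfl φ hφ x)]
  exact hz.1

/-- Maps carry the normalizer in `X` of a subgroup into the normalizer of its image. -/
theorem map_mem_normalizerX [Finite S] {F : FusionSystem S} {X U R : Subgroup Ω}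
    (hX : F.StronglyClosed X) {φ : R →* Ω} (hφ : φ ∈ F.Hom R) (hR : R ≤ X) (hUR : U ≤ R)
    (hRN : R ≤ Subgroup.normalizer (U : Set Ω)) (x : R) :
    φ x ∈ normalizerIn X (H85.img φ U) :=
  ⟨hX.2 R hR φ hφ x,
    (H85.map_normalizing hφ hUR (le_inf (hR.trans hX.1) hRN) x).2⟩

/-- The data of a normal map: groups of automorphisms on the subgroups in `CenX`. -/
structure NMap (p : ℕ) (F : FusionSystem S) (X : Subgroup Ω) where
  /-- The groups of automorphisms. -/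
  B : ∀ P : Subgroup Ω, Subgroup (MulAut P)
  hS : IsPGroup p S
  hF : F.IsSaturated p
  hX : F.StronglyClosed X
  le_aut : ∀ P, CenX F X P → B P ≤ F.autGroup P
  congr : ∀ (P Q : Subgroup Ω) (e : P ≃* Q), CenX F X P → H85.IsFIso F e →
    ∀ b ∈ B P, MulAut.congr e b ∈ B Q
  induced : ∀ P, CenX F X P → autInducedBy X P ≤ B P
  inf_induced : ∀ P, CenX F X P → F.IsFullyNormalized P →
    B P ⊓ autInducedBy S P ≤ autInducedBy X P
  res : ∀ (P R : Subgroup Ω) (hPR : P ≤ R), CenX F X P → CenX F X R → ∀ b ∈ B R,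
    (∀ x : R, (x : Ω) ∈ P → (b x : Ω) ∈ P) →
      ∃ a ∈ B P, ∀ x : P, (a x : Ω) = b (Subgroup.inclusion hPR x)
  ext : ∀ (P : Subgroup Ω) (hP : CenX F X P), F.IsFullyNormalized P → ∀ b ∈ B P,
    (∀ c ∈ autInducedBy X P, b * c * b⁻¹ ∈ autInducedBy X P) →
      ∃ b' ∈ B (normalizerIn X P),
        ∀ x : P, (b' (Subgroup.inclusion (H85.le_normalizerIn hP.1) x) : Ω) = b x

namespace NMap

variable {p : ℕ} {F : FusionSystem S} {X : Subgroup Ω}

/-- The maps generated by the groups of a normal map. -/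
inductive Gen (N : NMap p F X) : ∀ P : Subgroup Ω, (P →* Ω) → Prop
  | step {P R : Subgroup Ω} (hR : CenX F X R) (hPR : P ≤ R) {b : MulAut R} (hb : b ∈ N.B R)
      {φ : P →* Ω} (he : ∀ x : P, φ x = (b (Subgroup.inclusion hPR x) : Ω)) : Gen N P φ
  | comp {P R : Subgroup Ω} {φ χ : P →* Ω} {ψ : R →* Ω} (h1 : Gen N P φ) (h2 : Gen N R ψ)
      (hm : ∀ x : P, φ x ∈ R) (he : ∀ x : P, χ x = ψ ⟨φ x, hm x⟩) : Gen N P χ

variable [Finite S] [Fact p.Prime] (N : NMap p F X)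

theorem le_S (N : NMap p F X) : X ≤ S := N.hX.1

theorem pGroup (N : NMap p F X) : IsPGroup p X := N.hS.to_le N.hX.1

theorem finite (N : NMap p F X) : Finite X := H85.finite_of_le N.hX.1

theorem finite_of (N : NMap p F X) {P : Subgroup Ω} (h : P ≤ X) : Finite P :=
  H85.finite_of_le (h.trans N.hX.1)

theorem isFIso_of_mem {P : Subgroup Ω} (hP : CenX F X P) {b : MulAut P} (hb : b ∈ N.B P) :
    H85.IsFIso F b :=
  (H85.mem_autGroup (hP.1.trans N.hX.1)).1 (N.le_aut P hP hb)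

theorem conj_B {P : Subgroup Ω} (hP : CenX F X P) {a b : MulAut P} (ha : a ∈ F.autGroup P)
    (hb : b ∈ N.B P) : a * b * a⁻¹ ∈ N.B P := by
  have h1 := N.congr P P a hP ((H85.mem_autGroup (hP.1.trans N.hX.1)).1 ha) b hb
  rwa [H85.congr_eq_conj] at h1

theorem gen_mem {P : Subgroup Ω} {φ : P →* Ω} (hφ : N.Gen P φ) : φ ∈ F.Hom P := by
  induction hφ with
  | step hR hPR hb he =>
    exact H85.hom_congr (H85.restrict (N.isFIso_of_mem hR hb) hPR) fun x => (he x).symm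
  | comp h1 h2 hm he ih1 ih2 =>
    exact H85.hom_congr (F.comp_mem ih1 ih2 hm) fun x => (he x).symm

theorem gen_source_le {P : Subgroup Ω} {φ : P →* Ω} (hφ : N.Gen P φ) : P ≤ X := by
  induction hφ with
  | step hR hPR _ _ => exact hPR.trans hR.1
  | comp _ _ _ _ ih1 _ => exact ih1

theorem gen_map_mem {P : Subgroup Ω} {φ : P →* Ω} (hφ : N.Gen P φ) (x : P) : φ x ∈ X :=
  N.hX.2 P (N.gen_source_le hφ) φ (N.gen_mem hφ) x

theorem gen_restrict {P R : Subgroup Ω} {φ : R →* Ω} (hφ : N.Gen R φ) (hPR : P ≤ R) :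
    N.Gen P (φ.comp (Subgroup.inclusion hPR)) := by
  induction hφ generalizing P with
  | step hR hP hb he =>
    exact Gen.step hR (hPR.trans hP) hb fun x => he (Subgroup.inclusion hPR x)
  | comp h1 h2 hm he ih1 ih2 =>
    exact Gen.comp (ih1 hPR) h2 (fun x => hm (Subgroup.inclusion hPR x))
      fun x => he (Subgroup.inclusion hPR x)

theorem gen_congr {P : Subgroup Ω} {φ φ' : P →* Ω} (hφ : N.Gen P φ) (he : ∀ x, φ x = φ' x) :
    N.Gen P φ' := MonoidHom.ext he ▸ hφ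

theorem gen_inv {P : Subgroup Ω} {φ : P →* Ω} (hφ : N.Gen P φ) :
    ∃ ψ : φ.range →* Ω, N.Gen φ.range ψ ∧ ∀ x : P, ψ ⟨φ x, x, rfl⟩ = x := by
  induction hφ with
  | @step P R hR hPR b hb φ he =>
    have hle : φ.range ≤ R := by
      rintro _ ⟨x, rfl⟩
      rw [he]
      exact SetLike.coe_mem _
    refine ⟨(R.subtype.comp (b⁻¹ : MulAut R).toMonoidHom).comp (Subgroup.inclusion hle),
      Gen.step hR hle (inv_mem hb) (fun y => rfl), fun x => ?_⟩
    show ((b⁻¹ : MulAut R) (Subgroup.inclusion hle ⟨φ x, x, rfl⟩) : Ω) = x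
    rw [show Subgroup.inclusion hle ⟨φ x, x, rfl⟩ = b (Subgroup.inclusion hPR x) from
      Subtype.ext (he x), MulAut.inv_apply_self]
    rfl
  | @comp P R φ χ ψ h1 h2 hm he ih1 ih2 =>
    obtain ⟨f1, hf1, hfe1⟩ := ih1
    obtain ⟨f2, hf2, hfe2⟩ := ih2
    have hle : χ.range ≤ ψ.range := by
      rintro _ ⟨x, rfl⟩
      exact ⟨⟨φ x, hm x⟩, (he x).symm⟩
    have hval : ∀ x : P, f2 (Subgroup.inclusion hle ⟨χ x, x, rfl⟩) = φ x := fun x => by
      rw [show Subgroup.inclusion hle ⟨χ x, x, rfl⟩ = ⟨ψ ⟨φ x, hm x⟩, _, rfl⟩ from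
        Subtype.ext (he x), hfe2]
    have hm2 : ∀ y : χ.range, (f2.comp (Subgroup.inclusion hle)) y ∈ φ.range := by
      rintro ⟨_, x, rfl⟩
      exact ⟨x, (hval x).symm⟩
    let f : χ.range →* Ω := f1.comp ((f2.comp (Subgroup.inclusion hle)).codRestrict _ hm2)
    refine ⟨f, Gen.comp (N.gen_restrict hf2 hle) hf1 hm2 (fun y => rfl), fun x => ?_⟩
    show f1 ⟨f2 (Subgroup.inclusion hle ⟨χ x, x, rfl⟩), _⟩ = x
    exact (congrArg f1 (Subtype.ext (hval x))).trans (hfe1 x)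

theorem gen_of_B {P : Subgroup Ω} (hP : CenX F X P) {b : MulAut P} (hb : b ∈ N.B P) :
    N.Gen P (P.subtype.comp b.toMonoidHom) := Gen.step hP le_rfl hb fun _ => rfl

theorem gen_inn {P : Subgroup Ω} (hP : P ≤ X) {t : Ω} (ht : t ∈ X) :
    N.Gen P (Cfsg.conjHom P t) := by
  refine Gen.step (cenX_self N.hX) hP
    (b := H85.conjAut X X ⟨t, ht, Subgroup.le_normalizer ht⟩) ?_ fun x => rfl
  exact N.induced X (cenX_self N.hX) (H85.conjAut_range X X ▸ ⟨_, rfl⟩)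

/-- The system generated by a normal map. -/
noncomputable def sys : FusionSystem X where
  Hom P := {φ | N.Gen P φ}
  le_of_mem hφ := ⟨N.gen_source_le hφ, N.gen_map_mem hφ⟩
  injective_of_mem hφ := F.injective_of_mem (N.gen_mem hφ)
  conj_mem hP hg := N.gen_inn hP hg
  comp_mem hφ hψ hm := Gen.comp hφ hψ hm fun _ => rfl
  inv_mem := by
    intro P φ hφ
    obtain ⟨ψ, hψ, he⟩ := N.gen_inv hφ
    exact ⟨ψ, hψ, he⟩

theorem mem_sys {P : Subgroup Ω} {φ : P →* Ω} : φ ∈ N.sys.Hom P ↔ N.Gen P φ := Iff.rfl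

theorem sys_sub : N.sys.IsSubsystemOf F := fun _ _ hφ => N.gen_mem hφ

theorem gen_le_system {T : Subgroup Ω} {G : FusionSystem T}
    (hB : ∀ P, CenX F X P → ∀ b ∈ N.B P, H85.IsFIso G b) : N.sys.IsSubsystemOf G := by
  intro P φ hφ
  change N.Gen P φ at hφ
  induction hφ with
  | step hR hPR hb he =>
    exact H85.hom_congr (H85.restrict (hB _ hR _ hb) hPR) fun x => (he x).symm
  | comp h1 h2 hm he ih1 ih2 =>
    exact H85.hom_congr (G.comp_mem ih1 ih2 hm) fun x => (he x).symm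

/-- Automorphisms of `X` in `F` carry maps of the generated system to maps of it. -/
theorem normAut {α : MulAut X} (hα : α ∈ F.autGroup X) : H86.NormAut N.sys α := by
  have hd : H86.dmap α ∈ F.Hom X := (H85.mem_autGroup N.hX.1).1 hα
  intro P φ hφ
  change N.Gen P φ at hφ
  induction hφ with
  | @step P R hR hPR b hb φ he =>
    let e := H85.resIso (H86.dmap α) (F.injective_of_mem hd) hR.1
    have heF : H85.IsFIso F e := H85.isFIso_resIso hd hR.1
    have hR' : CenX F X (H85.img (H86.dmap α) R) := hR.conj N.hX heF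
    have hle : H85.img (H86.dmap α) P ≤ H85.img (H86.dmap α) R := H85.img_mono _ hPR
    refine ⟨((H85.img (H86.dmap α) R).subtype.comp (MulAut.congr e b).toMonoidHom).comp
      (Subgroup.inclusion hle), Gen.step hR' hle (N.congr _ _ e hR heF b hb) (fun _ => rfl),
      fun x hx => ?_⟩
    show ((e (b (e.symm (Subgroup.inclusion hle ⟨_, hx⟩)))) : Ω) = _
    rw [show e.symm (Subgroup.inclusion hle ⟨_, hx⟩) = Subgroup.inclusion hPR x from
      (MulEquiv.symm_apply_eq e).2 (Subtype.ext rfl)]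
    show ((α _ : X) : Ω) = _
    exact congrArg (fun w : X => ((α w : X) : Ω)) (Subtype.ext (he x).symm)
  | @comp P R φ χ ψ h1 h2 hm he ih1 ih2 =>
    obtain ⟨χ1, hχ1, he1⟩ := ih1
    obtain ⟨χ2, hχ2, he2⟩ := ih2
    have hPT := N.gen_source_le h1
    have hval : ∀ (y : H85.img (H86.dmap α) P), ∃ (x : P)
        (hx : ((α ⟨x, hPT x.2⟩ : X) : Ω) ∈ H85.img (H86.dmap α) P),
        y = ⟨((α ⟨x, hPT x.2⟩ : X) : Ω), hx⟩ := by
      rintro ⟨y, hy⟩
      obtain ⟨w, hw, rfl⟩ := H85.mem_img.1 hy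
      exact ⟨⟨w, hw⟩, hy, rfl⟩
    have hm' : ∀ y, χ1 y ∈ H85.img (H86.dmap α) R := by
      intro y
      obtain ⟨x, hx, rfl⟩ := hval y
      rw [he1 x hx]
      exact H85.mem_img.2 ⟨_, hm x, rfl⟩
    refine ⟨χ2.comp (χ1.codRestrict _ hm'), Gen.comp hχ1 hχ2 hm' (fun _ => rfl), fun x hx => ?_⟩
    show χ2 ⟨χ1 ⟨_, hx⟩, _⟩ = _
    have hy : ((α ⟨φ x, N.gen_source_le h2 (hm x)⟩ : X) : Ω) ∈ H85.img (H86.dmap α) R :=
      H85.mem_img.2 ⟨_, hm x, rfl⟩
    rw [show (⟨χ1 ⟨_, hx⟩, hm' _⟩ : H85.img (H86.dmap α) R) = ⟨_, hy⟩ from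
      Subtype.ext (he1 x hx), he2 ⟨φ x, hm x⟩ hy]
    exact congrArg (fun w : X => ((α w : X) : Ω)) (Subtype.ext (he x).symm)

/-! ### Levels of isomorphisms -/

/-- The isomorphism `e` is a map of the generated system followed by `κ`. -/
def LevE {P Q : Subgroup Ω} (κ : MulAut X) (e : P ≃* Q) : Prop :=
  H86.Lev N.sys κ P (Q.subtype.comp e.toMonoidHom)

variable {N}

theorem LevE.congr {P Q : Subgroup Ω} {κ : MulAut X} {e e' : P ≃* Q} (h : N.LevE κ e)
    (he : ∀ x, (e x : Ω) = e' x) : N.LevE κ e' :=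
  H86.Lev.congr h he

theorem LevE.trans {P Q R : Subgroup Ω} {κ κ' : MulAut X} {e : P ≃* Q} {e' : Q ≃* R}
    (h : N.LevE κ e) (h' : N.LevE κ' e') (hκ : κ ∈ F.autGroup X) :
    N.LevE (κ' * κ) (e.trans e') :=
  H86.Lev.comp h h' (N.normAut (inv_mem hκ)) (fun x => (e x).2) fun _ => rfl

theorem LevE.symm {P Q : Subgroup Ω} {κ : MulAut X} {e : P ≃* Q} (h : N.LevE κ e)
    (hκ : κ ∈ F.autGroup X) : N.LevE κ⁻¹ e.symm :=
  H86.Lev.inv h (N.normAut hκ) fun y => ⟨e.symm y, by simp, rfl⟩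

/-- An isomorphism that is a restriction of a map with a level. -/
theorem levE_res {P Q R : Subgroup Ω} {κ : MulAut X} {φ : R →* Ω} (h : H86.Lev N.sys κ R φ)
    (hPR : P ≤ R) {e : P ≃* Q} (he : ∀ x : P, (e x : Ω) = φ (Subgroup.inclusion hPR x)) :
    N.LevE κ e :=
  H86.Lev.res h hPR he

theorem LevE.res {P Q R R' : Subgroup Ω} {κ : MulAut X} {f : R ≃* R'} (h : N.LevE κ f)
    (hPR : P ≤ R) {e : P ≃* Q} (he : ∀ x : P, (e x : Ω) = f (Subgroup.inclusion hPR x)) :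
    N.LevE κ e :=
  H86.Lev.res h hPR he

variable (N)

theorem levE_B {P : Subgroup Ω} (hP : CenX F X P) {b : MulAut P} (hb : b ∈ N.B P) :
    N.LevE 1 (b : P ≃* P) :=
  H86.lev_one.2 (N.gen_of_B hP hb)

/-- The Frattini property, in a saturated subsystem `G` of `F` containing the generated system. -/
theorem frattini_in {T : Subgroup Ω} (G : FusionSystem T) (hG : G.IsSaturated p)
    (hGF : G.IsSubsystemOf F) (hDG : N.sys.IsSubsystemOf G) (hXG : G.StronglyClosed X)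
    (hTS : T ≤ S)
    (hbad : ∀ U, U ≤ X → ¬ CenX F X U → ∃ Q, G.IsConj U Q ∧ ¬ centralizerIn X Q ≤ Q) :
    ∀ P : Subgroup Ω, P ≤ X → ∀ φ ∈ G.Hom P, ∃ κ ∈ G.autGroup X, H86.Lev N.sys κ P φ := by
  have hXT : X ≤ T := hXG.1
  have hTp : IsPGroup p T := N.hS.to_le hTS
  have : Finite T := H85.finite_of_le hTS
  have : Finite X := N.finite
  have hGFX : ∀ κ ∈ G.autGroup X, κ ∈ F.autGroup X := fun κ hκ =>
    (H85.mem_autGroup N.hX.1).2 (hGF _ ((H85.mem_autGroup hXT).1 hκ))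
  refine H86.induction_within hTp hG hXG
    (fun P φ => ∃ κ ∈ G.autGroup X, H86.Lev N.sys κ P φ) ?_ ?_ ?_ ?_
  · rintro P R φ hh - - ⟨κ, hκ, hl⟩
    exact ⟨κ, hκ, hl.res hh fun _ => rfl⟩
  · rintro P R U e e' - - - - - ⟨κ, hκ, hl⟩ ⟨κ', hκ', hl'⟩
    exact ⟨κ' * κ, mul_mem hκ' hκ, LevE.trans (N := N) hl hl' (hGFX κ hκ)⟩
  · rintro P R e - - - ⟨κ, hκ, hl⟩
    exact ⟨κ⁻¹, inv_mem hκ, LevE.symm (N := N) hl (hGFX κ hκ)⟩
  intro U hUX hU ih a ha
  rcases eq_or_lt_of_le hUX with hUe | hlt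
  · subst hUe
    exact ⟨a, ha, (H86.lev_aut a le_rfl).congr fun _ => rfl⟩
  have hUT : U ≤ T := hU.1
  have : Finite U := H85.finite_of_le hUT
  have haI : H85.IsFIso G a := (H85.mem_autGroup hUT).1 ha
  have hext : ∀ (W : Subgroup Ω) (hUW : U ≤ W) (ψ : W →* Ω), W ≤ X → U < W → ψ ∈ G.Hom W →
      (∀ x : U, ψ (Subgroup.inclusion hUW x) = (a x : Ω)) →
      ∃ κ ∈ G.autGroup X, H86.Lev N.sys κ U (U.subtype.comp a.toMonoidHom) := by
    intro W hUW ψ hWX hlt' hψ he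
    obtain ⟨κ, hκ, hl⟩ := ih W hWX (H85.card_lt_of_lt (hWX.trans hXT) hlt') ψ hψ
    exact ⟨κ, hκ, hl.res hUW fun x => (he x).symm⟩
  by_cases hc : CenX F X U
  swap
  · obtain ⟨Q, hQ, hnle⟩ := hbad U hUX hc
    obtain ⟨ψ, hψ, hψN, himg⟩ :=
      H85.exists_map_to_fullyNormalized hTp hG hU (H85.isConj_symm hQ)
    obtain ⟨y, hy, hyQ⟩ := SetLike.not_le_iff_exists.1 hnle
    have hQX : Q ≤ X := by
      obtain ⟨φ, hφ, rfl⟩ := hQ
      rintro _ ⟨x, rfl⟩
      exact hXG.2 U hUX φ hφ x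
    have hyT : y ∈ centralizerIn T Q := ⟨hXT hy.1, hy.2⟩
    have hyN : y ∈ normalizerIn T Q := H85.centralizerIn_le_normalizerIn Q hyT
    have hQN : Q ≤ normalizerIn T Q := H85.le_normalizerIn (hQX.trans hXT)
    have hzX : ψ ⟨y, hyN⟩ ∈ X := by
      have hle : normalizerIn X Q ≤ normalizerIn T Q := inf_le_inf_right _ hXT
      exact hXG.2 _ inf_le_left _ (H85.restrict hψ hle) ⟨y, hy.1, hyN.2⟩
    have hzC : ψ ⟨y, hyN⟩ ∈ centralizerIn T U := by
      refine H85.mem_centralizerIn.2 ⟨hXT hzX, fun u hu => ?_⟩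
      rw [← himg] at hu
      obtain ⟨q, hq, rfl⟩ := H85.mem_img.1 hu
      rw [← map_mul, ← map_mul]
      exact congrArg ψ (Subtype.ext ((H85.mem_centralizerIn.1 hyT).2 q hq))
    have hzU : ψ ⟨y, hyN⟩ ∉ U := by
      rw [← himg, H85.mem_img_iff hψ]
      exact hyQ
    obtain ⟨χ, hχ, hχe⟩ :=
      H85.receptive_extend (H85.receptive_of_fullyNormalized hTp hG hU) haI
    have hUE : U ≤ extender T U (U.subtype.comp a.toMonoidHom) :=
      H85.le_extender hUT fun x => H85.map_mem haI x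
    have hle : U ⊔ Subgroup.zpowers (ψ ⟨y, hyN⟩) ≤ extender T U (U.subtype.comp a.toMonoidHom) :=
      sup_le hUE (Subgroup.zpowers_le.2 (H85.centralizerIn_le_extender U _ hzC))
    exact hext _ le_sup_left (χ.comp (Subgroup.inclusion hle))
      (sup_le hUX (Subgroup.zpowers_le.2 hzX))
      (left_lt_sup.2 fun h => hzU (h (Subgroup.mem_zpowers _)))
      (H85.restrict hχ hle) (fun x => hχe x x.2 _)
  have hN : normalizerIn X U ≤ normalizerIn T U := inf_le_inf_right _ hXT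
  obtain ⟨k, hk, β, hβ, hkβ, ψ, hψ, hψe⟩ := H86.frattini_step hTp hG hU (K := N.B U)
    (fun b hb => (H85.mem_autGroup hUT).2 (hDG U (N.gen_of_B hc hb)))
    (fun c hcG k hk => N.conj_B hc ((H85.mem_autGroup (hUX.trans N.hX.1)).2
      (hGF _ ((H85.mem_autGroup hUT).1 hcG))) hk) ha (normalizerIn X U) hN
    fun g hg => N.induced U hc (H85.mem_autInducedBy.2 ⟨g, hg.1, fun _ => rfl⟩)
  have hle : U ⊔ normalizerIn X U ≤ X := sup_le hUX inf_le_left
  have hbig : Nat.card U < Nat.card ↥(U ⊔ normalizerIn X U) :=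
    (H86.card_lt_card_normalizerIn hTp hXT hlt).trans_le (by
      have : Finite ↥(U ⊔ normalizerIn X U) := H85.finite_of_le (hle.trans hXT)
      exact Subgroup.card_le_of_le le_sup_right)
  obtain ⟨κ, hκ, hl⟩ := ih _ hle hbig ψ hψ
  have hlβ : N.LevE κ (β : U ≃* U) := levE_res hl le_sup_left fun x => (hψe x).symm
  refine ⟨1 * κ, by rwa [one_mul], ?_⟩
  exact (hlβ.trans (N.levE_B hc hk) (hGFX κ hκ)).congr fun x => by rw [hkβ]; rfl

/-- The Frattini property in `F`. -/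
theorem frattini {P : Subgroup Ω} (hP : P ≤ X) {φ : P →* Ω} (hφ : φ ∈ F.Hom P) :
    ∃ κ ∈ F.autGroup X, H86.Lev N.sys κ P φ :=
  N.frattini_in F N.hF (fun _ _ h => h) N.sys_sub N.hX le_rfl
    (fun U hU hnc => by
      by_contra h
      push Not at h
      exact hnc ⟨hU, h⟩) P hP φ hφ

theorem frattini_iso {P Q : Subgroup Ω} (hP : P ≤ X) {e : P ≃* Q} (he : H85.IsFIso F e) :
    ∃ κ ∈ F.autGroup X, N.LevE κ e :=
  N.frattini hP he

/-- Centricity in the generated system is centricity relative to `X` in `F`. -/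
theorem cenX_of_centric {P : Subgroup Ω} (hP : N.sys.IsCentric P) : CenX F X P := by
  refine ⟨hP.1, fun Q hQ y hy => ?_⟩
  have : Finite X := N.finite
  obtain ⟨φ, hφ, rfl⟩ := hQ
  obtain ⟨κ, hκ, φ₀, hφ₀, he⟩ := N.frattini hP.1 hφ
  have hm : ∀ x : P, φ₀ x ∈ X := fun x => N.gen_map_mem hφ₀ x
  have h0 := hP.2 φ₀.range ⟨φ₀, hφ₀, rfl⟩
  have hy' : ((κ⁻¹ ⟨y, hy.1⟩ : X) : Ω) ∈ centralizerIn X φ₀.range := by
    refine H85.mem_centralizerIn.2 ⟨SetLike.coe_mem _, ?_⟩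
    rintro _ ⟨x, rfl⟩
    have h1 := (H85.mem_centralizerIn.1 hy).2 (φ x) ⟨x, rfl⟩
    rw [he x (hm x)] at h1
    have h2 : (κ ⟨φ₀ x, hm x⟩) * (⟨y, hy.1⟩ : X) = (⟨y, hy.1⟩ : X) * κ ⟨φ₀ x, hm x⟩ :=
      Subtype.ext h1
    have h3 := congrArg (κ⁻¹ : MulAut X) h2
    simp only [map_mul, MulAut.inv_apply_self] at h3
    exact congrArg Subtype.val h3
  obtain ⟨x, hx⟩ := h0 hy'
  refine ⟨x, ?_⟩
  rw [he x (hm x), show (⟨φ₀ x, hm x⟩ : X) = κ⁻¹ ⟨y, hy.1⟩ from Subtype.ext hx,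
    MulAut.apply_inv_self]

end NMap

end H87
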