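import Cfsg.Agent.H87.NormalMapPair

/-!
Normal maps (helper87): the main induction. The automorphism groups of the generated system on the
subgroups in `CenX` are the given groups, and every level of the identity of a fully normalized
subgroup is a level of an automorphism of its normalizer fixing it.
-/

set_option autoImplicit false
set_option linter.unusedSectionVars false

open Cfsg Cfsg.FusionSystem

namespace H87

variable {Ω : Type*} [Group Ω] {S : Subgroup Ω}

namespace NMap

variable {p : ℕ} {F : FusionSystem S} {X : Subgroup Ω}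
variable [Finite S] [Fact p.Prime] (N : NMap p F X)

/-- An isomorphism onto `M` extending to the normalizer in `X` with level `η`. -/
def Mov {P M : Subgroup Ω} (u : P ≃* M) (η : MulAut X) : Prop :=
  P ≤ X ∧ η ∈ F.autGroup X ∧ ∃ g : normalizerIn X P →* Ω, g ∈ F.Hom (normalizerIn X P) ∧
    H86.Lev N.sys η (normalizerIn X P) g ∧
    ∀ (x : P) (hx : (x : Ω) ∈ normalizerIn X P), g ⟨x, hx⟩ = (u x : Ω)

variable {N}

theorem exists_mov {P M : Subgroup Ω} (hMn : F.IsFullyNormalized M) (hP : P ≤ X)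
    (hc : F.IsConj P M) : ∃ (u : P ≃* M) (η : MulAut X), N.Mov u η := by
  obtain ⟨g, hg, -, himg⟩ := H85.exists_map_to_fullyNormalized N.hS N.hF hMn hc
  have hle : normalizerIn X P ≤ normalizerIn S P := inf_le_inf_right _ N.hX.1
  obtain ⟨η, hη, hl⟩ := N.frattini inf_le_left (H85.restrict hg hle)
  refine ⟨(H85.resIso g (F.injective_of_mem hg) (H85.le_normalizerIn (hP.trans N.hX.1))).trans
    (MulEquiv.subgroupCongr himg), η, hP, hη, _, H85.restrict hg hle, hl, fun x hx => rfl⟩

variable (N)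

/-- An isomorphism of the class of `M` is good when, read through any two moves to `M`, it is a
pair at the quotient of their levels. -/
def Good (M : Subgroup Ω) {P₀ P₁ : Subgroup Ω} (i : P₀ ≃* P₁) : Prop :=
  ∀ (u : P₀ ≃* M) (u' : P₁ ≃* M) (η η' : MulAut X), N.Mov u η → N.Mov u' η' →
    N.Pair M (u.symm.trans (i.trans u')) (η' * η⁻¹)

variable {N}

/-- A map of the system on a larger subgroup of the normalizer gives a good isomorphism. -/
theorem pair_of_gen {M P₀ P₁ R : Subgroup Ω} (hM : CenX F X M) (hMn : F.IsFullyNormalized M)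
    (IH : N.Above (Nat.card M)) (hPR : P₀ ≤ R) (hlt : P₀ < R) (hRN : R ≤ normalizerIn X P₀)
    {f : R →* Ω} (hf : N.Gen R f) (i : P₀ ≃* P₁)
    (hi : ∀ x : P₀, f (Subgroup.inclusion hPR x) = (i x : Ω))
    {u : P₀ ≃* M} {u' : P₁ ≃* M} {η η' : MulAut X} (hu : N.Mov u η) (hu' : N.Mov u' η') :
    N.Pair M (u.symm.trans (i.trans u')) (η' * η⁻¹) := by
  obtain ⟨hP₀X, hη, g, hg, hlg, hgu⟩ := hu
  obtain ⟨hP₁X, hη', g', hg', hlg', hgu'⟩ := hu'
  have hRX : R ≤ X := hRN.trans inf_le_left
  have hP₀N : P₀ ≤ normalizerIn X P₀ := H85.le_normalizerIn hP₀X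
  let eZ : R ≃* H85.img g R := H85.resIso g (F.injective_of_mem hg) hRN
  have heZ : H85.IsFIso F eZ := H85.isFIso_resIso hg hRN
  have hlZ : N.LevE η eZ := levE_res hlg hRN fun _ => rfl
  have hgV : ∀ x, g x ∈ normalizerIn X M := fun x => by
    have := map_mem_normalizerX N.hX hg inf_le_left hP₀N inf_le_right x
    rwa [img_eq_of_iso hP₀N u fun y => hgu y (hP₀N y.2)] at this
  have hZV : H85.img g R ≤ normalizerIn X M := by
    intro y hy
    obtain ⟨x, -, rfl⟩ := H85.mem_img.1 hy
    exact hgV x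
  have hMZ : M ≤ H85.img g R :=
    (img_eq_of_iso hP₀N u fun y => hgu y (hP₀N y.2)).ge.trans (H85.img_mono g hPR)
  have hMlt : M < H85.img g R := by
    refine lt_of_le_of_ne hMZ fun e => ?_
    have h1 := H85.card_lt_of_lt (hRX.trans N.hX.1) hlt
    rw [Nat.card_congr u.toEquiv, Nat.card_congr eZ.toEquiv, ← e] at h1
    exact lt_irrefl _ h1
  have hfN : ∀ x, f x ∈ normalizerIn X P₁ := fun x => by
    have := map_mem_normalizerX N.hX (N.gen_mem hf) hRX hPR (hRN.trans inf_le_right) x
    rwa [img_eq_of_iso hPR i hi] at this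
  let h1 : H85.img g R →* Ω := f.comp eZ.symm.toMonoidHom
  have hh1 : h1 ∈ F.Hom (H85.img g R) :=
    H85.hom_congr (F.comp_mem heZ.symm (N.gen_mem hf) fun y => (eZ.symm y).2) fun _ => rfl
  have hl1 : H86.Lev N.sys (1 * η⁻¹) (H85.img g R) h1 :=
    H86.Lev.comp (hlZ.symm hη) (H86.lev_one.2 hf) (N.normAut (inv_mem (inv_mem hη)))
      (fun y => (eZ.symm y).2) fun _ => rfl
  have hm : ∀ y, h1 y ∈ normalizerIn X P₁ := fun y => hfN _
  refine (N.pair_of_map hM hMn IH (H85.img g R) hMZ hZV hMlt (g'.comp (h1.codRestrict _ hm))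
    (F.comp_mem hh1 hg' hm) (η' * (1 * η⁻¹))
    (mul_mem hη' (mul_mem (one_mem _) (inv_mem hη)))
    (H86.Lev.comp hl1 hlg' (N.normAut (inv_mem (mul_mem (one_mem _) (inv_mem hη)))) hm
      fun _ => rfl) _ fun x => ?_).eq rfl (by rw [one_mul])
  have h2 : eZ.symm (Subgroup.inclusion hMZ x) = Subgroup.inclusion hPR (u.symm x) := by
    rw [MulEquiv.symm_apply_eq]
    refine Subtype.ext ?_
    show (x : Ω) = g _
    conv_lhs => rw [← u.apply_symm_apply x]
    exact (hgu (u.symm x) (hP₀N (u.symm x).2)).symm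
  show (u' (i (u.symm x)) : Ω) = g' ⟨f (eZ.symm (Subgroup.inclusion hMZ x)), _⟩
  rw [← hgu' _ (H85.le_normalizerIn hP₁X (i (u.symm x)).2)]
  refine congrArg g' (Subtype.ext ?_)
  show (i (u.symm x) : Ω) = f (eZ.symm (Subgroup.inclusion hMZ x))
  rw [h2, hi]

/-- All maps of the generated system between conjugates of `M` are good. -/
theorem good_of_gen {M : Subgroup Ω} (hM : CenX F X M) (hMn : F.IsFullyNormalized M)
    (hMX : M < X) (IH : N.Above (Nat.card M)) {R : Subgroup Ω} {φ : R →* Ω} (hφ : N.Gen R φ) :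
    ∀ (P₀ : Subgroup Ω) (hPR : P₀ ≤ R), F.IsConj P₀ M → ∀ (P₁ : Subgroup Ω) (i : P₀ ≃* P₁),
      (∀ x : P₀, φ (Subgroup.inclusion hPR x) = (i x : Ω)) → N.Good M i := by
  have hcard : ∀ P, F.IsConj P M → P ≤ X → P < X := fun P hP hPX => lt_of_le_of_ne hPX fun e => by
    have h1 := H85.card_lt_of_lt N.hX.1 hMX
    rw [← H85.isConj_card hP, e] at h1
    exact lt_irrefl _ h1
  induction hφ with
  | @step P R hR hPR b hb φ he =>
    intro P₀ hP₀P hc P₁ i hi u u' η η' hu hu'
    have hP₀R : P₀ ≤ R := hP₀P.trans hPR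
    have hib : ∀ x : P₀, (b (Subgroup.inclusion hP₀R x) : Ω) = i x := fun x =>
      (he (Subgroup.inclusion hP₀P x)).symm.trans (hi x)
    rcases eq_or_lt_of_le hP₀R with hEq | hLt
    · subst hEq
      have hP₁ : P₁ = P₀ := by
        refine le_antisymm (fun y hy => ?_) fun y hy => ?_
        · have h1 := hib (i.symm ⟨y, hy⟩)
          rw [MulEquiv.apply_symm_apply] at h1
          rw [show y = _ from h1.symm]
          exact SetLike.coe_mem _
        · obtain ⟨x, hx⟩ := b.surjective ⟨y, hy⟩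
          have h1 := hib x
          rw [show Subgroup.inclusion hP₀R x = x from rfl, hx] at h1
          rw [show y = _ from h1]
          exact SetLike.coe_mem _
      subst hP₁
      have hP₀X := hR.1
      have hN : P₁ < normalizerIn X P₁ :=
        lt_of_le_of_ne (H85.le_normalizerIn hP₀X) fun e => by
          have h1 := H86.card_lt_card_normalizerIn N.hS N.hX.1 (hcard P₁ hc hP₀X)
          rw [← e] at h1
          exact lt_irrefl _ h1
      have h1 := pair_of_gen hM hMn IH hN.le hN le_rfl (f := (normalizerIn X P₁).subtype)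
        (Gen.step (cenX_self N.hX) (H85.normalizerIn_le P₁) (one_mem _) fun _ => rfl)
        (MulEquiv.refl P₁) (fun _ => rfl) hu hu'
      have huF : H85.IsFIso F u := by
        obtain ⟨-, -, g, hg, -, hgu⟩ := hu
        exact H85.of_extend hg (H85.le_normalizerIn hP₀X) fun x => hgu x _
      refine ((h1.mul hM (pair_of_B hM (N.congr P₁ M u hR huF b hb))).eq ?_ (mul_one _))
      refine MulEquiv.ext fun x => ?_
      show u' (u.symm (u (b (u.symm x)))) = u' (i (u.symm x))
      rw [MulEquiv.symm_apply_apply]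
      exact congrArg u' (Subtype.ext (hib (u.symm x)))
    · set R₁ := normalizerIn R P₀ with hR₁
      have hR₁R : R₁ ≤ R := H85.normalizerIn_le P₀
      have hR₁lt : P₀ < R₁ := lt_of_le_of_ne (H85.le_normalizerIn hP₀R) fun e => by
        have h1 := H86.card_lt_card_normalizerIn N.hS (hR.1.trans N.hX.1) hLt
        rw [← hR₁, ← e] at h1
        exact lt_irrefl _ h1
      exact pair_of_gen hM hMn IH hR₁lt.le hR₁lt (inf_le_inf_right _ hR.1)
        (f := (R.subtype.comp b.toMonoidHom).comp (Subgroup.inclusion hR₁R))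
        (Gen.step hR hR₁R hb fun _ => rfl) i (fun x => hib x) hu hu'
  | @comp P R φ χ ψ h1 h2 hm he ih1 ih2 =>
    intro P₀ hP₀P hc P₁ i hi u u' η η' hu hu'
    have hg1 := N.gen_restrict h1 hP₀P
    set φ₀ := φ.comp (Subgroup.inclusion hP₀P) with hφ₀
    let i₁ : P₀ ≃* φ₀.range := H85.isoOf φ₀ (N.gen_mem hg1) rfl
    have hi₁ : H85.IsFIso F i₁ := H85.isFIso_isoOf φ₀ (N.gen_mem hg1) rfl
    have hle : φ₀.range ≤ R := by
      rintro _ ⟨x, rfl⟩
      exact hm _
    have hX' : φ₀.range ≤ X := hle.trans (N.gen_source_le h2)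
    have hc' : F.IsConj φ₀.range M := H85.isConj_trans (H85.isConj_symm hi₁.isConj) hc
    obtain ⟨v, ζ, hv⟩ := exists_mov (N := N) hMn hX' hc'
    have hP1 := ih1 P₀ hP₀P hc φ₀.range i₁ (fun x => rfl) u v η ζ hu hv
    have hP2 := ih2 φ₀.range hle hc' P₁ (i₁.symm.trans i) (fun y => by
      obtain ⟨x, rfl⟩ := i₁.surjective y
      show _ = (i (i₁.symm (i₁ x)) : Ω)
      rw [MulEquiv.symm_apply_apply, ← hi, he]
      exact congrArg ψ (Subtype.ext rfl)) v u' ζ η' hv hu'
    refine (hP2.mul hM hP1).eq ?_ (by group)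
    refine MulEquiv.ext fun x => ?_
    show u' (i (i₁.symm (v.symm (v (i₁ (u.symm x)))))) = u' (i (u.symm x))
    rw [MulEquiv.symm_apply_apply, MulEquiv.symm_apply_apply]

theorem mov_refl {M : Subgroup Ω} (hM : M ≤ X) : N.Mov (MulEquiv.refl M) 1 :=
  ⟨hM, one_mem _, (normalizerIn X M).subtype,
    H85.id_mem F ((H85.normalizerIn_le M).trans N.hX.1),
    H86.lev_one.2 (H85.id_mem N.sys (H85.normalizerIn_le M)), fun _ _ => rfl⟩

/-- The two statements at a fully normalized proper subgroup of `X`. -/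
theorem step_main {M : Subgroup Ω} (hM : CenX F X M) (hMn : F.IsFullyNormalized M)
    (hMX : M < X) (IH : N.Above (Nat.card M)) : N.AutAt M ∧ N.FixAt M := by
  have hMS : M ≤ S := hM.1.trans N.hX.1
  set V := normalizerIn X M with hV
  have hMV : M ≤ V := H85.le_normalizerIn hM.1
  have hVC : CenX F X V := hM.mono hMV inf_le_left
  have hVcard : Nat.card M < Nat.card V := H86.card_lt_card_normalizerIn N.hS N.hX.1 hMX
  have hself : F.IsConj M M := H85.isConj_refl F hMS
  constructor
  · intro a ha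
    obtain ⟨-, b, hb, n, hn, hl, c, hc, he⟩ :=
      (good_of_gen hM hMn hMX IH ha M le_rfl hself M a (fun _ => rfl) (MulEquiv.refl M)
        (MulEquiv.refl M) 1 1 (mov_refl hM.1) (mov_refl hM.1)).eq
        (show _ = a from MulEquiv.ext fun _ => rfl) (show (1 : MulAut X) * 1⁻¹ = 1 by simp)
    have hnB : n ∈ N.B V := IH.aut V hVC hVcard n (H86.lev_one.1 hl)
    obtain ⟨c', hc', hce⟩ := N.res M V hMV hM hVC n hnB fun x hx => by
      rw [← hc ⟨x, hx⟩ x.2]
      exact SetLike.coe_mem _
    rw [he, show c = c' from MulEquiv.ext fun x => Subtype.ext ((hc x (hMV x.2)).trans (hce x).symm)]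
    exact mul_mem hb hc'
  · intro κ hκ hl
    obtain ⟨d, hd, hde⟩ := hl
    have hdX : ∀ x : M, d x ∈ X := fun x => N.gen_map_mem hd x
    have hval : ∀ x : M, ((κ ⟨d x, hdX x⟩ : X) : Ω) = x := fun x => (hde x (hdX x)).symm
    let i : M ≃* d.range := H85.isoOf d (N.gen_mem hd) rfl
    have hP₁X : d.range ≤ X := by
      rintro _ ⟨x, rfl⟩
      exact hdX x
    have hu' : N.Mov i.symm κ := by
      refine ⟨hP₁X, hκ, (H86.dmap κ).comp (Subgroup.inclusion (H85.normalizerIn_le d.range)),
        H85.restrict ((H85.mem_autGroup N.hX.1).1 hκ) _, H86.lev_aut κ _, fun x hx => ?_⟩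
      obtain ⟨z, rfl⟩ := i.surjective x
      rw [MulEquiv.symm_apply_apply]
      exact (congrArg (fun w => ((κ w : X) : Ω)) (Subtype.ext rfl)).trans (hval z)
    obtain ⟨-, b, hb, n, hn, hln, c, hc, he⟩ :=
      (good_of_gen hM hMn hMX IH hd M le_rfl hself d.range i (fun _ => rfl) (MulEquiv.refl M)
        i.symm 1 κ (mov_refl hM.1) hu').eq
        (show _ = (1 : MulAut M) from MulEquiv.ext fun x => i.symm_apply_apply x)
        (show κ * 1⁻¹ = κ by simp)
    have hcb : c = b⁻¹ := eq_inv_of_mul_eq_one_right he.symm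
    obtain ⟨b', hb', hbe⟩ := N.ext M hM hMn b⁻¹ (inv_mem hb) (by
      intro k hk
      obtain ⟨t, ht, hte⟩ := H85.mem_autInducedBy.1 hk
      have htV : t ∈ V := ⟨ht, H85.mem_normalizer_of_induced hte⟩
      refine H85.mem_autInducedBy.2 ⟨n ⟨t, htV⟩, (n ⟨t, htV⟩).2.1, fun x => ?_⟩
      rw [← hcb, MulAut.mul_apply, MulAut.mul_apply]
      set y := (c⁻¹ : MulAut M) x with hy
      have hx : c y = x := MulAut.apply_inv_self _ _ _
      rw [hc (k y) (hMV (k y).2), ← hx, hc y (hMV y.2)]
      rw [← Subgroup.coe_inv, ← map_inv, ← Subgroup.coe_mul, ← map_mul, ← Subgroup.coe_mul,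
        ← map_mul]
      exact congrArg (fun w : V => (n w : Ω)) (Subtype.ext (hte y)))
    have hb'F : H85.IsFIso F b' := N.isFIso_of_mem hVC hb'
    refine ⟨n.trans b'.symm, hn.trans hb'F.symm, fun x hx => ?_,
      ((hln.trans ((N.levE_B hVC hb').symm (one_mem _)) hκ).congr fun _ => rfl : N.LevE (1⁻¹ * κ) _)
        |> fun h => by simpa using h⟩
    show (b'.symm (n x) : Ω) = x
    have h1 : n x = b' x := by
      refine Subtype.ext ?_
      rw [← hc ⟨x, hx⟩ x.2, hcb]
      exact (hbe ⟨x, hx⟩).symm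
    rw [h1, MulEquiv.symm_apply_apply]

/-- The two statements at `X`. -/
theorem step_top : N.AutAt X ∧ N.FixAt X := by
  have : Finite X := N.finite
  constructor
  · have key : ∀ (R : Subgroup Ω) (φ : R →* Ω), N.Gen R φ → ∀ (hXR : X ≤ R),
        ∃ b ∈ N.B X, ∀ x : X, φ (Subgroup.inclusion hXR x) = b x := by
      intro R φ hφ
      induction hφ with
      | @step P R hR hPR b hb φ he =>
        intro hXR
        obtain rfl : R = X := le_antisymm hR.1 (hXR.trans hPR)
        exact ⟨b, hb, fun x => he _⟩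
      | @comp P R φ χ ψ h1 h2 hm he ih1 ih2 =>
        intro hXR
        obtain ⟨b, hb, hbe⟩ := ih1 hXR
        have hXR' : X ≤ R := fun y hy => by
          obtain ⟨x, hx⟩ := b.surjective ⟨y, hy⟩
          have h3 := hm (Subgroup.inclusion hXR x)
          rw [hbe, hx] at h3
          exact h3
        obtain ⟨c, hc, hce⟩ := ih2 hXR'
        refine ⟨c * b, mul_mem hc hb, fun x => ?_⟩
        rw [he, MulAut.mul_apply, ← hce]
        exact congrArg ψ (Subtype.ext (hbe x))
    intro a ha
    obtain ⟨b, hb, hbe⟩ := key X _ ha le_rfl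
    rwa [show a = b from MulEquiv.ext fun x => Subtype.ext (hbe x)]
  · intro κ _ hl
    exact ⟨1, H85.IsFIso.refl F ((H85.normalizerIn_le X).trans N.hX.1), fun _ _ => rfl,
      hl.res (H85.normalizerIn_le X) fun _ => rfl⟩

theorem step_class {M : Subgroup Ω} (hM : CenX F X M) (hMn : F.IsFullyNormalized M)
    (IH : N.Above (Nat.card M)) : N.AutAt M ∧ N.FixAt M := by
  rcases eq_or_lt_of_le hM.1 with hMe | hMlt
  · subst hMe
    exact step_top
  · exact step_main hM hMn hMlt IH

theorem above_all : ∀ n, N.Above n := by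
  have : Finite X := N.finite
  suffices H : ∀ k n, Nat.card X ≤ n + k → N.Above n from
    fun n => H (Nat.card X) n (Nat.le_add_left _ _)
  intro k
  induction k with
  | zero =>
    intro n hn
    exact ⟨fun P hP h => absurd (Subgroup.card_le_of_le hP.1) (by omega),
      fun P hP _ h => absurd (Subgroup.card_le_of_le hP.1) (by omega)⟩
  | succ k ih =>
    intro n hn
    have hup : N.Above (n + 1) := ih (n + 1) (by omega)
    refine ⟨fun P hP hc => ?_, fun P hP hPn hc => ?_⟩
    · rcases Nat.lt_or_ge (n + 1) (Nat.card P) with h | h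
      · exact hup.aut P hP h
      obtain ⟨M, hPM, hMn⟩ := H85.exists_fullyNormalized F (hP.1.trans N.hX.1)
      obtain ⟨e, he⟩ := H85.isConj_iff.1 hPM
      have hM : CenX F X M := hP.conj N.hX he
      have hcard : Nat.card M = n + 1 := by
        rw [← Nat.card_congr e.toEquiv]
        omega
      have hA := (step_class hM hMn (hcard ▸ hup)).1
      obtain ⟨κ, hκ, hl⟩ := N.frattini_iso hP.1 he
      intro a ha
      have hla : N.LevE 1 (a : P ≃* P) := H86.lev_one.2 ha
      have h1 : N.LevE (κ * (1 * κ⁻¹)) (MulAut.congr e a) :=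
        (((hl.symm hκ).trans hla (inv_mem hκ)).trans hl
          (mul_mem (one_mem _) (inv_mem hκ))).congr fun _ => rfl
      rw [one_mul, mul_inv_cancel] at h1
      have h2 := hA _ (H86.lev_one.1 h1)
      have h3 := N.congr M P e.symm hM he.symm _ h2
      rwa [show MulAut.congr e.symm (MulAut.congr e a) = a from MulEquiv.ext fun x => by
        show e.symm (e (a (e.symm (e x)))) = a x
        rw [MulEquiv.symm_apply_apply, MulEquiv.symm_apply_apply]] at h3
    · rcases Nat.lt_or_ge (n + 1) (Nat.card P) with h | h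
      · exact hup.fix P hP hPn h
      exact (step_class hP hPn ((show Nat.card P = n + 1 by omega) ▸ hup)).2

variable (N)

/-- The automorphism groups of the generated system on `CenX` are the given groups. -/
theorem autGroup_eq {P : Subgroup Ω} (hP : CenX F X P) : N.sys.autGroup P = N.B P := by
  have : Finite P := N.finite_of hP.1
  ext a
  rw [H85.mem_autGroup hP.1]
  exact ⟨fun ha => (above_all 0).aut P hP Nat.card_pos a ha, fun ha => N.gen_of_B hP ha⟩

theorem fixAt {P : Subgroup Ω} (hP : CenX F X P) (hPn : F.IsFullyNormalized P) : N.FixAt P := by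
  have : Finite P := N.finite_of hP.1
  exact (above_all 0).fix P hP hPn Nat.card_pos

end NMap

end H87
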