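import Cfsg.Agent.H87.NormalMapBasic
import Cfsg.Agent.H85.Saturation

/-!
Normal maps (helper87): the group of automorphisms of a fully normalized `M` with their levels,
and the proof that every map of `F` between subgroups of `N_X(M)` above `M` restricts into it with
each of its levels.
-/

set_option autoImplicit false
set_option linter.unusedSectionVars false

open Cfsg Cfsg.FusionSystem

namespace H87

variable {Ω : Type*} [Group Ω] {S : Subgroup Ω}

theorem img_eq_of_iso {P Q R : Subgroup Ω} {φ : R →* Ω} (hPR : P ≤ R) (i : P ≃* Q)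
    (h : ∀ x : P, φ (Subgroup.inclusion hPR x) = (i x : Ω)) : H85.img φ P = Q := by
  ext y
  constructor
  · intro hy
    obtain ⟨x, hx, rfl⟩ := H85.mem_img.1 hy
    have h1 := h ⟨x, hx⟩
    rw [show Subgroup.inclusion hPR ⟨(x : Ω), hx⟩ = x from Subtype.ext rfl] at h1
    rw [h1]
    exact SetLike.coe_mem _
  · intro hy
    refine H85.mem_img.2 ⟨Subgroup.inclusion hPR (i.symm ⟨y, hy⟩), (i.symm ⟨y, hy⟩).2, ?_⟩
    rw [h, i.apply_symm_apply]

/-- The elements of `X` normalizing both `R` and `M`. -/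
abbrev biNormalizer (X R M : Subgroup Ω) : Subgroup Ω := normalizerIn (normalizerIn X R) M

theorem map_mem_biNormalizer [Finite S] {F : FusionSystem S} {X Z R M R' M' : Subgroup Ω}
    (hX : F.StronglyClosed X) {φ : Z →* Ω} (hφ : φ ∈ F.Hom Z) (hZ : Z ≤ X) (hRZ : R ≤ Z)
    (hMZ : M ≤ Z) (hZR : Z ≤ Subgroup.normalizer (R : Set Ω))
    (hZM : Z ≤ Subgroup.normalizer (M : Set Ω)) (i : R ≃* R')
    (hi : ∀ x : R, φ (Subgroup.inclusion hRZ x) = (i x : Ω)) (j : M ≃* M')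
    (hj : ∀ x : M, φ (Subgroup.inclusion hMZ x) = (j x : Ω)) (x : Z) :
    φ x ∈ biNormalizer X R' M' := by
  have h1 := map_mem_normalizerX hX hφ hZ hRZ hZR x
  rw [img_eq_of_iso hRZ i hi] at h1
  have h2 := map_mem_normalizerX hX hφ hZ hMZ hZM x
  rw [img_eq_of_iso hMZ j hj] at h2
  exact ⟨h1, h2.2⟩

/-- A map on `biNormalizer X R M` stabilizing `R` and `M` is an automorphism of it. -/
theorem exists_aut_biNormalizer [Finite S] {F : FusionSystem S} {X R M : Subgroup Ω}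
    (hX : F.StronglyClosed X) {φ : biNormalizer X R M →* Ω}
    (hφ : φ ∈ F.Hom (biNormalizer X R M)) (hRW : R ≤ biNormalizer X R M)
    (hMW : M ≤ biNormalizer X R M) (i : R ≃* R)
    (hi : ∀ x : R, φ (Subgroup.inclusion hRW x) = (i x : Ω)) (j : M ≃* M)
    (hj : ∀ x : M, φ (Subgroup.inclusion hMW x) = (j x : Ω)) :
    ∃ n : MulAut (biNormalizer X R M), H85.IsFIso F n ∧ ∀ x, (n x : Ω) = φ x := by
  have hWX : biNormalizer X R M ≤ X := inf_le_left.trans inf_le_left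
  have : Finite (biNormalizer X R M) := H85.finite_of_le (hWX.trans hX.1)
  have hr : φ.range = biNormalizer X R M := H86.range_eq_self_of_le F hφ (by
    rintro _ ⟨x, rfl⟩
    exact map_mem_biNormalizer hX hφ hWX hRW hMW (inf_le_left.trans inf_le_right) inf_le_right
      i hi j hj x)
  exact ⟨H85.isoOf φ hφ hr, H85.isFIso_isoOf φ hφ hr, fun x => rfl⟩

namespace NMap

variable {p : ℕ} {F : FusionSystem S} {X : Subgroup Ω}
variable [Finite S] [Fact p.Prime] (N : NMap p F X)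

/-- Automorphisms of the generated system on `P` lie in `B P`. -/
def AutAt (P : Subgroup Ω) : Prop :=
  ∀ a : MulAut P, N.Gen P (P.subtype.comp a.toMonoidHom) → a ∈ N.B P

/-- Levels of the identity of `M` are levels of maps on the normalizer fixing `M`. -/
def FixAt (M : Subgroup Ω) : Prop :=
  ∀ κ ∈ F.autGroup X, H86.Lev N.sys κ M M.subtype →
    ∃ n : MulAut (normalizerIn X M), H85.IsFIso F n ∧
      (∀ x : normalizerIn X M, (x : Ω) ∈ M → (n x : Ω) = x) ∧ N.LevE κ n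

/-- The two statements above the order `n`. -/
structure Above (n : ℕ) : Prop where
  aut : ∀ P, CenX F X P → n < Nat.card P → N.AutAt P
  fix : ∀ P, CenX F X P → F.IsFullyNormalized P → n < Nat.card P → N.FixAt P

/-- An automorphism of `M` is an element of `B M` after the restriction of an automorphism of
`N_X(M)` of level `κ`. -/
def Pair (M : Subgroup Ω) (a : MulAut M) (κ : MulAut X) : Prop :=
  κ ∈ F.autGroup X ∧ ∃ b ∈ N.B M, ∃ n : MulAut (normalizerIn X M), H85.IsFIso F n ∧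
    N.LevE κ n ∧ ∃ c : MulAut M, (∀ (x : M) (hx : (x : Ω) ∈ normalizerIn X M),
      (c x : Ω) = n ⟨x, hx⟩) ∧ a = b * c

variable {N} {M : Subgroup Ω}

theorem pair_of_B (hM : CenX F X M) {b : MulAut M} (hb : b ∈ N.B M) : N.Pair M b 1 :=
  ⟨one_mem _, b, hb, 1, H85.IsFIso.refl F ((H85.normalizerIn_le M).trans N.hX.1),
    H86.lev_one.2 (H85.hom_congr (H85.id_mem N.sys (H85.normalizerIn_le M)) fun _ => rfl),
    1, fun _ _ => rfl, (mul_one b).symm⟩

theorem restr_mem (N : NMap p F X) (hM : CenX F X M) {n : MulAut (normalizerIn X M)} (hn : H85.IsFIso F n)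
    {c : MulAut M} (hc : ∀ (x : M) (hx : (x : Ω) ∈ normalizerIn X M), (c x : Ω) = n ⟨x, hx⟩) :
    c ∈ F.autGroup M :=
  (H85.mem_autGroup (hM.1.trans N.hX.1)).2 (H85.of_extend hn (H85.le_normalizerIn hM.1)
    fun x => (hc x (H85.le_normalizerIn hM.1 x.2)).symm)

theorem Pair.eq {a a' : MulAut M} {κ κ' : MulAut X} (h : N.Pair M a κ) (ha : a = a')
    (hκ : κ = κ') : N.Pair M a' κ' := ha ▸ hκ ▸ h

theorem Pair.mul (hM : CenX F X M) {a a' : MulAut M} {κ κ' : MulAut X} (h : N.Pair M a κ)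
    (h' : N.Pair M a' κ') : N.Pair M (a * a') (κ * κ') := by
  obtain ⟨hκ, b, hb, n, hn, hl, c, hc, rfl⟩ := h
  obtain ⟨hκ', b', hb', n', hn', hl', c', hc', rfl⟩ := h'
  refine ⟨mul_mem hκ hκ', b * (c * b' * c⁻¹),
    mul_mem hb (N.conj_B hM (restr_mem N hM hn hc) hb'), n * n', hn'.trans hn,
    (hl'.trans hl hκ').congr fun _ => rfl, c * c', fun x hx => ?_, by group⟩
  rw [MulAut.mul_apply, MulAut.mul_apply, hc (c' x) (H85.le_normalizerIn hM.1 (c' x).2)]
  exact congrArg (fun w => (n w : Ω)) (Subtype.ext (hc' x hx))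

theorem Pair.inv (hM : CenX F X M) {a : MulAut M} {κ : MulAut X} (h : N.Pair M a κ) :
    N.Pair M a⁻¹ κ⁻¹ := by
  obtain ⟨hκ, b, hb, n, hn, hl, c, hc, rfl⟩ := h
  refine ⟨inv_mem hκ, c⁻¹ * b⁻¹ * c, ?_, n.symm, hn.symm, hl.symm hκ, c⁻¹, fun x hx => ?_,
    by group⟩
  · have h1 := N.conj_B hM (inv_mem (restr_mem N hM hn hc)) (inv_mem hb)
    rwa [inv_inv] at h1
  · have h1 := hc (c⁻¹ x) (H85.le_normalizerIn hM.1 (c⁻¹ x).2)
    rw [MulAut.apply_inv_self] at h1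
    refine congrArg Subtype.val
      (?_ : (⟨((c⁻¹ x : M) : Ω), H85.le_normalizerIn hM.1 (c⁻¹ x).2⟩ : normalizerIn X M) =
        n.symm ⟨x, hx⟩)
    rw [MulEquiv.eq_symm_apply]
    exact Subtype.ext h1.symm

variable (N)

/-- Frattini argument in the stabilizer of `M` in the automorphisms of `R`. -/
theorem exists_split {R M : Subgroup Ω} (hR : CenX F X R) (hRn : F.IsFullyNormalized R)
    (hMR : M ≤ R) (hRM : R ≤ Subgroup.normalizer (M : Set Ω))
    (hconj : ∀ V : Subgroup (MulAut R), V ≤ H85.pStab F hRn.1 M → IsPGroup p V →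
      ∃ k ∈ H85.pStab F hRn.1 M, ∀ v ∈ V, k * v * k⁻¹ ∈ autInducedBy S R)
    {α : MulAut R} (hα : α ∈ H85.pStab F hRn.1 M) :
    ∃ k ∈ N.B R, k ∈ H85.pStab F hRn.1 M ∧ ∃ β ∈ H85.pStab F hRn.1 M, α = k * β ∧
      ∃ ψ : MulAut (biNormalizer X R M), H85.IsFIso F ψ ∧
        ∀ (x : R) (hx : (x : Ω) ∈ biNormalizer X R M), (ψ ⟨x, hx⟩ : Ω) = β x := by
  classical
  have hRS : R ≤ S := hRn.1
  haveI : Finite R := H85.finite_of_le hRS
  haveI : Finite (MulAut R) := Finite.of_injective (fun e => (e : R → R)) DFunLike.coe_injective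
  set A := H85.pStab F hRn.1 M with hA
  set K := N.B R ⊓ A with hK
  have hKn : ∀ a ∈ A, ∀ k ∈ K, a * k * a⁻¹ ∈ K := fun a ha k hk =>
    ⟨N.conj_B hR (H85.mem_pStab.1 ha).1 hk.1, A.mul_mem (A.mul_mem ha hk.2) (A.inv_mem ha)⟩
  set W := biNormalizer X R M with hW
  have hWS : W ≤ normalizerIn S R := fun x hx => ⟨N.hX.1 hx.1.1, hx.1.2⟩
  let c : W →* MulAut R := (H85.conjAut S R).comp (Subgroup.inclusion hWS)
  have hcK : c.range ≤ K := by
    rintro _ ⟨g, rfl⟩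
    exact ⟨N.induced R hR (H85.mem_autInducedBy.2 ⟨g, g.2.1.1, fun _ => rfl⟩),
      H85.conjAut_mem_pStab hRS (hWS g.2) g.2.2⟩
  have hinf : ∀ z ∈ K, z ∈ autInducedBy S R → z ∈ c.range := by
    intro z hz hzS
    obtain ⟨g, hg, hgz⟩ :=
      H85.mem_autInducedBy.1 (N.inf_induced R hR hRn ⟨hz.1, hzS⟩)
    exact ⟨⟨g, ⟨hg, H85.mem_normalizer_of_induced hgz⟩, H85.mem_normalizer_of_pStab hMR hz.2 hgz⟩,
      MulEquiv.ext fun x => Subtype.ext (hgz x).symm⟩
  have hcp : IsPGroup p c.range :=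
    (N.hS.to_le (hWS.trans (H85.normalizerIn_le R))).of_surjective _ c.rangeRestrict_surjective
  let Kc : Subgroup A := K.subgroupOf A
  haveI hKc : Kc.Normal := ⟨fun k hk a => hKn a a.2 k hk⟩
  obtain ⟨R', hR'⟩ := ((hcp.comap_of_injective A.subtype A.subtype_injective).comap_of_injective
    Kc.subtype Kc.subtype_injective).exists_le_sylow
  set L : Subgroup (MulAut R) := ((R' : Subgroup Kc).map Kc.subtype).map A.subtype with hL
  have hLA : L ≤ A := Subgroup.map_subtype_le _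
  have hLK : L ≤ K := by
    rintro _ ⟨_, ⟨u, -, rfl⟩, rfl⟩
    exact u.2
  have hcL : c.range ≤ L := fun z hz =>
    ⟨⟨z, (hcK hz).2⟩, ⟨⟨⟨z, (hcK hz).2⟩, hcK hz⟩, hR' hz, rfl⟩, rfl⟩
  have hLp : IsPGroup p L := (R'.2.map _).map _
  obtain ⟨k₀, hk₀, hk₀L⟩ := hconj L hLA hLp
  have hle : L.map (MulAut.conj k₀).toMonoidHom ≤ c.range := by
    rintro _ ⟨z, hz, rfl⟩
    exact hinf _ (hKn _ hk₀ _ (hLK hz)) (hk₀L z hz)
  have heq : c.range = L := by
    refine Subgroup.eq_of_le_of_card_ge hcL ?_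
    rw [← Subgroup.card_map_of_injective (f := (MulAut.conj k₀).toMonoidHom)
      (MulAut.conj k₀).injective]
    exact Subgroup.card_le_of_le hle
  have htop : Subgroup.normalizer (((R' : Subgroup Kc).map Kc.subtype : Subgroup _) : Set _) ⊔ Kc
      = ⊤ := R'.normalizer_sup_eq_top
  have hmem : (⟨α, hα⟩ : A) ∈ Kc ⊔
      Subgroup.normalizer (((R' : Subgroup Kc).map Kc.subtype : Subgroup _) : Set _) := by
    rw [sup_comm, htop]
    trivial
  rw [← SetLike.mem_coe, Subgroup.normal_mul] at hmem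
  obtain ⟨k, hk, β, hβ, hkβ⟩ := hmem
  refine ⟨k, hk.1, k.2, β, β.2, (congrArg Subtype.val hkβ).symm, ?_⟩
  have hβ' : H85.IsFIso F (β : MulAut R) := (H85.mem_autGroup hRS).1 (H85.mem_pStab.1 β.2).1
  obtain ⟨χ, hχ, hext⟩ :=
    H85.receptive_extend (H85.receptive_of_fullyNormalized N.hS N.hF hRn) hβ'
  have hWE : W ≤ extender S R (R.subtype.comp (β : MulAut R).toMonoidHom) := by
    intro g hg
    refine H85.mem_extender.2 ⟨(hWS hg).1, (hWS hg).2, ?_⟩
    have h0 : c ⟨g, hg⟩ ∈ c.range := ⟨_, rfl⟩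
    have h1 : (⟨c ⟨g, hg⟩, (hcK h0).2⟩ : A) ∈ (R' : Subgroup Kc).map Kc.subtype :=
      ⟨⟨⟨_, (hcK h0).2⟩, hcK h0⟩, hR' h0, rfl⟩
    have h2 := (Subgroup.mem_normalizer_iff.mp hβ _).mp h1
    have h3 : ((β : MulAut R) * c ⟨g, hg⟩ * (β : MulAut R)⁻¹) ∈ c.range := by
      rw [heq]
      exact ⟨_, h2, rfl⟩
    obtain ⟨h, hh⟩ := h3
    refine ⟨h, (hWS h.2).1, fun x hx => ?_⟩
    have h4 := congrArg Subtype.val (DFunLike.congr_fun hh ((β : MulAut R) x))
    simp only [MulAut.mul_apply, MulAut.inv_apply_self] at h4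
    refine Eq.trans ?_ h4.symm
    exact congrArg (fun z : R => ((((β : MulAut R) z) : R) : Ω)) (Subtype.ext rfl)
  have hRW : R ≤ W := fun x hx => ⟨⟨hR.1 hx, Subgroup.le_normalizer hx⟩, hRM hx⟩
  obtain ⟨ψ, hψ, hψe⟩ := exists_aut_biNormalizer N.hX (H85.restrict hχ hWE) hRW (hMR.trans hRW)
    (β : MulAut R) (fun x => hext x x.2 _)
    (H85.resAut F hRS hMR ⟨β, β.2⟩) fun x => hext x (hMR x.2) _
  exact ⟨ψ, hψ, fun x hx => (hψe _).trans (hext x x.2 _)⟩

/-- Every map of `F` on a subgroup of `N_X(M)` properly above `M` stabilizing `M` restricts into a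
pair with each of its levels. -/
theorem pair_of_map (hM : CenX F X M) (hMn : F.IsFullyNormalized M)
    (IH : N.Above (Nat.card M)) :
    ∀ (R : Subgroup Ω) (hMR : M ≤ R), R ≤ normalizerIn X M → M < R →
      ∀ f : R →* Ω, f ∈ F.Hom R → ∀ κ ∈ F.autGroup X, H86.Lev N.sys κ R f →
        ∀ a : MulAut M, (∀ x : M, (a x : Ω) = f (Subgroup.inclusion hMR x)) →
          N.Pair M a κ := by
  classical
  have hVX : normalizerIn X M ≤ X := H85.normalizerIn_le M
  have hVS : normalizerIn X M ≤ S := hVX.trans N.hX.1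
  haveI : Finite (normalizerIn X M) := H85.finite_of_le hVS
  suffices H : ∀ (n : ℕ) (R : Subgroup Ω) (hMR : M ≤ R), R ≤ normalizerIn X M → M < R →
      Nat.card (normalizerIn X M) - Nat.card R ≤ n →
      ∀ f : R →* Ω, f ∈ F.Hom R → ∀ κ ∈ F.autGroup X, H86.Lev N.sys κ R f →
        ∀ a : MulAut M, (∀ x : M, (a x : Ω) = f (Subgroup.inclusion hMR x)) →
          N.Pair M a κ from
    fun R hMR hRV hlt => H _ R hMR hRV hlt le_rfl
  intro n
  induction n using Nat.strong_induction_on with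
  | _ n ih =>
  intro R hMR hRV hlt hn f hf κ hκ hlev a ha
  have hRX : R ≤ X := hRV.trans hVX
  have hRS : R ≤ S := hRV.trans hVS
  haveI : Finite R := H85.finite_of_le hRS
  have hRM : R ≤ Subgroup.normalizer (M : Set Ω) := hRV.trans inf_le_right
  have hfM : H85.img f M = M := img_eq_of_iso hMR a fun x => (ha x).symm
  have hfV : ∀ x, f x ∈ normalizerIn X M := fun x => by
    have := map_mem_normalizerX N.hX hf hRX hMR hRM x
    rwa [hfM] at this
  have hfmem : ∀ x : R, f x ∈ M ↔ (x : Ω) ∈ M := fun x => by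
    have := H85.mem_img_iff (U := M) hf x
    rwa [hfM] at this
  rcases eq_or_lt_of_le hRV with hRe | hRlt
  · subst hRe
    have hr : f.range = normalizerIn X M := H86.range_eq_self_of_le F hf (by
      rintro _ ⟨x, rfl⟩
      exact hfV x)
    exact ⟨hκ, 1, one_mem _, H85.isoOf f hf hr, H85.isFIso_isoOf f hf hr,
      hlev.congr fun _ => rfl, a, fun x hx => ha x, (one_mul a).symm⟩
  have big : ∀ (Z : Subgroup Ω) (hMZ : M ≤ Z), Z ≤ normalizerIn X M →
      Nat.card R < Nat.card Z → ∀ g : Z →* Ω, g ∈ F.Hom Z → ∀ μ ∈ F.autGroup X,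
      H86.Lev N.sys μ Z g → ∀ b : MulAut M,
      (∀ x : M, (b x : Ω) = g (Subgroup.inclusion hMZ x)) → N.Pair M b μ := by
    intro Z hMZ hZ hc
    have h1 : Nat.card Z ≤ Nat.card (normalizerIn X M) := Subgroup.card_le_of_le hZ
    have h2 := H85.card_lt_of_lt hRS hlt
    refine ih (Nat.card (normalizerIn X M) - Nat.card Z) (by omega) Z hMZ hZ
      (lt_of_le_of_ne hMZ fun e => ?_) le_rfl
    rw [← e] at hc
    omega
  -- a fully normalized conjugate with a good stabilizer of the image of `M`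
  obtain ⟨Rs, hRsS, e, Ms, he, hauto, hrec, hMs, hmem, hconj⟩ :=
    H85.exists_move (F := F) (p := p) (T := R) (U := M) hRS (N.hF R hRS)
  have hRsn : F.IsFullyNormalized Rs :=
    H85.fullyNormalized_of_automized_receptive N.hS hauto hrec
  have hRC : CenX F X R := hM.mono hMR hRX
  have hRsC : CenX F X Rs := hRC.conj N.hX he
  have hcRs : Nat.card Rs = Nat.card R := (Nat.card_congr e.toEquiv).symm
  let eM : M ≃* Ms := H85.subEquiv e hMR hMs hmem
  have heM : H85.IsFIso F eM := H85.isFIso_subEquiv he hMR hMs hmem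
  have hMsC : CenX F X Ms := hM.conj N.hX heM
  have hRsN : Rs ≤ Subgroup.normalizer (Ms : Set Ω) := by
    intro y hy
    have h1 := map_mem_normalizerX N.hX he hRX hMR hRM (e.symm ⟨y, hy⟩)
    rw [img_eq_of_iso hMR eM fun x => rfl] at h1
    have h2 := h1.2
    simpa using h2
  set W := biNormalizer X Rs Ms with hWdef
  have hRsW : Rs ≤ W := fun x hx => ⟨⟨hRsC.1 hx, Subgroup.le_normalizer hx⟩, hRsN hx⟩
  have hMsW : Ms ≤ W := hMs.trans hRsW
  have hWX : W ≤ X := inf_le_left.trans inf_le_left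
  haveI : Finite W := H85.finite_of_le (hWX.trans N.hX.1)
  -- the map to `N(M)`
  obtain ⟨g, hg, -, hgimg⟩ :=
    H85.exists_map_to_fullyNormalized N.hS N.hF hMn (H85.isConj_symm heM.isConj)
  have hMsS : Ms ≤ S := hMsC.1.trans N.hX.1
  let gM : Ms ≃* M :=
    (H85.resIso g (F.injective_of_mem hg) (H85.le_normalizerIn hMsS)).trans
      (MulEquiv.subgroupCongr hgimg)
  have hgMF : H85.IsFIso F gM :=
    H85.hom_congr (H85.restrict hg (H85.le_normalizerIn hMsS)) fun _ => rfl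
  have hXle : normalizerIn X Ms ≤ normalizerIn S Ms := inf_le_inf_right _ N.hX.1
  set gX := g.comp (Subgroup.inclusion hXle) with hgX
  have hgXF : gX ∈ F.Hom (normalizerIn X Ms) := H85.restrict hg hXle
  have hgXV : ∀ x, gX x ∈ normalizerIn X M := fun x => by
    have := map_mem_normalizerX N.hX hgXF inf_le_left (H85.le_normalizerIn hMsC.1) inf_le_right x
    rwa [img_eq_of_iso (H85.le_normalizerIn hMsC.1) gM fun x => rfl] at this
  obtain ⟨μg, hμg, hlg⟩ := N.frattini inf_le_left hgXF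
  have hWN : W ≤ normalizerIn X Ms := fun x hx => ⟨hx.1.1, hx.2⟩
  let eG : W ≃* H85.img gX W := H85.resIso gX (F.injective_of_mem hgXF) hWN
  have heG : H85.IsFIso F eG := H85.isFIso_resIso hgXF hWN
  have hlG : N.LevE μg eG := levE_res hlg hWN fun _ => rfl
  have hMW0 : M ≤ H85.img gX W :=
    (img_eq_of_iso (H85.le_normalizerIn hMsC.1) gM fun x => rfl).ge.trans (H85.img_mono gX hMsW)
  have hW0V : H85.img gX W ≤ normalizerIn X M := by
    intro y hy
    obtain ⟨x, -, rfl⟩ := H85.mem_img.1 hy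
    exact hgXV x
  -- transport to `M` of automorphisms of `W`
  have push : Nat.card R < Nat.card W → ∀ ψ : MulAut W, H85.IsFIso F ψ →
      ∀ ν ∈ F.autGroup X, N.LevE ν ψ → ∀ j : MulAut Ms,
      (∀ (x : Ms) (hx : (x : Ω) ∈ W), (j x : Ω) = ψ ⟨x, hx⟩) →
      N.Pair M (MulAut.congr gM j) (μg * ν * μg⁻¹) := by
    intro hc ψ hψ ν hν hlψ j hj
    refine big _ hMW0 hW0V (hc.trans_eq (Nat.card_congr eG.toEquiv))
      ((H85.img gX W).subtype.comp (eG.symm.trans (ψ.trans eG)).toMonoidHom)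
      (heG.symm.trans (hψ.trans heG)) _ (mul_mem (mul_mem hμg hν) (inv_mem hμg))
      ((hlG.symm hμg).trans (hlψ.trans hlG hν) (inv_mem hμg)) _ fun x => ?_
    have h1 : eG.symm (Subgroup.inclusion hMW0 x) = Subgroup.inclusion hMsW (gM.symm x) := by
      rw [MulEquiv.symm_apply_eq]
      refine Subtype.ext ?_
      show (x : Ω) = _
      conv_lhs => rw [← gM.apply_symm_apply x]
      rfl
    show (gM (j (gM.symm x)) : Ω) = (eG (ψ (eG.symm _)) : Ω)
    rw [h1]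
    exact congrArg g (Subtype.ext (hj (gM.symm x) (hMsW (gM.symm x).2)) :
      Subgroup.inclusion (H85.le_normalizerIn hMsS) (j (gM.symm x)) =
        Subgroup.inclusion hXle (Subgroup.inclusion hWN (ψ (Subgroup.inclusion hMsW (gM.symm x)))))
  -- the moves of `R` and `f(R)`
  have key : ∀ (R₀ : Subgroup Ω) (hMR₀ : M ≤ R₀), R₀ ≤ normalizerIn X M →
      Nat.card R₀ = Nat.card R → ∀ e₀ : R₀ ≃* Rs, H85.IsFIso F e₀ →
      (∀ x : R₀, (e₀ x : Ω) ∈ Ms ↔ (x : Ω) ∈ M) →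
      ∃ e₁ : R₀ ≃* Rs, H85.IsFIso F e₁ ∧ (∀ x : R₀, (e₁ x : Ω) ∈ Ms ↔ (x : Ω) ∈ M) ∧
        ∃ μ ∈ F.autGroup X, N.LevE μ e₁ ∧ Nat.card R < Nat.card W ∧
          ∀ i : M ≃* Ms, (∀ x : M, (i x : Ω) = e₁ (Subgroup.inclusion hMR₀ x)) →
            N.Pair M (i.trans gM) (μg * μ) := by
    intro R₀ hMR₀ hR₀V hc₀ e₀ he₀ hmem₀
    set Z := normalizerIn (normalizerIn X M) R₀ with hZ
    have hR₀S : R₀ ≤ S := hR₀V.trans hVS
    have hR₀lt : R₀ < normalizerIn X M := lt_of_le_of_ne hR₀V fun e => by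
      have := H85.card_lt_of_lt hVS hRlt
      rw [← e, hc₀] at this
      exact lt_irrefl _ this
    have hZV : Z ≤ normalizerIn X M := H85.normalizerIn_le R₀
    have hR₀Z : R₀ ≤ Z := H85.le_normalizerIn hR₀V
    have hcZ : Nat.card R < Nat.card Z := hc₀ ▸ H86.card_lt_card_normalizerIn N.hS hVS hR₀lt
    obtain ⟨β, hβ, χ, hχ, hext⟩ := H85.exists_extension_stab N.hS he₀ hRsS hrec hmem₀ hconj
      (M := Z) (fun x hx => ⟨hVS hx.1, hx.2⟩) (fun x hx => ⟨hVS hx.1, hx.1.2⟩)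
    let e₁ : R₀ ≃* Rs := e₀.trans β
    have hmem₁ : ∀ x : R₀, (e₁ x : Ω) ∈ Ms ↔ (x : Ω) ∈ M := fun x =>
      (H85.pStab_iff_mem hMs hβ _).trans (hmem₀ x)
    let i₁ : M ≃* Ms := H85.subEquiv e₁ hMR₀ hMs hmem₁
    have hχW : ∀ x, χ x ∈ W := map_mem_biNormalizer N.hX hχ (hZV.trans hVX) hR₀Z
      (hMR₀.trans hR₀Z) inf_le_right (hZV.trans inf_le_right) e₁ (fun x => hext x _) i₁
      fun x => hext ⟨x, hMR₀ x.2⟩ _
    obtain ⟨μ, hμ, hlμ⟩ := N.frattini (hZV.trans hVX) hχ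
    have hlev₁ : N.LevE μ e₁ := levE_res hlμ hR₀Z fun x => (hext x _).symm
    refine ⟨e₁, he₀.trans ((H85.mem_autGroup hRsS).1 (H85.mem_pStab.1 hβ).1), hmem₁, μ, hμ,
      hlev₁, hcZ.trans_le (Nat.card_le_card_of_injective (χ.codRestrict W hχW)
        fun u v huv => F.injective_of_mem hχ (congrArg Subtype.val huv)), fun i hi => ?_⟩
    have hcomp := F.comp_mem hχ hgXF fun x => hWN (hχW x)
    refine big Z (hMR₀.trans hR₀Z) hZV hcZ _ hcomp _ (mul_mem hμg hμ)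
      (H86.Lev.comp hlμ hlg (N.normAut (inv_mem hμ)) (fun x => hWN (hχW x)) fun _ => rfl) _
      fun x => ?_
    exact congrArg g (Subtype.ext ((hi x).trans (hext ⟨x, hMR₀ x.2⟩ (hR₀Z (hMR₀ x.2))).symm) :
      Subgroup.inclusion (H85.le_normalizerIn hMsS) (i x) =
        Subgroup.inclusion hXle ⟨χ (Subgroup.inclusion (hMR₀.trans hR₀Z) x), hWN (hχW _)⟩)
  -- the two moves
  have hR'V : f.range ≤ normalizerIn X M := by
    rintro _ ⟨x, rfl⟩
    exact hfV x
  have hMR' : M ≤ f.range := fun y hy =>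
    ⟨Subgroup.inclusion hMR (a.symm ⟨y, hy⟩), by rw [← ha, MulEquiv.apply_symm_apply]⟩
  let fI : R ≃* f.range := H85.isoOf f hf rfl
  have hfI : H85.IsFIso F fI := H85.isFIso_isoOf f hf rfl
  have hlfI : N.LevE κ fI := hlev.congr fun _ => rfl
  have hc' : Nat.card f.range = Nat.card R := (Nat.card_congr fI.toEquiv).symm
  obtain ⟨e₁, he₁, hmem₁, μ₁, hμ₁, hl₁, hcW, hP₁⟩ := key R hMR hRV rfl e he hmem
  obtain ⟨e₂, he₂, hmem₂, μ₂, hμ₂, hl₂, -, hP₂⟩ := key f.range hMR' hR'V hc'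
    (fI.symm.trans e) (hfI.symm.trans he) (fun y => by
      obtain ⟨x, rfl⟩ := fI.surjective y
      show (e (fI.symm (fI x)) : Ω) ∈ Ms ↔ _
      rw [MulEquiv.symm_apply_apply, hmem]
      exact (hfmem x).symm)
  -- the loop at `Rs`
  have hα : (e₁.symm.trans (fI.trans e₂) : MulAut Rs) ∈ H85.pStab F hRsn.1 Ms := by
    refine H85.mem_pStab.2 ⟨(H85.mem_autGroup hRsS).2 (he₁.symm.trans (hfI.trans he₂)),
      fun y hy => ?_⟩
    show (e₂ (fI (e₁.symm y)) : Ω) ∈ Ms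
    rw [hmem₂]
    show f (e₁.symm y) ∈ M
    rw [hfmem, ← hmem₁, MulEquiv.apply_symm_apply]
    exact hy
  obtain ⟨k, hkB, hkS, β, hβS, hkβ, ψ, hψ, hψe⟩ :=
    N.exists_split hRsC hRsn hMs hRsN hconj hα
  have hψlev : ∃ ν ∈ F.autGroup X, N.LevE ν ψ := N.frattini_iso hWX hψ
  obtain ⟨ν, hν, hlψ⟩ := hψlev
  have hβlev : N.LevE ν (β : Rs ≃* Rs) := hlψ.res hRsW fun x => (hψe x _).symm
  set lam := μ₂⁻¹ * ((1 * ν) * μ₁) with hlam
  have hlamF : lam ∈ F.autGroup X :=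
    mul_mem (inv_mem hμ₂) (mul_mem (mul_mem (one_mem _) hν) hμ₁)
  have hloop : ∀ x : R, k (β (e₁ x)) = e₂ (fI x) := fun x => by
    have h1 := DFunLike.congr_fun hkβ (e₁ x)
    rw [MulAut.mul_apply] at h1
    rw [← h1]
    show e₂ (fI (e₁.symm (e₁ x))) = _
    rw [MulEquiv.symm_apply_apply]
  have hflam : N.LevE lam fI :=
    ((hl₁.trans (hβlev.trans (N.levE_B hRsC hkB) hν) hμ₁).trans (hl₂.symm hμ₂)
      (mul_mem (mul_mem (one_mem _) hν) hμ₁)).congr fun x => by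
      show ((e₂.symm (k (β (e₁ x)))) : Ω) = _
      rw [hloop, MulEquiv.symm_apply_apply]
  -- the pair at `M` with level `lam`
  let i₁ : M ≃* Ms := H85.subEquiv e₁ hMR hMs hmem₁
  let i₂ : M ≃* Ms := H85.subEquiv e₂ hMR' hMs hmem₂
  have hA₁ : N.Pair M (i₁.trans gM) (μg * μ₁) := hP₁ i₁ fun x => rfl
  have hA₂ : N.Pair M (i₂.trans gM) (μg * μ₂) := hP₂ i₂ fun x => rfl
  obtain ⟨kM, hkM, hkMe⟩ :=
    N.res Ms Rs hMs hMsC hRsC k hkB fun x hx => (H85.mem_pStab.1 hkS).2 x hx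
  have hK' : N.Pair M (MulAut.congr gM kM) 1 :=
    pair_of_B hM (N.congr Ms M gM hMsC hgMF kM hkM)
  let j : MulAut Ms := H85.resAut F hRsn.1 hMs ⟨β, hβS⟩
  have hB' : N.Pair M (MulAut.congr gM j) (μg * ν * μg⁻¹) :=
    push hcW ψ hψ ν hν hlψ j fun x hx => (hψe ⟨x, hMs x.2⟩ hx).symm
  have ha' : (i₂.trans gM : MulAut M) * a =
      MulAut.congr gM kM * MulAut.congr gM j * (i₁.trans gM : MulAut M) := by
    refine MulEquiv.ext fun x => ?_
    show gM (i₂ (a x)) = gM (kM (gM.symm (gM (j (gM.symm (gM (i₁ x)))))))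
    rw [MulEquiv.symm_apply_apply, MulEquiv.symm_apply_apply]
    refine congrArg gM (Subtype.ext ?_)
    rw [hkMe]
    show (e₂ ⟨a x, _⟩ : Ω) = (k (β (e₁ ⟨x, _⟩)) : Ω)
    rw [hloop]
    exact congrArg (fun w => (e₂ w : Ω)) (Subtype.ext (ha x))
  have hlamP : N.Pair M a lam := by
    refine ((hA₂.inv hM).mul hM ((hK'.mul hM hB').mul hM hA₁)).eq ?_ ?_
    · rw [← ha', inv_mul_cancel_left]
    · rw [hlam]
      group
  -- the level of the identity
  set d := lam⁻¹ * κ with hd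
  have hdF : d ∈ F.autGroup X := mul_mem (inv_mem hlamF) hκ
  have hidR : N.LevE d (MulEquiv.refl R) :=
    (hlfI.trans (hflam.symm hlamF) hκ).congr fun x =>
      congrArg Subtype.val (fI.symm_apply_apply x)
  set d' := μ₁ * (d * μ₁⁻¹) with hd'
  have hidRs : N.LevE d' (MulEquiv.refl Rs) :=
    (((hl₁.symm hμ₁).trans hidR (inv_mem hμ₁)).trans hl₁ (mul_mem hdF (inv_mem hμ₁))).congr
      fun x => congrArg Subtype.val (e₁.apply_symm_apply x)
  obtain ⟨m, hm, hmfix, hlm⟩ := IH.fix Rs hRsC hRsn (hcRs ▸ H85.card_lt_of_lt hRS hlt) d'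
    (mul_mem hμ₁ (mul_mem hdF (inv_mem hμ₁))) (hidRs.congr fun _ => rfl)
  have hWN' : W ≤ normalizerIn X Rs := inf_le_left
  obtain ⟨ψ', hψ', hψ'e⟩ := exists_aut_biNormalizer N.hX (H85.restrict hm hWN') hRsW hMsW
    (MulEquiv.refl Rs) (fun x => hmfix (Subgroup.inclusion hWN' (Subgroup.inclusion hRsW x)) x.2) (MulEquiv.refl Ms)
    (fun x => hmfix (Subgroup.inclusion hWN' (Subgroup.inclusion hMsW x)) (hMs x.2))
  have hlψ' : N.LevE d' ψ' := levE_res hlm hWN' hψ'e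
  have hd1 : N.Pair M 1 (μg * d' * μg⁻¹) := by
    refine (push hcW ψ' hψ' d' (mul_mem hμ₁ (mul_mem hdF (inv_mem hμ₁))) hlψ' 1
      fun x hx => ((hψ'e ⟨x, hx⟩).trans
      (hmfix (Subgroup.inclusion hWN' ⟨x, hx⟩) (hMs x.2))).symm).eq (map_one _) rfl
  have hone : N.Pair M 1 d := by
    refine (((hA₁.inv hM).mul hM hd1).mul hM hA₁).eq (by group) ?_
    rw [hd']
    group
  exact (hlamP.mul hM hone).eq (mul_one a) (by rw [hd, mul_inv_cancel_left])

end NMap

end H87
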