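import Cfsg.Agent.H86.ExtAll
import Cfsg.Agent.H85.HSaturated2

/-!
Subgroups `Z` between a fully normalized `U` and its normalizer that are preserved by every map
stabilizing `U` (helper87): they are centric once they contain their centralizer, and the
normalizer of `U` induces a Sylow subgroup of the stabilizer of `U` in their automorphisms.
-/

set_option autoImplicit false
set_option linter.unusedSectionVars false

open Cfsg Cfsg.FusionSystem

namespace H87

variable {Ω : Type*} [Group Ω] {S : Subgroup Ω}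

/-- Maps stabilizing `U` preserve `U C_T(U)` for `T` strongly closed. -/
theorem map_pc_mem [Finite S] {G : FusionSystem S} {T U Z : Subgroup Ω} (hT : G.StronglyClosed T)
    (hUT : U ≤ T) {φ : Z →* Ω} (hφ : φ ∈ G.Hom Z) (hle : H86.pc T U ≤ Z)
    (hU : ∀ x : Z, (x : Ω) ∈ U → φ x ∈ U) (x : Z) (hx : (x : Ω) ∈ H86.pc T U) :
    φ x ∈ H86.pc T U := by
  have hUZ : U ≤ Z := (le_sup_left (α := Subgroup Ω)).trans hle
  have : Finite U := H85.finite_of_le (hUT.trans hT.1)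
  have hr : (φ.comp (Subgroup.inclusion hUZ)).range = U :=
    H86.range_eq_self_of_le G (H85.restrict hφ hUZ) (by
      rintro _ ⟨y, rfl⟩
      exact hU _ y.2)
  obtain ⟨q, hq, w, hw, hqw⟩ := H86.mem_pc hx
  have hqZ : q ∈ Z := hUZ hq
  have hwZ : w ∈ Z := hle (Subgroup.mem_sup_right hw)
  have hwC : φ ⟨w, hwZ⟩ ∈ centralizerIn T U := by
    refine H85.mem_centralizerIn.2 ⟨hT.2 _ inf_le_left _
      (H85.restrict hφ ((le_sup_right (α := Subgroup Ω)).trans hle)) ⟨w, hw⟩, fun u hu => ?_⟩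
    rw [← hr] at hu
    obtain ⟨y, rfl⟩ := hu
    rw [MonoidHom.comp_apply, ← map_mul, ← map_mul]
    exact congrArg φ (Subtype.ext ((H85.mem_centralizerIn.1 hw).2 y y.2))
  rw [show x = (⟨q, hqZ⟩ : Z) * ⟨w, hwZ⟩ from Subtype.ext hqw.symm, map_mul]
  exact mul_mem (Subgroup.mem_sup_left (hU ⟨q, hqZ⟩ hq)) (Subgroup.mem_sup_right hwC)

/-- The data of a pinned subgroup. -/
structure Pinned (G : FusionSystem S) (U Z : Subgroup Ω) : Prop where
  le : U ≤ Z
  le_norm : Z ≤ normalizerIn S U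
  pin : ∀ φ ∈ G.Hom Z, (∀ x : Z, (x : Ω) ∈ U → φ x ∈ U) → ∀ x : Z, φ x ∈ Z

variable [Finite S] {p : ℕ} [Fact p.Prime] {G : FusionSystem S} {U Z : Subgroup Ω}

theorem Pinned.le_S (h : Pinned G U Z) : Z ≤ S := h.le_norm.trans inf_le_left

theorem Pinned.norm_le (h : Pinned G U Z) : normalizerIn S U ≤ normalizerIn S Z := by
  intro g hg
  have : Finite Z := H85.finite_of_le h.le_S
  refine ⟨hg.1, H85.mem_normalizer_of_conj fun z hz => ?_⟩
  exact h.pin _ (G.conj_mem h.le_S hg.1)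
    (fun x hx => H85.conj_mem_of_mem_normalizer hg.2 hx) ⟨z, hz⟩

theorem Pinned.range_eq (h : Pinned G U Z) {φ : Z →* Ω} (hφ : φ ∈ G.Hom Z)
    (hU : ∀ x : Z, (x : Ω) ∈ U → φ x ∈ U) : φ.range = Z := by
  have : Finite Z := H85.finite_of_le h.le_S
  exact H86.range_eq_self_of_le G hφ (by rintro _ ⟨x, rfl⟩; exact h.pin φ hφ hU x)

/-- A pinned subgroup containing its centralizer is centric. -/
theorem Pinned.centric (h : Pinned G U Z) (hS : IsPGroup p S) (hG : G.IsSaturated p)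
    (hU : G.IsFullyNormalized U) (hC : centralizerIn S Z ≤ Z) : G.IsCentric Z := by
  refine ⟨h.le_S, ?_⟩
  rintro _ ⟨φ, hφ, rfl⟩ y hy
  obtain ⟨g, hg, -, himg⟩ := H85.exists_map_to_fullyNormalized hS hG hU
    (H85.isConj_symm (H85.isConj_img hφ h.le))
  have hφN : ∀ x, φ x ∈ normalizerIn S (H85.img φ U) := H85.map_normalizing hφ h.le h.le_norm
  have hgU : ∀ x : normalizerIn S (H85.img φ U), (x : Ω) ∈ H85.img φ U → g x ∈ U := fun x hx =>
    himg.le (H85.apply_mem_img hx)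
  have hcomp := G.comp_mem hφ hg hφN
  have hr := h.range_eq hcomp fun x hx => hgU _ (H85.apply_mem_img hx)
  have hyN : y ∈ normalizerIn S (H85.img φ U) :=
    H85.centralizerIn_le_normalizerIn _ (H85.mem_centralizerIn.2 ⟨hy.1, fun z hz =>
      (H85.mem_centralizerIn.1 hy).2 z (H85.img_le_range φ hz)⟩)
  have hgy : g ⟨y, hyN⟩ ∈ centralizerIn S Z := by
    refine H85.mem_centralizerIn.2 ⟨H85.map_mem hg _, fun z hz => ?_⟩
    rw [← hr] at hz
    obtain ⟨x, rfl⟩ := hz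
    rw [MonoidHom.comp_apply, ← map_mul, ← map_mul]
    exact congrArg g (Subtype.ext ((H85.mem_centralizerIn.1 hy).2 (φ x) ⟨x, rfl⟩))
  obtain ⟨x, hx⟩ := hr.ge (hC hgy)
  exact ⟨x, congrArg Subtype.val (G.injective_of_mem hg hx)⟩

/-- Every `p`-group in the stabilizer of `U` is conjugate there into the automorphisms induced by
the normalizer of `U`. -/
theorem Pinned.stab_conj (h : Pinned G U Z) (hS : IsPGroup p S) (hG : G.IsSaturated p)
    (hU : G.IsFullyNormalized U) {V : Subgroup (MulAut Z)} (hV : V ≤ H85.pStab G h.le_S U)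
    (hVp : IsPGroup p V) :
    ∃ a ∈ H85.pStab G h.le_S U, ∀ v ∈ V, ∃ t ∈ normalizerIn S U,
      ∀ x : Z, ((a * v * a⁻¹) x : Ω) = t * (x : Ω) * t⁻¹ := by
  classical
  have hZS := h.le_S
  have : Finite Z := H85.finite_of_le hZS
  obtain ⟨Z', hZ'S, e, U', he, -, -, hU'Z, hmem, hconj⟩ :=
    H85.exists_move (F := G) (p := p) (T := Z) (U := U) hZS (hG Z hZS)
  let i : U ≃* U' := H85.subEquiv e h.le hU'Z hmem
  have hi : H85.IsFIso G i := H85.isFIso_subEquiv he h.le hU'Z hmem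
  obtain ⟨g, hg, hgN, himg⟩ :=
    H85.exists_map_to_fullyNormalized hS hG hU (H85.isConj_symm hi.isConj)
  have heN : ∀ x : Z, (e x : Ω) ∈ normalizerIn S U' := by
    intro x
    have h1 := H85.map_normalizing he h.le h.le_norm x
    have h2 : H85.img (Z'.subtype.comp e.toMonoidHom) U = U' := by
      ext y
      constructor
      · intro hy
        obtain ⟨z, hz, rfl⟩ := H85.mem_img.1 hy
        exact (hmem z).2 hz
      · intro hy
        refine H85.mem_img.2 ⟨e.symm ⟨y, hU'Z hy⟩, ?_, congrArg Subtype.val (e.apply_symm_apply _)⟩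
        rw [← hmem, e.apply_symm_apply]
        exact hy
    rwa [h2] at h1
  have hZ'N : Z' ≤ normalizerIn S U' := fun y hy => by
    have h1 := heN (e.symm ⟨y, hy⟩)
    rwa [e.apply_symm_apply] at h1
  have hgU : ∀ y : normalizerIn S U', (y : Ω) ∈ U' → g y ∈ U := fun y hy =>
    himg.le (H85.apply_mem_img hy)
  set φ := (g.comp (Subgroup.inclusion hZ'N)).comp e.toMonoidHom with hφdef
  have hφ : φ ∈ G.Hom Z :=
    H85.hom_congr (G.comp_mem he (H85.restrict hg hZ'N) fun x => (e x).2) fun _ => rfl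
  have hφU : ∀ x : Z, (x : Ω) ∈ U → φ x ∈ U := fun x hx => hgU _ ((hmem x).2 hx)
  let a₀ : MulAut Z := H85.isoOf φ hφ (h.range_eq hφ hφU)
  have ha₀ : a₀ ∈ H85.pStab G hZS U := H85.mem_pStab.2
    ⟨(H85.mem_autGroup hZS).2 (H85.isFIso_isoOf φ hφ _), fun x hx => hφU x hx⟩
  have heV : V.map (MulAut.congr e).toMonoidHom ≤ H85.pStab G hZ'S U' := by
    rintro _ ⟨v, hv, rfl⟩
    have hvm := H85.mem_pStab.1 (hV hv)
    refine H85.mem_pStab.2 ⟨H85.congr_mem_autGroup he hvm.1, fun y hy => ?_⟩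
    show (e (v (e.symm y)) : Ω) ∈ U'
    rw [hmem]
    refine hvm.2 _ ?_
    rw [← hmem, e.apply_symm_apply]
    exact hy
  obtain ⟨k, hk, hkV⟩ := hconj _ heV (hVp.map _)
  have hkS : MulAut.congr e.symm k ∈ H85.pStab G hZS U := by
    refine H85.mem_pStab.2 ⟨H85.congr_mem_autGroup he.symm (H85.mem_pStab.1 hk).1, fun x hx => ?_⟩
    show (e.symm (k (e x)) : Ω) ∈ U
    rw [← hmem, e.apply_symm_apply]
    exact (H85.mem_pStab.1 hk).2 _ ((hmem x).2 hx)
  refine ⟨a₀ * MulAut.congr e.symm k, mul_mem ha₀ hkS, fun v hv => ?_⟩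
  have hw : k * MulAut.congr e v * k⁻¹ ∈ H85.pStab G hZ'S U' :=
    mul_mem (mul_mem hk (heV ⟨v, hv, rfl⟩)) (inv_mem hk)
  obtain ⟨s, hs, hse⟩ := H85.mem_autInducedBy.1 (hkV _ ⟨v, hv, rfl⟩)
  have hsN : s ∈ normalizerIn S U' := ⟨hs, H85.mem_normalizer_of_pStab hU'Z hw hse⟩
  refine ⟨g ⟨s, hsN⟩, hgN _, fun x => ?_⟩
  obtain ⟨y, rfl⟩ := a₀.surjective x
  have hL : (a₀ * MulAut.congr e.symm k * v * (a₀ * MulAut.congr e.symm k)⁻¹) (a₀ y) =
      a₀ (e.symm ((k * MulAut.congr e v * k⁻¹) (e y))) := by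
    have h1 : (a₀ * MulAut.congr e.symm k * v * (a₀ * MulAut.congr e.symm k)⁻¹) =
        a₀ * (MulAut.congr e.symm k * v * (MulAut.congr e.symm k)⁻¹) * a₀⁻¹ := by group
    have h2 : MulAut.congr e.symm k * v * (MulAut.congr e.symm k)⁻¹ =
        MulAut.congr e.symm (k * MulAut.congr e v * k⁻¹) := by
      rw [map_mul, map_mul, map_inv]
      congr 2
      refine MulEquiv.ext fun z => ?_
      show v z = e.symm (e (v (e.symm (e z))))
      simp
    rw [h1, h2, MulAut.mul_apply, MulAut.mul_apply, MulAut.inv_apply_self]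
    rfl
  rw [hL]
  show φ (e.symm ((k * MulAut.congr e v * k⁻¹) (e y))) = g ⟨s, hsN⟩ * φ y * (g ⟨s, hsN⟩)⁻¹
  rw [hφdef]
  simp only [MonoidHom.comp_apply, MulEquiv.coe_toMonoidHom, MulEquiv.apply_symm_apply]
  rw [← map_inv, ← map_mul, ← map_mul]
  exact congrArg g (Subtype.ext (hse (e y)))

end H87
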