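import Mathlib
import Cfsg.Agent.H87.SolvableChain

/-!
Solvability of a system from a normal subsystem and the factor system.
-/
set_option autoImplicit false
set_option linter.style.haveILetI false

namespace H87

open Cfsg Cfsg.FusionSystem
open scoped commutatorElement

variable {Ω : Type*} [Group Ω] {S : Subgroup Ω} [Finite S] {p : ℕ} [Fact p.Prime]
  {F : FusionSystem S} {T : Subgroup Ω} {E : FusionSystem T}

omit [Finite S] [Fact p.Prime] in
/-- The translate of a strongly closed subgroup of an invariant subsystem is strongly closed. -/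
theorem stronglyClosed_translate (hinv : E.IsInvariantIn F) {X : Subgroup Ω}
    (hX : E.StronglyClosed X) {α : MulAut T} (hα : α ∈ F.autGroup T) :
    E.StronglyClosed ((X.subgroupOf T).map (T.subtype.comp α.toMonoidHom)) := by
  obtain ⟨-, -, hconj, -⟩ := hinv
  set Y := (X.subgroupOf T).map (T.subtype.comp α.toMonoidHom) with hY
  have hYT : Y ≤ T := by rintro _ ⟨z, -, rfl⟩; exact (α z).2
  refine ⟨hYT, fun P hP φ hφ x => ?_⟩
  have hPT : P ≤ T := hP.trans hYT
  obtain ⟨χ, hχ, he⟩ := hconj P hPT φ hφ α⁻¹ (inv_mem hα)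
  have hφx : φ x ∈ T := (E.le_of_mem hφ).2 x
  have hαx : ((α⁻¹ ⟨x, hPT x.2⟩ : T) : Ω) ∈
      (P.subgroupOf T).map (T.subtype.comp α⁻¹.toMonoidHom) := ⟨⟨x, hPT x.2⟩, x.2, rfl⟩
  have hle : (P.subgroupOf T).map (T.subtype.comp α⁻¹.toMonoidHom) ≤ X := by
    rintro _ ⟨z, hz, rfl⟩
    obtain ⟨w, hw, hwz⟩ := hP hz
    have h2 : α w = z := Subtype.ext hwz
    show ((α⁻¹ z : T) : Ω) ∈ X
    rw [← h2, MulAut.inv_apply_self]
    exact hw
  have h1 : χ ⟨_, hαx⟩ ∈ X := hX.2 _ hle χ hχ _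
  rw [he x hφx hαx] at h1
  refine ⟨α⁻¹ ⟨φ x, hφx⟩, h1, ?_⟩
  show ((α (α⁻¹ ⟨φ x, hφx⟩) : T) : Ω) = φ x
  rw [MulAut.apply_inv_self]

/-- A chain of `F` below `T` grows inside `T` if the subsystem over `T` is solvable. -/
theorem exists_step_within (hS : IsPGroup p S) (hE : E.IsWeaklyNormalIn F p)
    (hsol : E.IsSolvableSystem) {R : Subgroup Ω} (hR : F.StronglyClosed R) (hRT : R ≤ T)
    (hne : R ≠ T) : ∃ D, F.StronglyClosed D ∧ R < D ∧ D ≤ T ∧ ⁅D, D⁆ ≤ R := by
  obtain ⟨hEsat, -, hinv⟩ := hE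
  obtain ⟨hsub, hTsc, -, hfrat⟩ := id hinv
  haveI := H85.finite_of_le hTsc.1
  have hTp : IsPGroup p T := hS.to_le hTsc.1
  have hRE : E.StronglyClosed R := ⟨hRT, fun P hP φ hφ x => hR.2 P hP φ (hsub P hφ) x⟩
  obtain ⟨X₀, hX₀, hRX₀, hX₀c⟩ := exists_abelian_step hTp hEsat hsol hRE hne
  haveI := subgroupOf_normal_of_sc hRE
  obtain ⟨ER, hER⟩ := Cfsg.Agent.S5132.result p hTp E R hRE
  have hsm := Cfsg.Agent.S5134.result p hTp E hEsat R hRE _ ER hER
  set θ := QuotientGroup.mk' (R.subgroupOf T) with hθ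
  have hker : ∀ s : T, θ s = 1 ↔ (s : Ω) ∈ R := hER.2.1
  haveI : Finite (⊤ : Subgroup (T ⧸ R.subgroupOf T)) := Subtype.finite
  have hQp : IsPGroup p (⊤ : Subgroup (T ⧸ R.subgroupOf T)) :=
    (hTp.to_quotient _).of_equiv Subgroup.topEquiv.symm
  let 𝒳 : Set (Subgroup Ω) := {X | E.StronglyClosed X ∧ R ≤ X ∧ ⁅X, X⁆ ≤ R}
  set J := sSup 𝒳 with hJ
  have hJT : J ≤ T := sSup_le fun X hX => hX.1.1
  have hRJ : R ≤ J := hRX₀.le.trans (le_sSup ⟨hX₀, hRX₀.le, hX₀c⟩)
  set J' := imageAlong θ J with hJ'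
  -- the image of `J` is normal
  have hJn : ER.IsNormal J' := by
    have h1 := H86.sSup_mem_of_sup_closed (S := (⊤ : Subgroup (T ⧸ R.subgroupOf T)))
      (C := fun V => ER.IsNormal V ∧ V ≤ J') (fun V h => le_top)
      ⟨H86.isNormal_bot ER, bot_le⟩
      (fun V W h h' => ⟨H86.isNormal_sup ER h.1 h'.1, sup_le h.2 h'.2⟩)
    suffices e : sSup {V | ER.IsNormal V ∧ V ≤ J'} = J' by rw [e] at h1; exact h1.1
    refine le_antisymm h1.2 ?_
    intro y hy
    obtain ⟨s, hs, rfl⟩ := H86.mem_imageAlong.1 hy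
    have hle : J ≤ preimageAlong θ (sSup {V | ER.IsNormal V ∧ V ≤ J'}) := by
      refine sSup_le fun X hX x hx => H86.mem_preimageAlong.2 ⟨hX.1.1 hx, ?_⟩
      refine le_sSup (show imageAlong θ X ∈ {V | ER.IsNormal V ∧ V ≤ J'} from
        ⟨H85.isNormal_of_abelian hQp (H86.isSaturated_image hTp hEsat hsm)
          (stronglyClosed_imageAlong hTp hEsat hsm hRE hker hX.1)
          (isMulCommutative_imageAlong hker hX.2.2), imageAlong_mono (le_sSup hX)⟩) ?_
      exact H86.mem_imageAlong.2 ⟨⟨x, hX.1.1 hx⟩, hx, rfl⟩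
    exact (H86.mem_preimageAlong.1 (hle hs)).2
  -- the centre of that image
  set Z := (Subgroup.center ↥J').map J'.subtype with hZ
  set W := preimageAlong θ Z with hW
  have hWE : E.StronglyClosed W := by
    refine stronglyClosed_preimageAlong hsm.1 (H85.stronglyClosed_of_isNormal
      (H85.isNormal_of_characteristic hJn (Subgroup.map_subtype_le _) ?_))
    show (((Subgroup.center ↥J').map J'.subtype).comap J'.subtype).Characteristic
    rw [Subgroup.comap_map_eq_self_of_injective J'.subtype_injective]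
    infer_instance
  have hmemW : ∀ x : Ω, x ∈ W ↔ x ∈ J ∧ ∀ y ∈ J, ⁅x, y⁆ ∈ R := by
    intro x
    constructor
    · intro hx
      obtain ⟨hxT, hxZ⟩ := H86.mem_preimageAlong.1 hx
      obtain ⟨c, hc, hce⟩ := hxZ
      have hxJ : x ∈ J := by
        obtain ⟨s, hs, hsc⟩ := H86.mem_imageAlong.1 c.2
        have hsx : (s : Ω)⁻¹ * x ∈ R := by
          refine (hker (s⁻¹ * ⟨x, hxT⟩)).1 ?_
          rw [map_mul, map_inv, hsc, ← hce]
          exact inv_mul_cancel _
        simpa using J.mul_mem hs (hRJ hsx)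
      refine ⟨hxJ, fun y hy => ?_⟩
      have h2 := Subgroup.mem_center_iff.1 hc
        ⟨θ ⟨y, hJT hy⟩, H86.mem_imageAlong.2 ⟨⟨y, hJT hy⟩, hy, rfl⟩⟩
      have h3 : θ ⁅(⟨x, hxT⟩ : T), (⟨y, hJT hy⟩ : T)⁆ = 1 := by
        rw [map_commutatorElement, commutatorElement_eq_one_iff_mul_comm, ← hce]
        exact congrArg Subtype.val h2.symm
      exact (hker _).1 h3
    · rintro ⟨hxJ, hx⟩
      refine H86.mem_preimageAlong.2 ⟨hJT hxJ,
        ⟨θ ⟨x, hJT hxJ⟩, H86.mem_imageAlong.2 ⟨⟨x, hJT hxJ⟩, hxJ, rfl⟩⟩,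
        Subgroup.mem_center_iff.2 ?_, rfl⟩
      rintro ⟨_, s, hs, rfl⟩
      refine Subtype.ext ?_
      show θ s * θ ⟨x, hJT hxJ⟩ = θ ⟨x, hJT hxJ⟩ * θ s
      refine (commutatorElement_eq_one_iff_mul_comm.1 ?_).symm
      rw [← map_commutatorElement, hker]
      exact hx _ hs
  -- invariance under the automorphisms of `T` in `F`
  have hJinv : ∀ α ∈ F.autGroup T, ∀ x : T, (x : Ω) ∈ J → ((α x : T) : Ω) ∈ J := by
    intro α hα x hx
    have hle : J ≤ ((J.subgroupOf T).comap α.toMonoidHom).map T.subtype := by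
      refine sSup_le fun X hX z hz => ⟨⟨z, hX.1.1 hz⟩, ?_, rfl⟩
      show ((α ⟨z, hX.1.1 hz⟩ : T) : Ω) ∈ J
      refine le_sSup (show (X.subgroupOf T).map (T.subtype.comp α.toMonoidHom) ∈ 𝒳 from
        ⟨stronglyClosed_translate hinv hX.1 hα, ?_, ?_⟩)
        ⟨⟨z, hX.1.1 hz⟩, hz, rfl⟩
      · intro r hr
        refine ⟨α⁻¹ ⟨r, hRT hr⟩, hX.2.1 ?_, ?_⟩
        · exact H86.map_mem_of_stronglyClosed hR ((H85.mem_autGroup hTsc.1).1 (inv_mem hα))
            (x := (⟨r, hRT hr⟩ : T)) hr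
        · show ((α (α⁻¹ ⟨r, hRT hr⟩) : T) : Ω) = r
          rw [MulAut.apply_inv_self]
      · rw [Subgroup.commutator_le]
        rintro _ ⟨a, ha, rfl⟩ _ ⟨b, hb, rfl⟩
        rw [← map_commutatorElement]
        exact H86.map_mem_of_stronglyClosed hR ((H85.mem_autGroup hTsc.1).1 hα)
          (x := (⁅a, b⁆ : T)) (hX.2.2 (Subgroup.commutator_mem_commutator ha hb))
    obtain ⟨y, hy, hyx⟩ := hle hx
    exact (Subtype.ext hyx : y = x) ▸ hy
  have hWinv : ∀ α ∈ F.autGroup T, ∀ x : T, (x : Ω) ∈ W → ((α x : T) : Ω) ∈ W := by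
    intro α hα x hx
    obtain ⟨hxJ, hxc⟩ := (hmemW x).1 hx
    refine (hmemW _).2 ⟨hJinv α hα x hxJ, fun y hy => ?_⟩
    set z : T := α⁻¹ ⟨y, hJT hy⟩ with hz
    have h1 := hxc z (hJinv α⁻¹ (inv_mem hα) ⟨y, hJT hy⟩ hy)
    have h2 := H86.map_mem_of_stronglyClosed hR ((H85.mem_autGroup hTsc.1).1 hα)
      (x := (⁅x, z⁆ : T)) h1
    have h3 : α ⁅x, z⁆ = ⁅α x, (⟨y, hJT hy⟩ : T)⁆ := by
      rw [map_commutatorElement, hz, MulAut.apply_inv_self]
    have h4 : ((α ⁅x, z⁆ : T) : Ω) ∈ R := h2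
    rw [h3] at h4
    exact h4
  have hWT : W ≤ T := Subgroup.map_subtype_le _
  refine ⟨W, ⟨hWT.trans hTsc.1, fun P hP φ hφ x => ?_⟩, lt_of_le_of_ne ?_ ?_, hWT, ?_⟩
  · obtain ⟨α, hα, φ₀, hφ₀, he⟩ := hfrat P (hP.trans hWT) φ hφ
    have h0 : φ₀ x ∈ W := hWE.2 P hP φ₀ hφ₀ x
    rw [he x (hWT h0)]
    exact hWinv α hα ⟨_, hWT h0⟩ h0
  · exact fun r hr => H86.mem_preimageAlong.2 ⟨hRT hr,
      by rw [(hker ⟨r, hRT hr⟩).2 hr]; exact one_mem Z⟩
  · intro he
    haveI : Finite J' := Finite.of_injective _ J'.subtype_injective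
    haveI : Nontrivial ↥J' := by
      refine (Subgroup.nontrivial_iff_ne_bot J').2 (imageAlong_ne_bot hker hJT fun hle => ?_)
      exact absurd ((le_sSup (show X₀ ∈ 𝒳 from ⟨hX₀, hRX₀.le, hX₀c⟩)).trans hle)
        (not_le_of_gt hRX₀)
    haveI := ((hTp.to_quotient (R.subgroupOf T)).to_subgroup J').center_nontrivial
    refine (Subgroup.nontrivial_iff_ne_bot _).1 ‹_› ?_
    rw [eq_bot_iff]
    intro c hc
    obtain ⟨s, hs⟩ := QuotientGroup.mk'_surjective (R.subgroupOf T) (c : T ⧸ R.subgroupOf T)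
    refine Subgroup.mem_bot.2 (Subtype.ext ?_)
    rw [← hs]
    exact (hker s).2 (he ▸ H86.mem_preimageAlong.2 ⟨s.2, c, hc, hs.symm⟩)
  · rw [Subgroup.commutator_le]
    exact fun a ha b hb => ((hmemW a).1 ha).2 b ((hmemW b).1 hb).1

/-- A chain of the system up to `T`, from solvability of a normal subsystem over `T`. -/
theorem abChain_of_subsystem (hS : IsPGroup p S) (hE : E.IsWeaklyNormalIn F p)
    (hsol : E.IsSolvableSystem) : AbChain F T :=
  abChain_of_step fun _ hR hRT hne => exists_step_within hS hE hsol hR.stronglyClosed hRT hne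

/-- Solvability is inherited by normal subsystems and factor systems, and conversely. -/
theorem solvable_iff_sub_factor (hS : IsPGroup p S) (hF : F.IsSaturated p)
    (hE : E.IsWeaklyNormalIn F p) {Ω' : Type*} [Group Ω'] {S' : Subgroup Ω'} {θ : S →* Ω'}
    {D : FusionSystem S'} (hD : F.IsFactorSystem T θ D) :
    F.IsSolvableSystem ↔ (E.IsSolvableSystem ∧ D.IsSolvableSystem) := by
  obtain ⟨hEsat, -, hsub, hTsc, -⟩ := id hE
  haveI := H85.finite_of_le hTsc.1
  have hTp : IsPGroup p T := hS.to_le hTsc.1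
  have hsm := Cfsg.Agent.S5134.result p hS F hF T hTsc θ D hD
  have hker : ∀ s : S, θ s = 1 ↔ (s : Ω) ∈ T := hD.2.1
  have hrange : θ.range = S' := hD.2.2.1
  haveI : Finite S' := hrange ▸ Finite.of_surjective _ θ.rangeRestrict_surjective
  have hS' : IsPGroup p S' := hrange ▸ hS.of_surjective _ θ.rangeRestrict_surjective
  have hDsat := H86.isSaturated_image hS hF hsm
  constructor
  · intro h
    obtain ⟨n, C, h0, hn, hmono, hsc, hc⟩ := abChain_of_solvable hS hF h
    refine ⟨solvable_of_abChain hTp hEsat ⟨n, fun i => C i ⊓ T, by simp [h0], ?_,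
        fun i j hij => inf_le_inf_right _ (hmono hij), fun i => ⟨inf_le_right, fun P hP φ hφ x =>
          ⟨(hsc i).2 P (hP.trans inf_le_left) φ (hsub P hφ) x, (E.le_of_mem hφ).2 x⟩⟩,
        fun i => le_inf ((Subgroup.commutator_mono inf_le_left inf_le_left).trans (hc i))
          ((Subgroup.commutator_mono inf_le_right inf_le_right).trans
            (Subgroup.commutator_le_self T))⟩,
      solvable_of_abChain hS' hDsat ⟨n, fun i => imageAlong θ (C i), ?_, ?_,
        fun i j hij => imageAlong_mono (hmono hij),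
        fun i => stronglyClosed_imageAlong hS hF hsm hTsc hker (hsc i),
        fun i => commutator_imageAlong_le (hc i)⟩⟩
    · show C (Fin.last n) ⊓ T = T
      rw [hn]
      exact inf_eq_right.2 hTsc.1
    · show imageAlong θ (C 0) = ⊥
      rw [h0, imageAlong, Subgroup.bot_subgroupOf, Subgroup.map_bot]
    · show imageAlong θ (C (Fin.last n)) = S'
      rw [hn, imageAlong_self, hrange]
  · rintro ⟨hEs, hDs⟩
    obtain ⟨n, U, h0, hn, hmono, hsc, hc⟩ := abChain_of_solvable hS' hDsat hDs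
    refine solvable_of_abChain hS hF ?_
    have key : ∀ i, AbChain F (preimageAlong θ (U i)) := by
      intro i
      induction i using Fin.induction with
      | zero => rw [h0, preimageAlong_bot hTsc.1 hker]; exact abChain_of_subsystem hS hE hEs
      | succ i ih =>
        exact ih.snoc (stronglyClosed_preimageAlong hsm.1 (hsc _))
          (preimageAlong_mono (hmono (Fin.castSucc_le_succ i)))
          (commutator_preimageAlong_le (hc i))
    have h1 := key (Fin.last n)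
    rwa [hn, ← hrange, preimageAlong_range] at h1

end H87
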