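import Cfsg.Agent.H87.WedgeData
import Cfsg.Agent.H87.NormalMap
import Cfsg.Agent.H86.WeaklyNormalResidual

/-!
The meet of two normal subsystems (helper87): over the intersection of the bases there is a
subsystem normal in the system and in both subsystems.
-/

set_option autoImplicit false
set_option linter.unusedSectionVars false

open Cfsg Cfsg.FusionSystem

namespace H87

variable {Ω : Type*} [Group Ω] {S TM TN : Subgroup Ω} [Finite S] {p : ℕ} [Fact p.Prime]
  {F : FusionSystem S} {M : FusionSystem TM} {N : FusionSystem TN}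

/-- Splitting an element into powers of `p`-power order and of order prime to `p`. -/
theorem mem_of_prime_parts {A : Type*} [Group A] [Finite A] (H : Subgroup A) (b : A)
    (hp : ∀ m : ℕ, (∃ k : ℕ, (b ^ m) ^ p ^ k = 1) → b ^ m ∈ H)
    (hp' : ∀ m : ℕ, Nat.Coprime (orderOf (b ^ m)) p → b ^ m ∈ H) : b ∈ H := by
  obtain ⟨k, m, hm, hkm⟩ := Nat.exists_eq_pow_mul_and_not_dvd (orderOf_pos b).ne' p
    (Fact.out : p.Prime).ne_one
  have hcm : Nat.Coprime m p := ((Fact.out : p.Prime).coprime_iff_not_dvd.2 hm).symm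
  have h1 : b ^ p ^ k ∈ H := hp' _ (by
    rw [orderOf_pow_of_dvd (pow_ne_zero _ (Fact.out : p.Prime).ne_zero)
      (hkm ▸ dvd_mul_right _ _), hkm,
      Nat.mul_div_cancel_left _ (pow_pos (Fact.out : p.Prime).pos _)]
    exact hcm)
  have h2 : b ^ m ∈ H := hp m ⟨k, by rw [← pow_mul, mul_comm, ← hkm, pow_orderOf_eq_one]⟩
  have hcop : Nat.gcd (p ^ k) m = 1 :=
    Nat.Coprime.pow_left _ ((Fact.out : p.Prime).coprime_iff_not_dvd.2 hm)
  have hbez := Nat.gcd_eq_gcd_ab (p ^ k) m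
  rw [hcop] at hbez
  have : b = (b ^ p ^ k) ^ (Nat.gcdA (p ^ k) m) * (b ^ m) ^ (Nat.gcdB (p ^ k) m) := by
    rw [← zpow_natCast b (p ^ k), ← zpow_natCast b m, ← zpow_mul, ← zpow_mul, ← zpow_add, ← hbez]
    simp
  rw [this]
  exact mul_mem (zpow_mem h1 _) (zpow_mem h2 _)

/-- An element of `p`-power order of the meet is a transport of an automorphism induced by
`TM ⊓ TN`. -/
theorem wedgeB_pElement (hS : IsPGroup p S) (hM : M.IsWeaklyNormalIn F p) (hN : N.IsNormalIn F p)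
    {R : Subgroup Ω} (hR : R ≤ TM ⊓ TN) {b : MulAut R} (hb : b ∈ wedgeB p F M N R)
    (hp : ∃ k : ℕ, b ^ p ^ k = 1) :
    ∃ (R₁ : Subgroup Ω) (e : R₁ ≃* R) (c : MulAut R₁), R₁ ≤ TM ⊓ TN ∧ H85.IsFIso F e ∧
      c ∈ autInducedBy (TM ⊓ TN) R₁ ∧ b = MulAut.congr e c := by
  have hX := meet_stronglyClosed hM hN.1
  have hRS : R ≤ S := hR.trans hX.1
  obtain ⟨U, hRU, hUn⟩ := H85.exists_fullyNormalized F hRS
  obtain ⟨e, he⟩ := H85.isConj_iff.1 hRU
  have hU : U ≤ TM ⊓ TN := fun y hy => by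
    simpa using hX.2 R hR _ he (e.symm ⟨y, hy⟩)
  have hb' : MulAut.congr e b ∈ wedgeB p F M N U := wedgeB_congr hM hN.1 hR hU he hb
  have hUF : wedgeB p F M N U ≤ F.autGroup U :=
    (wedgeB_le hM hN.1 hU).trans (meetAut_le hM (hU.trans inf_le_left))
  obtain ⟨k, hk⟩ := hp
  have hpz : IsPGroup p (Subgroup.zpowers (MulAut.congr e b)) := by
    intro z
    obtain ⟨z, i, rfl⟩ := z
    refine ⟨k, Subtype.ext ?_⟩
    show ((MulAut.congr e b) ^ i) ^ p ^ k = 1
    rw [← zpow_natCast, ← zpow_mul, mul_comm, zpow_mul, zpow_natCast, ← map_pow, hk, map_one,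
      one_zpow]
  obtain ⟨β, hβ, hβb⟩ := H85.fullyAutomized_conj
    (H85.fullyAutomized_of_fullyNormalized hS hM.2.1 hUn) ((Subgroup.zpowers_le.2 hb').trans hUF)
    hpz
  have hβF : H85.IsFIso F β := (H85.mem_autGroup (hU.trans hX.1)).1 hβ
  have hc : β * MulAut.congr e b * β⁻¹ ∈ autInducedBy (TM ⊓ TN) U := by
    refine wedgeB_inf_induced hS hM hN hU hUn ⟨?_, hβb _ (Subgroup.mem_zpowers _)⟩
    have h1 := wedgeB_congr hM hN.1 hU hU hβF hb'
    rwa [H85.congr_eq_conj] at h1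
  refine ⟨U, β.symm.trans e.symm, _, hU, hβF.symm.trans he.symm, hc, MulEquiv.ext fun x => ?_⟩
  show b x = e.symm (β.symm (β ((MulAut.congr e b) (β.symm (β (e x))))))
  rw [MulEquiv.symm_apply_apply, MulEquiv.symm_apply_apply]
  show b x = e.symm (e (b (e.symm (e x))))
  rw [MulEquiv.symm_apply_apply, MulEquiv.symm_apply_apply]

/-- The groups of the meet restrict. -/
theorem wedgeB_res (hS : IsPGroup p S) (hM : M.IsWeaklyNormalIn F p) (hN : N.IsNormalIn F p)
    (P R : Subgroup Ω) (hPR : P ≤ R) (hR : R ≤ TM ⊓ TN) (b : MulAut R)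
    (hb : b ∈ wedgeB p F M N R) (hbP : ∀ x : R, (x : Ω) ∈ P → (b x : Ω) ∈ P) :
    ∃ a ∈ wedgeB p F M N P, ∀ x : P, (a x : Ω) = b (Subgroup.inclusion hPR x) := by
  have hP : P ≤ TM ⊓ TN := hPR.trans hR
  have hX := meet_stronglyClosed hM hN.1
  have : Finite P := H85.finite_of_le (hP.trans hX.1)
  have : Finite R := H85.finite_of_le (hR.trans hX.1)
  have : Finite (MulAut R) := Finite.of_injective (fun f => (f : R → R)) DFunLike.coe_injective
  let A : Subgroup (MulAut R) :=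
    { carrier := {c | c ∈ wedgeB p F M N R ∧
        ∃ a ∈ wedgeB p F M N P, ∀ x : P, (a x : Ω) = c (Subgroup.inclusion hPR x)}
      one_mem' := ⟨one_mem _, 1, one_mem _, fun _ => rfl⟩
      mul_mem' := by
        rintro c d ⟨hc, a, ha, hae⟩ ⟨hd, a', ha', hae'⟩
        refine ⟨mul_mem hc hd, a * a', mul_mem ha ha', fun x => ?_⟩
        rw [MulAut.mul_apply, MulAut.mul_apply, hae]
        exact congrArg (fun w => (c w : Ω)) (Subtype.ext (hae' x))
      inv_mem' := by
        rintro c ⟨hc, a, ha, hae⟩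
        refine ⟨inv_mem hc, a⁻¹, inv_mem ha, fun x => ?_⟩
        refine congrArg Subtype.val (?_ : Subgroup.inclusion hPR (a⁻¹ x) = _)
        refine c.injective ?_
        rw [MulAut.apply_inv_self]
        refine Subtype.ext ?_
        rw [← hae (a⁻¹ x), MulAut.apply_inv_self]
        rfl }
  suffices h : b ∈ A from h.2
  have hstab : ∀ (m : ℕ) (x : R), (x : Ω) ∈ P → ((b ^ m) x : Ω) ∈ P := by
    intro m
    induction m with
    | zero => exact fun x hx => hx
    | succ m ih =>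
      intro x hx
      rw [pow_succ', MulAut.mul_apply]
      exact hbP _ (ih x hx)
  have restr : ∀ (G : FusionSystem S), ∀ c : MulAut R, H85.IsFIso G c →
      (∀ x : R, (x : Ω) ∈ P → (c x : Ω) ∈ P) →
      ∃ a : MulAut P, ∀ x : P, (a x : Ω) = c (Subgroup.inclusion hPR x) := by
    intro G c hc hcP
    have h1 := H85.restrict hc hPR
    have hr := H86.range_eq_self_of_le G h1 (by
      rintro _ ⟨x, rfl⟩
      exact hcP _ x.2)
    exact ⟨H85.isoOf _ h1 hr, fun x => rfl⟩
  have hbF : ∀ m : ℕ, H85.IsFIso F (b ^ m : MulAut R) := fun m =>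
    (H85.mem_autGroup (hR.trans hX.1)).1
      (meetAut_le hM (hR.trans inf_le_left) (wedgeB_le hM hN.1 hR (pow_mem hb m)))
  refine mem_of_prime_parts (p := p) A b (fun m hm => ⟨pow_mem hb m, ?_⟩)
    (fun m hm => ⟨pow_mem hb m, ?_⟩)
  · obtain ⟨R₁, e, c, hR₁, he, hc, hce⟩ := wedgeB_pElement hS hM hN hR (pow_mem hb m) hm
    obtain ⟨a, ha⟩ := restr F _ (hbF m) (hstab m)
    refine ⟨a, ?_, ha⟩
    obtain ⟨t, ht, hte⟩ := H85.mem_autInducedBy.1 hc
    set ψ := R₁.subtype.comp e.symm.toMonoidHom with hψdef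
    let e₁ : P ≃* H85.img ψ P := H85.resIso ψ (F.injective_of_mem he.symm) hPR
    have he₁ : H85.IsFIso F e₁ := H85.isFIso_resIso he.symm hPR
    have hP₁ : H85.img ψ P ≤ R₁ := by
      intro y hy
      obtain ⟨x, -, rfl⟩ := H85.mem_img.1 hy
      exact (e.symm x).2
    have hval₁ : ∀ w : P, (e₁ w : Ω) = e.symm (Subgroup.inclusion hPR w) := fun w => rfl
    have hconj : ∀ w : P, t * (e₁ w : Ω) * t⁻¹ = (e₁ (a w) : Ω) := by
      intro w
      rw [hval₁, hval₁, ← hte]
      refine congrArg Subtype.val ?_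
      rw [MulEquiv.eq_symm_apply]
      refine Eq.trans ?_ (Subtype.ext (ha w)).symm
      rw [hce]
      rfl
    have : Finite (H85.img ψ P) := H85.finite_of_le he₁.right_le
    have htN : t ∈ Subgroup.normalizer (H85.img ψ P : Set Ω) := by
      refine H85.mem_normalizer_of_conj fun y hy => ?_
      obtain ⟨w, hw⟩ := e₁.surjective ⟨y, hy⟩
      have h3 := hconj w
      rw [hw] at h3
      exact h3 ▸ (e₁ _).2
    refine Subgroup.subset_closure (Or.inr ⟨H85.img ψ P, e₁.symm,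
      H85.conjAut (TM ⊓ TN) (H85.img ψ P) ⟨t, ht, htN⟩, hP₁.trans hR₁, he₁.symm,
      H85.conjAut_range (TM ⊓ TN) (H85.img ψ P) ▸ ⟨_, rfl⟩, MulEquiv.ext fun w => ?_⟩)
    show a w = e₁.symm (H85.conjAut _ _ ⟨t, ht, htN⟩ (e₁.symm.symm w))
    rw [MulEquiv.symm_symm, MulEquiv.eq_symm_apply]
    exact Subtype.ext (hconj w).symm
  · obtain ⟨a, ha⟩ := restr F _ (hbF m) (hstab m)
    have hI := wedgeB_le hM hN.1 hR (pow_mem hb m)
    have hpow : ∀ (i : ℕ) (x : P), ((a ^ i) x : Ω) =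
        ((b ^ m) ^ i) (Subgroup.inclusion hPR x) := by
      intro i
      induction i with
      | zero => intro x; rfl
      | succ i ih =>
        intro x
        rw [pow_succ', pow_succ', MulAut.mul_apply, MulAut.mul_apply, ha]
        exact congrArg (fun w => ((b ^ m) w : Ω)) (Subtype.ext (ih x))
    refine ⟨a, Subgroup.subset_closure (Or.inl ⟨⟨?_, ?_⟩, ?_⟩), ha⟩
    · exact (H85.mem_autGroup (hP.trans inf_le_left)).2 (H85.of_extend
        ((H85.mem_autGroup (hR.trans inf_le_left)).1 hI.1) hPR fun x => (ha x).symm)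
    · exact (H85.mem_autGroup (hP.trans inf_le_right)).2 (H85.of_extend
        ((H85.mem_autGroup (hR.trans inf_le_right)).1 hI.2) hPR fun x => (ha x).symm)
    · refine Nat.Coprime.coprime_dvd_left (orderOf_dvd_of_pow_eq_one ?_) hm
      refine MulEquiv.ext fun x => Subtype.ext ?_
      rw [hpow, pow_orderOf_eq_one]
      rfl

/-- An automorphism of order prime to `p` of one subsystem normalizing the automorphisms induced
by `X` extends to one of `N_X(P)` with the same properties. -/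
theorem exists_ext_coprime (hS : IsPGroup p S) {T : Subgroup Ω} {E : FusionSystem T}
    (hE : E.IsWeaklyNormalIn F p) {X P : Subgroup Ω} (hX : F.StronglyClosed X) (hXT : X ≤ T)
    (hPX : P ≤ X) (hPn : F.IsFullyNormalized P) {c : MulAut P} (hc : c ∈ E.autGroup P)
    (hcc : Nat.Coprime (orderOf c) p)
    (hcY : ∀ z ∈ autInducedBy X P, c * z * c⁻¹ ∈ autInducedBy X P) :
    ∃ d ∈ E.autGroup (normalizerIn X P), Nat.Coprime (orderOf d) p ∧
      ∀ x : P, (d (Subgroup.inclusion (H85.le_normalizerIn hPX) x) : Ω) = c x := by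
  have hTS : T ≤ S := hE.2.2.2.1.1
  have : Finite T := H85.finite_of_le hTS
  have hPT : P ≤ T := hPX.trans hXT
  have hTp : IsPGroup p T := hS.to_le hTS
  set V := normalizerIn X P with hV
  have hPV : P ≤ V := H85.le_normalizerIn hPX
  have hVX : V ≤ X := H85.normalizerIn_le P
  have hVT : V ≤ T := hVX.trans hXT
  have : Finite V := H85.finite_of_le (hVT.trans hTS)
  obtain ⟨ψ, hψ, hψe⟩ := H85.receptive_extend (H85.receptive_of_fullyNormalized hTp hE.1
    (H86.fullyNormalized_weaklyNormal hS hE hPT hPn)) ((H85.mem_autGroup hPT).1 hc)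
  have hVE : V ≤ extender T P (P.subtype.comp c.toMonoidHom) := by
    intro g hg
    obtain ⟨h, hh, hhe⟩ := H85.mem_autInducedBy.1
      (hcY (H85.conjAut X P ⟨g, hg⟩) (H85.conjAut_range X P ▸ ⟨_, rfl⟩))
    refine H85.mem_extender.2 ⟨hXT hg.1, hg.2, h, hXT hh, fun x hx => ?_⟩
    refine Eq.trans ?_ (hhe (c x))
    rw [MulAut.mul_apply, MulAut.mul_apply, MulAut.inv_apply_self]
    exact congrArg (fun w : P => ((c w : P) : Ω)) (Subtype.ext rfl)
  set χ := ψ.comp (Subgroup.inclusion hVE) with hχ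
  have hχE : χ ∈ E.Hom V := H85.restrict hψ hVE
  have hχe : ∀ x : P, χ (Subgroup.inclusion hPV x) = (c x : Ω) := fun x => hψe x x.2 _
  have hr : χ.range = V := H86.range_eq_self_of_le E hχE (by
    rintro _ ⟨y, rfl⟩
    have h1 := map_mem_normalizerX hX (hE.2.2.1 _ hχE) hVX hPV inf_le_right y
    rwa [img_eq_of_iso hPV c hχe] at h1)
  let d₀ : MulAut V := H85.isoOf χ hχE hr
  have hd₀ : d₀ ∈ E.autGroup V := (H85.mem_autGroup hVT).2 (H85.isFIso_isoOf χ hχE hr)
  have : Finite (MulAut V) := Finite.of_injective (fun f => (f : V → V)) DFunLike.coe_injective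
  obtain ⟨n, hn, hcn⟩ := H86.exists_exp_coprime d₀ c hcc
  refine ⟨d₀ ^ n, pow_mem hd₀ _, hn, fun x => ?_⟩
  have hpow : ∀ (i : ℕ) (x : P),
      ((d₀ ^ i) (Subgroup.inclusion hPV x) : Ω) = ((c ^ i) x : Ω) := by
    intro i
    induction i with
    | zero => intro x; rfl
    | succ i ih =>
      intro x
      rw [pow_succ', pow_succ', MulAut.mul_apply, MulAut.mul_apply,
        show (d₀ ^ i) (Subgroup.inclusion hPV x) = Subgroup.inclusion hPV ((c ^ i) x) from
          Subtype.ext (ih x)]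
      exact hχe _
  rw [hpow, hcn]

/-- The groups of the meet extend to normalizers. -/
theorem wedgeB_ext (hS : IsPGroup p S) (hM : M.IsWeaklyNormalIn F p) (hN : N.IsNormalIn F p)
    (P : Subgroup Ω) (hP : CenX F (TM ⊓ TN) P) (hPn : F.IsFullyNormalized P) (b : MulAut P)
    (hb : b ∈ wedgeB p F M N P)
    (hbY : ∀ c ∈ autInducedBy (TM ⊓ TN) P, b * c * b⁻¹ ∈ autInducedBy (TM ⊓ TN) P) :
    ∃ b' ∈ wedgeB p F M N (normalizerIn (TM ⊓ TN) P),
      ∀ x : P, (b' (Subgroup.inclusion (H85.le_normalizerIn hP.1) x) : Ω) = b x := by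
  classical
  have hX := meet_stronglyClosed hM hN.1
  have hPS : P ≤ S := hPn.1
  have : Finite P := H85.finite_of_le hPS
  have : Finite (MulAut P) := Finite.of_injective (fun f => (f : P → P)) DFunLike.coe_injective
  set V := normalizerIn (TM ⊓ TN) P with hV
  have hPV : P ≤ V := H85.le_normalizerIn hP.1
  have hVX : V ≤ TM ⊓ TN := H85.normalizerIn_le P
  have hVS : V ≤ S := hVX.trans hX.1
  have : Finite V := H85.finite_of_le hVS
  have : Finite (MulAut V) := Finite.of_injective (fun f => (f : V → V)) DFunLike.coe_injective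
  set Y := autInducedBy (TM ⊓ TN) P with hY
  let A : Subgroup (MulAut P) :=
    { carrier := {a | ∃ a' ∈ wedgeB p F M N V,
        ∀ x : P, (a' (Subgroup.inclusion hPV x) : Ω) = a x}
      one_mem' := ⟨1, one_mem _, fun _ => rfl⟩
      mul_mem' := by
        rintro c d ⟨c', hc', hce⟩ ⟨d', hd', hde⟩
        refine ⟨c' * d', mul_mem hc' hd', fun x => ?_⟩
        rw [MulAut.mul_apply, MulAut.mul_apply, ← hce]
        exact congrArg (fun w => (c' w : Ω)) (Subtype.ext (hde x))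
      inv_mem' := by
        rintro c ⟨c', hc', hce⟩
        refine ⟨c'⁻¹, inv_mem hc', fun x => ?_⟩
        refine congrArg Subtype.val (?_ : _ = Subgroup.inclusion hPV (c⁻¹ x))
        refine c'.injective ?_
        rw [MulAut.apply_inv_self]
        refine Subtype.ext ?_
        rw [hce, MulAut.apply_inv_self]
        rfl }
  suffices h : b ∈ A from h
  haveI : Finite (Y : Set (MulAut P)) := inferInstanceAs (Finite Y)
  have hbN : b ∈ Subgroup.normalizer (Y : Set (MulAut P)) := Subgroup.mem_normalizer_fintype hbY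
  refine mem_of_prime_parts (p := p) A b (fun m hm => ?_) fun m hm => ?_
  · -- the part of `p`-power order is induced by `X`
    obtain ⟨k, hk⟩ := hm
    have hz : IsPGroup p (Subgroup.zpowers (b ^ m)) := by
      intro z
      obtain ⟨z, i, rfl⟩ := z
      refine ⟨k, Subtype.ext ?_⟩
      show ((b ^ m) ^ i) ^ p ^ k = 1
      rw [← zpow_natCast, ← zpow_mul, mul_comm, zpow_mul, zpow_natCast, hk, one_zpow]
    have hYp : IsPGroup p Y := (H85.autInducedBy_isPGroup hS P).to_le (autInducedBy_mono hX.1 P)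
    have hsup : IsPGroup p (Subgroup.zpowers (b ^ m) ⊔ Y : Subgroup (MulAut P)) :=
      hz.to_sup_of_normal_right' hYp (Subgroup.zpowers_le.2 (pow_mem hbN m))
    have hsupB : Subgroup.zpowers (b ^ m) ⊔ Y ≤ wedgeB p F M N P :=
      sup_le (Subgroup.zpowers_le.2 (pow_mem hb m)) (induced_le_wedgeB hP.1 hPS)
    obtain ⟨β, hβ, hβc⟩ := H85.fullyAutomized_conj
      (H85.fullyAutomized_of_fullyNormalized hS hM.2.1 hPn)
      (hsupB.trans ((wedgeB_le hM hN.1 hP.1).trans (meetAut_le hM (hP.1.trans inf_le_left)))) hsup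
    have hle : (Subgroup.zpowers (b ^ m) ⊔ Y).map (MulAut.conj β).toMonoidHom ≤ Y := by
      rintro _ ⟨z, hz', rfl⟩
      refine wedgeB_inf_induced hS hM hN hP.1 hPn ⟨?_, hβc z hz'⟩
      have h1 := wedgeB_congr hM hN.1 hP.1 hP.1 ((H85.mem_autGroup hPS).1 hβ) (hsupB hz')
      rwa [H85.congr_eq_conj] at h1
    have heq : Y = Subgroup.zpowers (b ^ m) ⊔ Y := by
      refine Subgroup.eq_of_le_of_card_ge le_sup_right ?_
      rw [← Subgroup.card_map_of_injective (f := (MulAut.conj β).toMonoidHom)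
        (MulAut.conj β).injective]
      exact Subgroup.card_le_of_le hle
    have hbY' : b ^ m ∈ Y := heq.ge (Subgroup.mem_sup_left (Subgroup.mem_zpowers _))
    obtain ⟨t, ht, hte⟩ := H85.mem_autInducedBy.1 hbY'
    have htV : t ∈ V := ⟨ht, H85.mem_normalizer_of_induced hte⟩
    refine ⟨H85.conjAut (TM ⊓ TN) V ⟨t, ht, Subgroup.le_normalizer htV⟩,
      induced_le_wedgeB hVX hVS (H85.conjAut_range (TM ⊓ TN) V ▸ ⟨_, rfl⟩), fun x => ?_⟩
    exact (hte x).symm
  · have hI := wedgeB_le hM hN.1 hP.1 (pow_mem hb m)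
    have hnorm : ∀ z ∈ Y, b ^ m * z * (b ^ m)⁻¹ ∈ Y := fun z hz =>
      (Subgroup.mem_normalizer_iff.1 (pow_mem hbN m) z).1 hz
    obtain ⟨d₁, hd₁, -, hd₁e⟩ :=
      exists_ext_coprime hS hM hX inf_le_left hP.1 hPn hI.1 hm hnorm
    obtain ⟨d₂, hd₂, hd₂c, hd₂e⟩ :=
      exists_ext_coprime hS hN.1 hX inf_le_right hP.1 hPn hI.2 hm hnorm
    refine ⟨d₂, Subgroup.subset_closure (Or.inl ⟨⟨?_, hd₂⟩, hd₂c⟩), hd₂e⟩
    -- the quotient of the two extensions fixes `P`
    set G := F.autGroup V with hG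
    have hd₁G : d₁ ∈ G := (H85.mem_autGroup hVS).2
      (hM.2.2.1 _ ((H85.mem_autGroup (hVX.trans inf_le_left)).1 hd₁))
    have hd₂G : d₂ ∈ G := (H85.mem_autGroup hVS).2
      (hN.1.2.2.1 _ ((H85.mem_autGroup (hVX.trans inf_le_right)).1 hd₂))
    set e := d₁⁻¹ * d₂ with he
    have hfix : ∀ x : V, (x : Ω) ∈ P → e x = x := by
      intro x hx
      refine d₁.injective ?_
      rw [he, MulAut.mul_apply, MulAut.apply_inv_self]
      exact Subtype.ext ((hd₂e ⟨x, hx⟩).trans (hd₁e ⟨x, hx⟩).symm)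
    have htriv : e ∈ H86.trivMod P V := by
      intro x
      refine hP.2 P (H85.isConj_refl F hPS) (H85.mem_centralizerIn.2
        ⟨(TM ⊓ TN).mul_mem ((TM ⊓ TN).inv_mem (hVX x.2)) (hVX (e x).2), fun y hy => ?_⟩)
      have hy' : (x : Ω) * y * (x : Ω)⁻¹ ∈ P := H85.conj_mem_of_mem_normalizer x.2.2 hy
      have h1 := congrArg Subtype.val
        (hfix (x * ⟨y, hPV hy⟩ * x⁻¹) hy')
      rw [map_mul, map_mul, map_inv, hfix ⟨y, hPV hy⟩ hy] at h1
      simp only [Subgroup.coe_mul, Subgroup.coe_inv] at h1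
      calc y * ((x : Ω)⁻¹ * (e x : Ω)) = (x : Ω)⁻¹ * ((x : Ω) * y * (x : Ω)⁻¹) * e x := by group
        _ = (x : Ω)⁻¹ * ((e x : Ω) * y * (e x : Ω)⁻¹) * e x := by rw [h1]
        _ = (x : Ω)⁻¹ * (e x : Ω) * y := by group
    obtain ⟨j, hj⟩ := H86.pow_eq_one_trivMod (p := p) (hS.to_le hVS) htriv hfix
    have hMn : ((M.autGroup V).subgroupOf G).Normal := ⟨fun k hk g => by
      have h1 := H86.autGroup_transport hM (hVX.trans inf_le_left) (hVX.trans inf_le_left)
        ((H85.mem_autGroup hVS).1 g.2) (Subgroup.mem_subgroupOf.1 hk)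
      rw [H85.congr_eq_conj] at h1
      exact h1⟩
    let q := QuotientGroup.mk' ((M.autGroup V).subgroupOf G)
    have hq1 : q ⟨d₁, hd₁G⟩ = 1 := (QuotientGroup.eq_one_iff _).2 hd₁
    have hqe : q ⟨e, mul_mem (inv_mem hd₁G) hd₂G⟩ = q ⟨d₂, hd₂G⟩ := by
      rw [show (⟨e, mul_mem (inv_mem hd₁G) hd₂G⟩ : G) = ⟨d₁, hd₁G⟩⁻¹ * ⟨d₂, hd₂G⟩ from rfl,
        map_mul, map_inv, hq1, inv_one, one_mul]
    have ho1 : orderOf (q ⟨d₂, hd₂G⟩) ∣ orderOf d₂ := by
      refine (orderOf_map_dvd q _).trans ?_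
      rw [← Subgroup.orderOf_coe]
    have ho2 : orderOf (q ⟨d₂, hd₂G⟩) ∣ p ^ j := by
      rw [← hqe]
      refine (orderOf_map_dvd q _).trans ?_
      rw [← Subgroup.orderOf_coe]
      exact orderOf_dvd_of_pow_eq_one hj
    have h1 : q ⟨d₂, hd₂G⟩ = 1 := orderOf_eq_one_iff.1
      (Nat.eq_one_of_dvd_coprimes (Nat.Coprime.pow_right j hd₂c) ho1 ho2)
    exact (QuotientGroup.eq_one_iff (N := (M.autGroup V).subgroupOf G) _).1 h1

/-- The normal map of the meet. -/
def wedgeNMap (hS : IsPGroup p S) (hM : M.IsWeaklyNormalIn F p) (hN : N.IsNormalIn F p) :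
    NMap p F (TM ⊓ TN) where
  B := wedgeB p F M N
  hS := hS
  hF := hM.2.1
  hX := meet_stronglyClosed hM hN.1
  le_aut P hP := (wedgeB_le hM hN.1 hP.1).trans (meetAut_le hM (hP.1.trans inf_le_left))
  congr P Q e hP he b hb :=
    wedgeB_congr hM hN.1 hP.1 (hP.conj (meet_stronglyClosed hM hN.1) he).1 he hb
  induced P hP := induced_le_wedgeB hP.1 (hP.1.trans (meet_stronglyClosed hM hN.1).1)
  inf_induced P hP hPn := wedgeB_inf_induced hS hM hN hP.1 hPn
  res P R hPR _ hR b hb hbP := wedgeB_res hS hM hN P R hPR hR.1 b hb hbP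
  ext P hP hPn b hb hbY := wedgeB_ext hS hM hN P hP hPn b hb hbY

/-- There is a subsystem over the intersection of the bases of two normal subsystems that is normal
in the system and in both. -/
theorem exists_wedge (hS : IsPGroup p S) (hM : M.IsNormalIn F p) (hN : N.IsNormalIn F p) :
    ∃ D : FusionSystem (TM ⊓ TN), D.IsNormalIn F p ∧ D.IsNormalIn M p ∧ D.IsNormalIn N p := by
  have hTMS : TM ≤ S := hM.1.2.2.2.1.1
  have hTNS : TN ≤ S := hN.1.2.2.2.1.1
  have : Finite TM := H85.finite_of_le hTMS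
  have : Finite TN := H85.finite_of_le hTNS
  let W := wedgeNMap hS hM.1 hN
  have h1 : W.sys.IsWeaklyNormalIn F p := W.sys_weaklyNormal
  have h2 : W.sys.IsWeaklyNormalIn M p := W.sys_weaklyNormal_sub M hM.1 inf_le_left
    fun P hP => (wedgeB_le hM.1 hN.1 hP.1).trans inf_le_left
  have h3 : W.sys.IsWeaklyNormalIn N p := W.sys_weaklyNormal_sub N hN.1 inf_le_right
    fun P hP => (wedgeB_le hM.1 hN.1 hP.1).trans inf_le_right
  exact ⟨H86.minSysCl p W.sys, H86.residual_normal hS h1,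
    H86.residual_normal (hS.to_le hTMS) h2, H86.residual_normal (hS.to_le hTNS) h3⟩

end H87
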