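import Cfsg.Agent.H87.WedgeKey
import Cfsg.Agent.H87.ComponentCentralize
import Cfsg.Agent.H85.Focal
import Cfsg.Agent.H86.Sylow

/-!
The groups of automorphisms of the meet of two normal subsystems (helper87), and the proof that at
a fully normalized subgroup they induce no more than `TM ⊓ TN` does.
-/

set_option autoImplicit false
set_option linter.unusedSectionVars false

open Cfsg Cfsg.FusionSystem

namespace H87

variable {Ω : Type*} [Group Ω] {S TM TN : Subgroup Ω}

/-- The automorphisms common to `M` and `N`. -/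
def meetAut (M : FusionSystem TM) (N : FusionSystem TN) (P : Subgroup Ω) : Subgroup (MulAut P) :=
  M.autGroup P ⊓ N.autGroup P

/-- The automorphisms of the meet: generated by the common ones of order prime to `p` and by the
transports of those induced by `TM ⊓ TN`. -/
def wedgeB (p : ℕ) (F : FusionSystem S) (M : FusionSystem TM) (N : FusionSystem TN)
    (P : Subgroup Ω) : Subgroup (MulAut P) :=
  Subgroup.closure ({a | a ∈ meetAut M N P ∧ Nat.Coprime (orderOf a) p} ∪
    {a | ∃ (P₁ : Subgroup Ω) (e : P₁ ≃* P) (c : MulAut P₁), P₁ ≤ TM ⊓ TN ∧ H85.IsFIso F e ∧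
      c ∈ autInducedBy (TM ⊓ TN) P₁ ∧ a = MulAut.congr e c})

theorem autInducedBy_mono {K L : Subgroup Ω} (h : K ≤ L) (P : Subgroup Ω) :
    autInducedBy K P ≤ autInducedBy L P := fun _ ha => by
  obtain ⟨g, hg, he⟩ := H85.mem_autInducedBy.1 ha
  exact H85.mem_autInducedBy.2 ⟨g, h hg, he⟩

variable [Finite S] {p : ℕ} [Fact p.Prime] {F : FusionSystem S} {M : FusionSystem TM}
  {N : FusionSystem TN}

theorem meet_stronglyClosed (hM : M.IsWeaklyNormalIn F p) (hN : N.IsWeaklyNormalIn F p) :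
    F.StronglyClosed (TM ⊓ TN) :=
  ⟨inf_le_left.trans hM.2.2.2.1.1, fun R hR φ hφ x =>
    ⟨hM.2.2.2.1.2 R (hR.trans inf_le_left) φ hφ x, hN.2.2.2.1.2 R (hR.trans inf_le_right) φ hφ x⟩⟩

theorem meetAut_le (hM : M.IsWeaklyNormalIn F p) {P : Subgroup Ω} (hP : P ≤ TM) :
    meetAut M N P ≤ F.autGroup P := fun a ha =>
  (H85.mem_autGroup (hP.trans hM.2.2.2.1.1)).2 (hM.2.2.1 _ ((H85.mem_autGroup hP).1 ha.1))

theorem meetAut_congr (hM : M.IsWeaklyNormalIn F p) (hN : N.IsWeaklyNormalIn F p)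
    {P Q : Subgroup Ω} (hP : P ≤ TM ⊓ TN) (hQ : Q ≤ TM ⊓ TN) {e : P ≃* Q} (he : H85.IsFIso F e)
    {a : MulAut P} (ha : a ∈ meetAut M N P) : MulAut.congr e a ∈ meetAut M N Q :=
  ⟨H86.autGroup_transport hM (hP.trans inf_le_left) (hQ.trans inf_le_left) he ha.1,
    H86.autGroup_transport hN (hP.trans inf_le_right) (hQ.trans inf_le_right) he ha.2⟩

theorem induced_le_meetAut {P : Subgroup Ω} (hP : P ≤ TM ⊓ TN) :
    autInducedBy (TM ⊓ TN) P ≤ meetAut M N P :=
  le_inf ((autInducedBy_mono inf_le_left P).trans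
      (H85.autInducedBy_le_autGroup M (hP.trans inf_le_left)))
    ((autInducedBy_mono inf_le_right P).trans
      (H85.autInducedBy_le_autGroup N (hP.trans inf_le_right)))

theorem wedgeB_le (hM : M.IsWeaklyNormalIn F p) (hN : N.IsWeaklyNormalIn F p)
    {P : Subgroup Ω} (hP : P ≤ TM ⊓ TN) : wedgeB p F M N P ≤ meetAut M N P := by
  refine (Subgroup.closure_le _).2 ?_
  rintro a (⟨ha, -⟩ | ⟨P₁, e, c, hP₁, he, hc, rfl⟩)
  · exact ha
  · exact meetAut_congr hM hN hP₁ hP he (induced_le_meetAut hP₁ hc)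

theorem wedgeB_congr (hM : M.IsWeaklyNormalIn F p) (hN : N.IsWeaklyNormalIn F p)
    {P Q : Subgroup Ω} (hP : P ≤ TM ⊓ TN) (hQ : Q ≤ TM ⊓ TN) {e : P ≃* Q} (he : H85.IsFIso F e)
    {b : MulAut P} (hb : b ∈ wedgeB p F M N P) : MulAut.congr e b ∈ wedgeB p F M N Q := by
  suffices h : (wedgeB p F M N P).map (MulAut.congr e).toMonoidHom ≤ wedgeB p F M N Q from
    h ⟨b, hb, rfl⟩
  rw [wedgeB, MonoidHom.map_closure, Subgroup.closure_le]
  rintro _ ⟨a, (⟨ha, hc⟩ | ⟨P₁, e₁, c, hP₁, he₁, hc, rfl⟩), rfl⟩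
  · refine Subgroup.subset_closure (Or.inl ⟨meetAut_congr hM hN hP hQ he ha, ?_⟩)
    show Nat.Coprime (orderOf (MulAut.congr e a)) p
    rwa [MulEquiv.orderOf_eq]
  · exact Subgroup.subset_closure (Or.inr ⟨P₁, e₁.trans e, c, hP₁, he₁.trans he, hc,
      MulEquiv.ext fun _ => rfl⟩)

theorem induced_le_wedgeB {P : Subgroup Ω} (hP : P ≤ TM ⊓ TN) (hPS : P ≤ S) :
    autInducedBy (TM ⊓ TN) P ≤ wedgeB p F M N P := fun a ha =>
  Subgroup.subset_closure (Or.inr ⟨P, MulEquiv.refl P, a, hP, H85.IsFIso.refl F hPS, ha,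
    MulEquiv.ext fun _ => rfl⟩)

/-- At a fully normalized subgroup the common automorphisms induced by `S` are induced by the base
of each subsystem. -/
theorem inf_induced_le (hS : IsPGroup p S) (hM : M.IsWeaklyNormalIn F p) {P : Subgroup Ω}
    (hP : P ≤ TM) (hPn : F.IsFullyNormalized P) :
    M.autGroup P ⊓ autInducedBy S P ≤ autInducedBy TM P := by
  have hTS : TM ≤ S := hM.2.2.2.1.1
  have : Finite TM := H85.finite_of_le hTS
  have hTp : IsPGroup p TM := hS.to_le hTS
  have h := ((H85.isFullyAutomized_iff hTp).1 (H85.fullyAutomized_of_fullyNormalized hTp hM.1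
    (H86.fullyNormalized_weaklyNormal hS hM hP hPn))).2 (M.autGroup P ⊓ autInducedBy S P)
    inf_le_left ((H85.autInducedBy_isPGroup hS P).to_le inf_le_right)
    (le_inf (H85.autInducedBy_le_autGroup M hP) (autInducedBy_mono hTS P))
  exact h.le

set_option maxHeartbeats 1000000 in
/-- At a fully normalized subgroup the automorphisms of the meet induced by `S` are induced by
`TM ⊓ TN`. -/
theorem wedgeB_inf_induced (hS : IsPGroup p S) (hM : M.IsWeaklyNormalIn F p)
    (hN : N.IsNormalIn F p) {P : Subgroup Ω} (hP : P ≤ TM ⊓ TN) (hPn : F.IsFullyNormalized P) :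
    wedgeB p F M N P ⊓ autInducedBy S P ≤ autInducedBy (TM ⊓ TN) P := by
  classical
  have hF : F.IsSaturated p := hM.2.1
  have hTM : F.StronglyClosed TM := hM.2.2.2.1
  have hTN : F.StronglyClosed TN := hN.1.2.2.2.1
  have hX := meet_stronglyClosed hM hN.1
  have hPS : P ≤ S := hPn.1
  have : Finite P := H85.finite_of_le hPS
  have : Finite (MulAut P) := Finite.of_injective (fun f => (f : P → P)) DFunLike.coe_injective
  set G := F.autGroup P with hG
  set A := meetAut M N P with hA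
  set PA := A ⊓ autInducedBy S P with hPA
  set Y := autInducedBy (TM ⊓ TN) P with hY
  have hAG : A ≤ G := meetAut_le hM (hP.trans inf_le_left)
  have hAn : ∀ a ∈ G, ∀ z ∈ A, a * z * a⁻¹ ∈ A := by
    intro a ha z hz
    have h1 := meetAut_congr hM hN.1 hP hP ((H85.mem_autGroup hPS).1 ha) hz
    rwa [H85.congr_eq_conj] at h1
  have hPAM : PA ≤ autInducedBy TM P :=
    (inf_le_inf_right _ inf_le_left).trans (inf_induced_le hS hM (hP.trans inf_le_left) hPn)
  have hPAN : PA ≤ autInducedBy TN P :=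
    (inf_le_inf_right _ inf_le_right).trans (inf_induced_le hS hN.1 (hP.trans inf_le_right) hPn)
  have hYPA : Y ≤ PA := le_inf (induced_le_meetAut hP)
    (autInducedBy_mono (inf_le_left.trans hTM.1) P)
  obtain ⟨-, R₀, hR₀⟩ := H85.fullyAutomized_of_fullyNormalized hS hF hPn
  obtain ⟨RA, hRA⟩ := H86.exists_sylow_of_normal_le hAG
    (⟨fun k hk a => hAn a a.2 k hk⟩ : (A.subgroupOf G).Normal) R₀ hR₀
  -- normalizing `PA` keeps `Y`
  have hYnorm : ∀ γ ∈ G, (∀ z ∈ PA, γ * z * γ⁻¹ ∈ PA) → ∀ z ∈ Y, γ * z * γ⁻¹ ∈ Y := by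
    intro γ hγ hγPA z hz
    obtain ⟨t, ht, hte⟩ := H85.mem_autInducedBy.1 hz
    have htN : t ∈ normalizerIn S P := ⟨hX.1 ht, H85.mem_normalizer_of_induced hte⟩
    obtain ⟨ψ, hψ, hψe⟩ := H85.receptive_extend (H85.receptive_of_fullyNormalized hS hF hPn)
      ((H85.mem_autGroup hPS).1 hγ)
    have htE : ∀ s ∈ normalizerIn (TM ⊓ TN) P,
        s ∈ extender S P (P.subtype.comp γ.toMonoidHom) := by
      intro s hs
      have hsY : H85.conjAut S P ⟨s, hX.1 hs.1, hs.2⟩ ∈ Y :=
        H85.mem_autInducedBy.2 ⟨s, hs.1, fun _ => rfl⟩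
      obtain ⟨h, hh, hhe⟩ := H85.mem_autInducedBy.1 (hγPA _ (hYPA hsY)).2
      refine H85.mem_extender.2 ⟨hX.1 hs.1, hs.2, h, hh, fun x hx => ?_⟩
      refine Eq.trans ?_ (hhe (γ x))
      rw [MulAut.mul_apply, MulAut.mul_apply, MulAut.inv_apply_self]
      exact congrArg (fun w : P => ((γ w : P) : Ω)) (Subtype.ext rfl)
    have hVF := H85.restrict hψ (show normalizerIn (TM ⊓ TN) P ≤ _ from fun s hs => htE s hs)
    have htV : t ∈ normalizerIn (TM ⊓ TN) P := ⟨ht, htN.2⟩
    refine H85.mem_autInducedBy.2 ⟨_, hX.2 _ inf_le_left _ hVF ⟨t, htV⟩, fun x => ?_⟩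
    obtain ⟨w, rfl⟩ := γ.surjective x
    have hPE := H85.le_extender (φ := P.subtype.comp γ.toMonoidHom) hPS fun x => hPS (γ x).2
    have hw : t * (w : Ω) * t⁻¹ ∈ P := H85.conj_mem_of_mem_normalizer htN.2 w.2
    have h2 := H85.extend_conj (g := ⟨t, htE t htV⟩) hPE (fun x => hψe x x.2 _) hw
    rw [MulAut.mul_apply, MulAut.mul_apply, MulAut.inv_apply_self]
    refine Eq.trans ?_ h2
    exact congrArg (fun v : P => ((γ v : P) : Ω)) (Subtype.ext (hte w))
  -- `R = O^p(A)` and `K = R Y` are normal in `G`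
  set R := (Cfsg.pResidual p A).map A.subtype with hR
  have hRn : ∀ a ∈ G, ∀ z ∈ R, a * z * a⁻¹ ∈ R := by
    intro a ha z hz
    suffices h : R.map (MulAut.conj a).toMonoidHom ≤ R from h ⟨z, hz, rfl⟩
    rw [hR, Cfsg.pResidual, MonoidHom.map_closure, MonoidHom.map_closure, Subgroup.closure_le]
    rintro _ ⟨_, ⟨g, hg, rfl⟩, rfl⟩
    refine Subgroup.subset_closure ⟨⟨_, hAn a ha g g.2⟩, ?_, rfl⟩
    show Nat.Coprime (orderOf (⟨a * (g : MulAut P) * a⁻¹, hAn a ha g g.2⟩ : A)) p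
    rw [← Subgroup.orderOf_coe]
    show Nat.Coprime (orderOf (MulAut.conj a (g : MulAut P))) p
    rw [MulEquiv.orderOf_eq, Subgroup.orderOf_coe]
    exact hg
  have hRA' : R ≤ A := Subgroup.map_subtype_le _
  have hA_le : A ≤ R ⊔ PA := by
    intro a ha
    have h1 : (⟨a, ha⟩ : A) ∈ Cfsg.pResidual p A ⊔ (RA : Subgroup A) := by
      rw [H86.pResidual_sup_sylow RA]
      trivial
    have h2 := Subgroup.mem_map_of_mem A.subtype h1
    rw [Subgroup.map_sup, hRA, Subgroup.subgroupOf_map_subtype, inf_comm] at h2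
    exact h2
  set K := R ⊔ Y with hK
  have hKA : K ≤ A := sup_le hRA' (hYPA.trans inf_le_left)
  have hKfwd : ∀ g ∈ G, (∀ z ∈ Y, g * z * g⁻¹ ∈ Y) → g ∈ Subgroup.normalizer (K : Set (MulAut P)) := by
    intro g hg hgY
    haveI : Finite (K : Set (MulAut P)) := inferInstanceAs (Finite K)
    refine Subgroup.mem_normalizer_fintype fun z hz => ?_
    suffices h : K.map (MulAut.conj g).toMonoidHom ≤ K from h ⟨z, hz, rfl⟩
    rw [hK, Subgroup.map_sup]
    refine sup_le_sup ?_ ?_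
    · rintro _ ⟨w, hw, rfl⟩
      exact hRn g hg w hw
    · rintro _ ⟨w, hw, rfl⟩
      exact hgY w hw
  have hPAn : PA ≤ Subgroup.normalizer (K : Set (MulAut P)) := fun g hg =>
    hKfwd g (hAG hg.1) (hYnorm g (hAG hg.1) fun z hz => mul_mem (mul_mem hg hz) (inv_mem hg))
  have hAnK : A ≤ Subgroup.normalizer (K : Set (MulAut P)) :=
    hA_le.trans (sup_le ((le_sup_left : R ≤ K).trans Subgroup.le_normalizer) hPAn)
  have hGnK : G ≤ Subgroup.normalizer (K : Set (MulAut P)) := by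
    intro a ha
    haveI : (A.subgroupOf G).Normal := ⟨fun k hk b => hAn b b.2 k hk⟩
    obtain ⟨R', hR'⟩ := H86.exists_sylow_inf_normal R₀ (A.subgroupOf G)
    have htop : Subgroup.normalizer (((R' : Subgroup (A.subgroupOf G)).map
        (A.subgroupOf G).subtype : Subgroup _) : Set _) ⊔ A.subgroupOf G = ⊤ :=
      R'.normalizer_sup_eq_top
    have hmem : (⟨a, ha⟩ : G) ∈ A.subgroupOf G ⊔
        Subgroup.normalizer (((R' : Subgroup (A.subgroupOf G)).map
          (A.subgroupOf G).subtype : Subgroup _) : Set _) := by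
      rw [sup_comm, htop]
      trivial
    rw [← SetLike.mem_coe, Subgroup.normal_mul] at hmem
    obtain ⟨k, hk, γ, hγ, hkγ⟩ := hmem
    rw [show a = (k : MulAut P) * γ from (congrArg Subtype.val hkγ).symm]
    refine mul_mem (hAnK hk) (hKfwd γ γ.2 (hYnorm γ γ.2 fun z hz => ?_))
    have h1 : (⟨z, hAG hz.1⟩ : G) ∈ (R' : Subgroup (A.subgroupOf G)).map
        (A.subgroupOf G).subtype := by
      refine ⟨⟨⟨z, hAG hz.1⟩, hz.1⟩, ?_, rfl⟩
      rw [hR', hR₀]
      exact hz.2
    obtain ⟨w, hw, hwe⟩ := (Subgroup.mem_normalizer_iff.mp hγ _).mp h1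
    rw [hR', hR₀] at hw
    have he : ((w : G) : MulAut P) = (γ : MulAut P) * z * (γ : MulAut P)⁻¹ := congrArg Subtype.val hwe
    exact he ▸ ⟨w.2, hw⟩
  -- the group `B` lies in `K`
  have hBK : wedgeB p F M N P ≤ K := by
    refine (Subgroup.closure_le _).2 ?_
    rintro a (⟨ha, hac⟩ | ⟨P₁, e, c, hP₁, he, hc, rfl⟩)
    · refine Subgroup.mem_sup_left ⟨⟨a, ha⟩, Subgroup.subset_closure ?_, rfl⟩
      show Nat.Coprime (orderOf (⟨a, ha⟩ : A)) p
      rwa [← Subgroup.orderOf_coe]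
    · obtain ⟨m, hm, hmv, himg⟩ := H85.exists_map_to_fullyNormalized hS hF hPn he.isConj
      have hP₁S : P₁ ≤ S := hP₁.trans hX.1
      have hP₁N : P₁ ≤ normalizerIn S P₁ := H85.le_normalizerIn hP₁S
      let e' : P₁ ≃* P := (H85.resIso m (F.injective_of_mem hm) hP₁N).trans
        (MulEquiv.subgroupCongr himg)
      have he' : H85.IsFIso F e' := H85.hom_congr (H85.restrict hm hP₁N) fun _ => rfl
      obtain ⟨t, ht, hte⟩ := H85.mem_autInducedBy.1 hc
      have htN : t ∈ normalizerIn S P₁ := ⟨hX.1 ht, H85.mem_normalizer_of_induced hte⟩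
      have hmt : m ⟨t, htN⟩ ∈ TM ⊓ TN := hX.2 _ inf_le_left _
        (H85.restrict hm (inf_le_inf_right _ hX.1 :
          normalizerIn (TM ⊓ TN) P₁ ≤ normalizerIn S P₁)) ⟨t, ht, htN.2⟩
      have hc' : MulAut.congr e' c ∈ Y := by
        refine H85.mem_autInducedBy.2 ⟨_, hmt, fun x => ?_⟩
        obtain ⟨w, rfl⟩ := e'.surjective x
        show (e' (c (e'.symm (e' w))) : Ω) = _
        rw [MulEquiv.symm_apply_apply]
        have hw : t * (w : Ω) * t⁻¹ ∈ P₁ := H85.conj_mem_of_mem_normalizer htN.2 w.2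
        refine Eq.trans ?_ (H85.extend_conj (e := e') (g := ⟨t, htN⟩) hP₁N (fun _ => rfl) hw)
        exact congrArg (fun v : P₁ => (e' v : Ω)) (Subtype.ext (hte w))
      set γ : MulAut P := e'.symm.trans e with hγdef
      have hγ : γ ∈ G := (H85.mem_autGroup hPS).2 (he'.symm.trans he)
      have h1 := (Subgroup.mem_normalizer_iff.1 (hGnK hγ) _).1 (Subgroup.mem_sup_right hc' :
        MulAut.congr e' c ∈ K)
      refine (?_ : MulAut.congr e c = γ * MulAut.congr e' c * γ⁻¹) ▸ h1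
      rw [← H85.congr_eq_conj]
      refine MulEquiv.ext fun x => ?_
      show e (c (e.symm x)) = e (e'.symm (e' (c (e'.symm (e' (e.symm x))))))
      rw [MulEquiv.symm_apply_apply, MulEquiv.symm_apply_apply]
  -- `O^p(A) ∩ PA ≤ Y`
  have hhyp : R ⊓ PA ≤ Y := by
    have : Finite (RA : Subgroup A) := inferInstance
    have hle : (groupFusionSystem (RA : Subgroup A)).hyperfocalSubgroup p ≤ Y.subgroupOf A := by
      refine hyperfocal_le_of_trivial fun Q hQ α hα hαc x => ?_
      obtain ⟨-, -, g, hg⟩ := (H85.mem_autGroup hQ).1 hα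
      obtain ⟨n, hn, hαn⟩ := H86.exists_exp_coprime g α hαc
      have hpow : ∀ (k : ℕ) (y : Q), ((α ^ k) y : A) = g ^ k * (y : A) * (g ^ k)⁻¹ := by
        intro k
        induction k with
        | zero => intro y; simp
        | succ k ih =>
          intro y
          rw [pow_succ', MulAut.mul_apply]
          refine (hg _).trans ?_
          rw [ih, pow_succ']
          group
      have hαg : ∀ y : Q, (α y : A) = g ^ n * (y : A) * (g ^ n)⁻¹ := fun y => by
        rw [← hpow, hαn]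
      have hQP : Q.map A.subtype ≤ PA := by
        rintro _ ⟨q, hq, rfl⟩
        have h1 := hQ hq
        rw [hRA] at h1
        exact ⟨q.2, h1⟩
      have hInn : Cfsg.Inn P ≤ PA := (H85.inn_le_autInducedBy hP).trans hYPA
      set β : MulAut P := ((g ^ n : A) : MulAut P) with hβ
      have hβQ : ∀ q ∈ Q.map A.subtype ⊔ Cfsg.Inn P,
          β * q * β⁻¹ ∈ Q.map A.subtype ⊔ Cfsg.Inn P := by
        intro q hq
        suffices h : (Q.map A.subtype ⊔ Cfsg.Inn P).map (MulAut.conj β).toMonoidHom ≤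
            Q.map A.subtype ⊔ Cfsg.Inn P from h ⟨q, hq, rfl⟩
        rw [Subgroup.map_sup]
        refine sup_le_sup ?_ ?_
        · rintro _ ⟨_, ⟨y, hy, rfl⟩, rfl⟩
          refine ⟨_, (α ⟨y, hy⟩).2, ?_⟩
          rw [hαg]
          rfl
        · rintro _ ⟨y, hy, rfl⟩
          exact (inferInstance : (Cfsg.Inn P).Normal).conj_mem y hy β
      have h1 := wedge_commutator hS hF hTM hN (hP.trans inf_le_right) hPn
        (show β ∈ N.autGroup P from (g ^ n).2.2)
        (show Nat.Coprime (orderOf β) p by rwa [hβ, Subgroup.orderOf_coe]) le_sup_right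
        ((sup_le hQP hInn).trans hPAM) ((sup_le hQP hInn).trans hPAN) hβQ
        (x := ((x : A) : MulAut P)) (Subgroup.mem_sup_left ⟨x, x.2, rfl⟩)
      show (((x : A)⁻¹ * (α x : A) : A) : MulAut P) ∈ Y
      rw [hαg]
      simpa [hβ, mul_assoc] using h1
    intro z hz
    have hzA : z ∈ A := hz.2.1
    obtain ⟨w, hw, hwz⟩ := hz.1
    have hwR : w ∈ (RA : Subgroup A) := by
      rw [hRA]
      show (w : MulAut P) ∈ autInducedBy S P
      rw [show (w : MulAut P) = z from hwz]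
      exact hz.2.2
    have h1 := (H85.hyperfocal_groupFusionSystem RA).ge ⟨hwR, hw⟩
    have h2 : (w : MulAut P) ∈ Y := hle h1
    rwa [show (w : MulAut P) = z from hwz] at h2
  intro z hz
  have hzK := hBK hz.1
  have hYR : Y ≤ Subgroup.normalizer (R : Set (MulAut P)) := fun g hg => by
    haveI : Finite (R : Set (MulAut P)) := inferInstanceAs (Finite R)
    exact Subgroup.mem_normalizer_fintype fun w hw => hRn g (hAG (hYPA hg).1) w hw
  rw [hK, ← SetLike.mem_coe, Subgroup.coe_mul_of_right_le_normalizer_left _ _ hYR] at hzK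
  obtain ⟨r, hr, y, hy, rfl⟩ := hzK
  have hry : r ∈ PA := by
    have h1 := PA.mul_mem (show r * y ∈ PA from ⟨hKA (mul_mem (Subgroup.mem_sup_left hr)
      (Subgroup.mem_sup_right hy)), hz.2⟩) (PA.inv_mem (hYPA hy))
    rwa [mul_inv_cancel_right] at h1
  exact Y.mul_mem (hhyp ⟨hr, hry⟩) hy

end H87
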