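import Cfsg.Agent.H87.Wedge
import Cfsg.Agent.H10.Basic
import Cfsg.Agent.H86.SubsystemEq

/-!
Among the subsystems over the intersection of the bases that are normal in the system and in two
given normal subsystems there is a greatest one (helper87).
-/

set_option autoImplicit false
set_option linter.unusedSectionVars false

open Cfsg Cfsg.FusionSystem

namespace H87

variable {Ω : Type*} [Group Ω] {S T X : Subgroup Ω}

/-- The extension condition of normality, at one automorphism. -/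
def ExtTo (G : FusionSystem T) (α : MulAut X) : Prop :=
  α ∈ G.autGroup X ∧ ∃ β ∈ G.autGroup (X ⊔ centralizerIn T X),
    (∀ x : X, ((β (Subgroup.inclusion le_sup_left x) : ↥(X ⊔ centralizerIn T X)) : Ω) =
      ((α x : X) : Ω)) ∧
    ∀ c : ↥(X ⊔ centralizerIn T X), (c : Ω) ∈ centralizerIn T X →
      (c : Ω)⁻¹ * ((β c : ↥(X ⊔ centralizerIn T X)) : Ω) ∈ X ⊓ Subgroup.centralizer (X : Set Ω)

theorem center_mapsTo (α : MulAut X) {x : X}
    (hx : (x : Ω) ∈ Subgroup.centralizer (X : Set Ω)) :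
    ((α x : X) : Ω) ∈ Subgroup.centralizer (X : Set Ω) := by
  refine Subgroup.mem_centralizer_iff.2 fun y hy => ?_
  obtain ⟨z, hz⟩ := α.surjective ⟨y, hy⟩
  have h1 : z * x = x * z := Subtype.ext (Subgroup.mem_centralizer_iff.1 hx z z.2)
  have h2 := congrArg Subtype.val (congrArg α h1)
  rw [map_mul, map_mul, hz] at h2
  exact h2

/-- The automorphisms satisfying the extension condition. -/
def extToGroup (G : FusionSystem T) (X : Subgroup Ω) : Subgroup (MulAut X) where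
  carrier := {α | ExtTo G α}
  one_mem' := ⟨one_mem _, 1, one_mem _, fun _ => rfl, fun c _ => by simp [one_mem]⟩
  mul_mem' := by
    rintro a a' ⟨ha, b, hb, hbe, hbc⟩ ⟨ha', b', hb', hbe', hbc'⟩
    refine ⟨mul_mem ha ha', b * b', mul_mem hb hb', fun x => ?_, fun c hc => ?_⟩
    · rw [MulAut.mul_apply, MulAut.mul_apply, ← hbe]
      exact congrArg (fun w => (b w : Ω)) (Subtype.ext (hbe' x))
    · obtain ⟨hz, hzc⟩ := hbc' c hc
      set z : X := ⟨(c : Ω)⁻¹ * (b' c : Ω), hz⟩ with hzdef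
      have h1 : b' c = c * Subgroup.inclusion le_sup_left z :=
        Subtype.ext (mul_inv_cancel_left _ _).symm
      rw [MulAut.mul_apply, h1, map_mul, Subgroup.coe_mul, hbe, ← mul_assoc]
      exact mul_mem (hbc c hc) ⟨(a z).2, center_mapsTo a hzc⟩
  inv_mem' := by
    rintro a ⟨ha, b, hb, hbe, hbc⟩
    refine ⟨inv_mem ha, b⁻¹, inv_mem hb, fun x => ?_, fun c hc => ?_⟩
    · refine congrArg Subtype.val (?_ : _ = Subgroup.inclusion le_sup_left (a⁻¹ x))
      refine b.injective ?_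
      rw [MulAut.apply_inv_self]
      refine Subtype.ext ?_
      rw [hbe, MulAut.apply_inv_self]
      rfl
    · obtain ⟨hz, hzc⟩ := hbc c hc
      set z : X := ⟨(c : Ω)⁻¹ * (b c : Ω), hz⟩ with hzdef
      set w : X := a⁻¹ z with hw
      have h1 : b⁻¹ c = c * (Subgroup.inclusion le_sup_left w)⁻¹ := by
        refine b.injective ?_
        rw [MulAut.apply_inv_self, map_mul, map_inv, eq_mul_inv_iff_mul_eq]
        refine Subtype.ext ?_
        rw [Subgroup.coe_mul, hbe, hw, MulAut.apply_inv_self]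
        show (c : Ω) * ((c : Ω)⁻¹ * (b c : Ω)) = _
        rw [mul_inv_cancel_left]
      rw [h1, Subgroup.coe_mul, inv_mul_cancel_left, Subgroup.coe_inv]
      exact (X ⊓ Subgroup.centralizer (X : Set Ω)).inv_mem
        (⟨w.2, center_mapsTo a⁻¹ hzc⟩ :
          (w : Ω) ∈ X ⊓ Subgroup.centralizer (X : Set Ω))

theorem extTo_of_normal {G : FusionSystem T} {D : FusionSystem X} [Finite T] {p : ℕ}
    (hD : D.IsNormalIn G p) {α : MulAut X} (hα : α ∈ D.autGroup X) : α ∈ extToGroup G X :=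
  ⟨(H85.mem_autGroup hD.1.2.2.2.1.1).2 (hD.1.2.2.1 _ ((H85.mem_autGroup le_rfl).1 hα)), hD.2 α hα⟩

variable [Finite S] {p : ℕ} [Fact p.Prime] {TM TN : Subgroup Ω} {F : FusionSystem S}
  {M : FusionSystem TM} {N : FusionSystem TN}

/-- The automorphisms of `TM ⊓ TN` occurring in some subsystem normal in all three systems. -/
def famAut (p : ℕ) (F : FusionSystem S) (M : FusionSystem TM) (N : FusionSystem TN) :
    Subgroup (MulAut ↥(TM ⊓ TN)) :=
  Subgroup.closure {α | ∃ D : FusionSystem (TM ⊓ TN),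
    (D.IsNormalIn F p ∧ D.IsNormalIn M p ∧ D.IsNormalIn N p) ∧ α ∈ D.autGroup (TM ⊓ TN)}

theorem famAut_conj {a : MulAut ↥(TM ⊓ TN)} (hX : F.StronglyClosed (TM ⊓ TN))
    (ha : a ∈ F.autGroup (TM ⊓ TN)) {κ : MulAut ↥(TM ⊓ TN)} (hκ : κ ∈ famAut p F M N) :
    a * κ * a⁻¹ ∈ famAut p F M N := by
  suffices h : (famAut p F M N).map (MulAut.conj a).toMonoidHom ≤ famAut p F M N from h ⟨κ, hκ, rfl⟩
  rw [famAut, MonoidHom.map_closure, Subgroup.closure_le]
  rintro _ ⟨α, ⟨D, hD, hα⟩, rfl⟩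
  refine Subgroup.subset_closure ⟨D, hD, ?_⟩
  have h1 := H86.autGroup_transport hD.1.1 le_rfl le_rfl ((H85.mem_autGroup hX.1).1 ha) hα
  rwa [H85.congr_eq_conj] at h1

/-- Modulo inner automorphisms the elements of the family have order prime to `p`. -/
theorem famAut_pow_inn (hS : IsPGroup p S) (hX : F.StronglyClosed (TM ⊓ TN))
    (hAF : famAut p F M N ≤ F.autGroup (TM ⊓ TN)) {κ : MulAut ↥(TM ⊓ TN)}
    (hκ : κ ∈ famAut p F M N) :
    ∃ m : ℕ, Nat.Coprime m p ∧ κ ^ m ∈ Cfsg.Inn ↥(TM ⊓ TN) := by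
  classical
  have : Finite ↥(TM ⊓ TN) := H85.finite_of_le hX.1
  set G := F.autGroup (TM ⊓ TN) with hG
  have : Finite G := H85.finite_autGroup F hX.1
  haveI : ((Cfsg.Inn ↥(TM ⊓ TN)).subgroupOf G).Normal :=
    ⟨fun k hk g => (inferInstance : (Cfsg.Inn ↥(TM ⊓ TN)).Normal).conj_mem _ hk g⟩
  let π := QuotientGroup.mk' ((Cfsg.Inn ↥(TM ⊓ TN)).subgroupOf G)
  have hgen : ∀ D : FusionSystem (TM ⊓ TN),
      D.IsNormalIn F p ∧ D.IsNormalIn M p ∧ D.IsNormalIn N p →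
      ((D.autGroup (TM ⊓ TN)).subgroupOf G).map π ≤
        Cfsg.pPrimeCore p (G ⧸ (Cfsg.Inn ↥(TM ⊓ TN)).subgroupOf G) := by
    intro D hD
    have hn : ((D.autGroup (TM ⊓ TN)).subgroupOf G).Normal := ⟨fun k hk g => by
      have h1 := H86.autGroup_transport hD.1.1 le_rfl le_rfl
        ((H85.mem_autGroup hX.1).1 g.2) (Subgroup.mem_subgroupOf.1 hk)
      rw [H85.congr_eq_conj] at h1
      exact h1⟩
    refine le_sSup ⟨hn.map π (QuotientGroup.mk'_surjective _), ?_⟩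
    rw [Nat.coprime_comm, (Fact.out : p.Prime).coprime_iff_not_dvd]
    intro hdvd
    obtain ⟨⟨_, a, ha, rfl⟩, ho⟩ := exists_prime_orderOf_dvd_card' p hdvd
    obtain ⟨k, m, hm, hkm⟩ := Nat.exists_eq_pow_mul_and_not_dvd (orderOf_pos (a : MulAut ↥(TM ⊓ TN))).ne' p
      (Fact.out : p.Prime).ne_one
    have hinn : (a : MulAut ↥(TM ⊓ TN)) ^ m ∈ Cfsg.Inn ↥(TM ⊓ TN) :=
      H86.pElement_inn hS hD.1.1 (pow_mem ha m) ⟨k, by
        rw [orderOf_pow_of_dvd (fun h => hm (by rw [h]; exact dvd_zero p))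
          (hkm ▸ dvd_mul_left _ _), hkm, Nat.mul_div_cancel _ (Nat.pos_of_ne_zero
            fun h => hm (by rw [h]; exact dvd_zero p))]⟩
    have h1 : (⟨π a, a, ha, rfl⟩ : ((D.autGroup (TM ⊓ TN)).subgroupOf G).map π) ^ m = 1 := by
      refine Subtype.ext ?_
      show π a ^ m = 1
      rw [← map_pow]
      exact (QuotientGroup.eq_one_iff (N := (Cfsg.Inn ↥(TM ⊓ TN)).subgroupOf G) _).2 hinn
    exact hm (ho ▸ orderOf_dvd_of_pow_eq_one h1)
  have hle : ((famAut p F M N).subgroupOf G).map π ≤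
      Cfsg.pPrimeCore p (G ⧸ (Cfsg.Inn ↥(TM ⊓ TN)).subgroupOf G) := by
    have h1 : famAut p F M N ≤
        ((Cfsg.pPrimeCore p (G ⧸ (Cfsg.Inn ↥(TM ⊓ TN)).subgroupOf G)).comap π).map G.subtype := by
      refine (Subgroup.closure_le _).2 ?_
      rintro α ⟨D, hD, hα⟩
      have hαG : α ∈ G := hAF (Subgroup.subset_closure ⟨D, hD, hα⟩)
      exact ⟨⟨α, hαG⟩, hgen D hD ⟨⟨α, hαG⟩, hα, rfl⟩, rfl⟩
    rintro _ ⟨a, ha, rfl⟩
    obtain ⟨a', ha', he⟩ := h1 ha
    exact (Subtype.ext he : a' = a) ▸ ha'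
  refine ⟨orderOf (π ⟨κ, hAF hκ⟩), ?_, ?_⟩
  · refine Nat.Coprime.coprime_dvd_left ?_ (H10.pPrimeCore_coprime
      (G := G ⧸ (Cfsg.Inn ↥(TM ⊓ TN)).subgroupOf G) (p := p))
    exact Subgroup.orderOf_dvd_natCard _ (hle ⟨⟨κ, hAF hκ⟩, hκ, rfl⟩)
  · have h1 : π (⟨κ, hAF hκ⟩ ^ orderOf (π ⟨κ, hAF hκ⟩)) = 1 := by
      rw [map_pow, pow_orderOf_eq_one]
    exact (QuotientGroup.eq_one_iff (N := (Cfsg.Inn ↥(TM ⊓ TN)).subgroupOf G) _).1 h1

/-- The groups of the greatest meet: the automorphisms with a level in the family. -/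
def greatB (R : FusionSystem X) (A : Subgroup (MulAut X)) (P : Subgroup Ω) :
    Subgroup (MulAut P) :=
  Subgroup.closure {a | ∃ κ ∈ A, H86.Lev R κ P (P.subtype.comp a.toMonoidHom)}

theorem mem_greatB [Finite X] {R : FusionSystem X} {A : Subgroup (MulAut X)}
    (hn : ∀ κ ∈ A, H86.NormAut R κ) {P : Subgroup Ω} (hP : P ≤ X) {a : MulAut P} :
    a ∈ greatB R A P ↔ ∃ κ ∈ A, H86.Lev R κ P (P.subtype.comp a.toMonoidHom) := by
  refine ⟨fun h => ?_, fun h => Subgroup.subset_closure h⟩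
  induction h using Subgroup.closure_induction with
  | mem x hx => exact hx
  | one => exact ⟨1, one_mem _, H86.lev_one.2 (H85.hom_congr (H85.id_mem R hP) fun _ => rfl)⟩
  | mul x y _ _ hx hy =>
    obtain ⟨κ, hκ, hl⟩ := hx
    obtain ⟨κ', hκ', hl'⟩ := hy
    exact ⟨κ * κ', mul_mem hκ hκ', H86.Lev.comp hl' hl (hn _ (inv_mem hκ')) (fun z => (y z).2)
      fun _ => rfl⟩
  | inv x _ hx =>
    obtain ⟨κ, hκ, hl⟩ := hx
    exact ⟨κ⁻¹, inv_mem hκ, H86.Lev.inv hl (hn κ hκ) fun y => ⟨x⁻¹ y,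
      congrArg Subtype.val (MulAut.apply_inv_self _ x y), rfl⟩⟩

set_option maxHeartbeats 800000 in
/-- The greatest subsystem over the intersection of the bases normal in all three systems. -/
theorem exists_greatest_wedge (hS : IsPGroup p S) (hM : M.IsNormalIn F p)
    (hN : N.IsNormalIn F p) :
    ∃ D : FusionSystem (TM ⊓ TN), (D.IsNormalIn F p ∧ D.IsNormalIn M p ∧ D.IsNormalIn N p) ∧
      ∀ D' : FusionSystem (TM ⊓ TN), D'.IsNormalIn F p → D'.IsNormalIn M p →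
        D'.IsNormalIn N p → D'.IsSubsystemOf D := by
  classical
  have hX := meet_stronglyClosed hM.1 hN.1
  have hXS : TM ⊓ TN ≤ S := hX.1
  have hTMS : TM ≤ S := hM.1.2.2.2.1.1
  have hTNS : TN ≤ S := hN.1.2.2.2.1.1
  have : Finite TM := H85.finite_of_le hTMS
  have : Finite TN := H85.finite_of_le hTNS
  have : Finite ↥(TM ⊓ TN) := H85.finite_of_le hXS
  have hXp : IsPGroup p ↥(TM ⊓ TN) := hS.to_le hXS
  obtain ⟨R, hRF, hRM, hRN⟩ := exists_wedge hS hM hN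
  set A := famAut p F M N with hA
  have hAext : A ≤ extToGroup F (TM ⊓ TN) ⊓ extToGroup M (TM ⊓ TN) ⊓ extToGroup N (TM ⊓ TN) := by
    refine (Subgroup.closure_le _).2 ?_
    rintro α ⟨D, ⟨h1, h2, h3⟩, hα⟩
    exact ⟨⟨extTo_of_normal h1 hα, extTo_of_normal h2 hα⟩, extTo_of_normal h3 hα⟩
  have hAF : A ≤ F.autGroup (TM ⊓ TN) := fun α hα => (hAext hα).1.1.1
  have hAM : A ≤ M.autGroup (TM ⊓ TN) := fun α hα => (hAext hα).1.2.1
  have hAN : A ≤ N.autGroup (TM ⊓ TN) := fun α hα => (hAext hα).2.1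
  have hn : ∀ κ ∈ A, H86.NormAut R κ := fun κ hκ =>
    H86.normAut_of_strongInv (H86.strongInv_of_invariant hRF.1.2.2) hXS (hAF hκ)
  have hnF : ∀ κ ∈ F.autGroup (TM ⊓ TN), H86.NormAut R κ := fun κ hκ =>
    H86.normAut_of_strongInv (H86.strongInv_of_invariant hRF.1.2.2) hXS hκ
  have hRA : R.autGroup (TM ⊓ TN) ≤ A := fun α hα =>
    Subgroup.subset_closure ⟨R, ⟨hRF, hRM, hRN⟩, hα⟩
  have hmem := fun {P : Subgroup Ω} (hP : P ≤ TM ⊓ TN) {a : MulAut P} =>
    mem_greatB (R := R) (A := A) hn hP (a := a)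
  have hBF : ∀ P, CenX F (TM ⊓ TN) P → greatB R A P ≤ F.autGroup P := by
    intro P hP a ha
    obtain ⟨κ, hκ, hl⟩ := (hmem hP.1).1 ha
    exact (H85.mem_autGroup (hP.1.trans hXS)).2 (hl.mem hRF.1.2.2.1 hXS (hAF hκ))
  let W : NMap p F (TM ⊓ TN) :=
  { B := greatB R A
    hS := hS
    hF := hM.1.2.1
    hX := hX
    le_aut := hBF
    congr := by
      intro P Q e hP he b hb
      obtain ⟨κ, hκ, hl⟩ := (hmem hP.1).1 hb
      have hQ := (hP.conj hX he).1
      obtain ⟨ε, hε, hle⟩ : ∃ ε ∈ F.autGroup (TM ⊓ TN),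
          H86.Lev R ε P (Q.subtype.comp e.toMonoidHom) := hRF.1.2.2.2.2.2 P hP.1 _ he
      refine (hmem hQ).2 ⟨ε * (κ * ε⁻¹),
        (mul_assoc ε κ ε⁻¹) ▸ famAut_conj hX hε hκ, ?_⟩
      have h1 : H86.Lev R ε⁻¹ Q (P.subtype.comp e.symm.toMonoidHom) :=
        hle.inv (hnF ε hε) fun y => ⟨e.symm y, by simp, rfl⟩
      have h2 : H86.Lev R (κ * ε⁻¹) Q
          ((P.subtype.comp b.toMonoidHom).comp e.symm.toMonoidHom) :=
        h1.comp hl (hnF _ (inv_mem (inv_mem hε))) (fun y => (e.symm y).2) fun _ => rfl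
      exact h2.comp hle (hnF _ (inv_mem (mul_mem (hAF hκ) (inv_mem hε))))
        (fun y => (b (e.symm y)).2) fun _ => rfl
    induced := fun P hP a ha => (hmem hP.1).2 ⟨1, one_mem _,
      H86.lev_one.2 (H85.isFIso_of_mem_autInducedBy R hP.1 ha)⟩
    inf_induced := by
      rintro P hP hPn a ⟨ha, haS⟩
      obtain ⟨κ, hκ, hl⟩ := (hmem hP.1).1 ha
      obtain ⟨m, hm, hκm⟩ := famAut_pow_inn hS hX hAF hκ
      have hlm : ∀ i : ℕ, H86.Lev R (κ ^ i) P (P.subtype.comp (a ^ i).toMonoidHom) := by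
        intro i
        induction i with
        | zero => exact H86.lev_one.2 (H85.hom_congr (H85.id_mem R hP.1) fun _ => rfl)
        | succ i ih =>
          rw [pow_succ' κ, pow_succ' a]
          exact ih.comp hl (hn _ (inv_mem (pow_mem hκ i))) (fun y => ((a ^ i) y).2) fun _ => rfl
      have hinnR : κ ^ m ∈ R.autGroup (TM ⊓ TN) := H85.inn_le_autGroup R le_rfl hκm
      have h1 := (hlm m).mul_right (inv_mem hinnR)
      rw [mul_inv_cancel, H86.lev_one] at h1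
      have h2 : a ^ m ∈ R.autGroup P := (H85.mem_autGroup hP.1).2 h1
      obtain ⟨k, hk⟩ := (H85.autInducedBy_isPGroup hS P) ⟨a, haS⟩
      have hk' : a ^ p ^ k = 1 := congrArg Subtype.val hk
      have : Finite P := H85.finite_of_le hPn.1
      have : Finite (MulAut P) := Finite.of_injective (fun f => (f : P → P)) DFunLike.coe_injective
      obtain ⟨i, hi⟩ := exists_pow_eq_self_of_coprime (x := a) (n := m)
        ((Nat.Coprime.pow_right k hm).coprime_dvd_right (orderOf_dvd_of_pow_eq_one hk'))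
      exact inf_induced_le hS hRF.1 hP.1 hPn ⟨hi ▸ pow_mem h2 i, haS⟩
    res := by
      intro P Q hPQ hP hQ b hb hbP
      obtain ⟨κ, hκ, hl⟩ := (hmem hQ.1).1 hb
      have : Finite P := H85.finite_of_le (hP.1.trans hXS)
      have h1 := H85.restrict ((H85.mem_autGroup (hQ.1.trans hXS)).1 (hBF Q hQ hb)) hPQ
      have hr := H86.range_eq_self_of_le F h1 (by
        rintro _ ⟨x, rfl⟩
        exact hbP _ x.2)
      exact ⟨H85.isoOf _ h1 hr, (hmem hP.1).2 ⟨κ, hκ, hl.res hPQ fun x => rfl⟩, fun x => rfl⟩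
    ext := by
      intro P hP hPn b hb hbY
      obtain ⟨κ, hκ, d, hd, hde⟩ := (hmem hP.1).1 hb
      set V := normalizerIn (TM ⊓ TN) P with hV
      have hPV : P ≤ V := H85.le_normalizerIn hP.1
      have hVX : V ≤ TM ⊓ TN := H85.normalizerIn_le P
      have hPS : P ≤ S := hPn.1
      have : Finite V := H85.finite_of_le (hVX.trans hXS)
      have hdX : ∀ x : P, d x ∈ TM ⊓ TN := (R.le_of_mem hd).2
      have hdF : d ∈ F.Hom P := hRF.1.2.2.1 P hd
      have hQc : CenX F (TM ⊓ TN) d.range := hP.conj hX (H85.isFIso_isoOf d hdF rfl)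
      have hQR : R.IsCentric d.range :=
        ⟨hQc.1, fun U ⟨χ, hχ, hU⟩ => hQc.2 U ⟨χ, hRF.1.2.2.1 _ hχ, hU⟩⟩
      obtain ⟨ψ, hψ, hψe⟩ := (H85.receptive_of_fullyCentralized hXp hRF.1.1
        (H85.centric_fullyCentralized hQR)).2 P d hd rfl
      have hVE : V ≤ extender (TM ⊓ TN) P d := by
        intro g hg
        obtain ⟨h, hh, hhe⟩ := H85.mem_autInducedBy.1
          (hbY (H85.conjAut (TM ⊓ TN) P ⟨g, hg⟩) (H85.conjAut_range (TM ⊓ TN) P ▸ ⟨_, rfl⟩))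
        refine H85.mem_extender.2 ⟨hg.1, hg.2, _, ((κ⁻¹) ⟨h, hh⟩).2, fun x hx => ?_⟩
        have h4 := hhe (b x)
        rw [MulAut.mul_apply, MulAut.mul_apply, MulAut.inv_apply_self] at h4
        have h5 : (b ⟨g * x * g⁻¹, hx⟩ : Ω) = h * (b x : Ω) * h⁻¹ := by
          refine Eq.trans ?_ h4
          exact congrArg (fun w : P => ((b w : P) : Ω)) (Subtype.ext rfl)
        have h6 : κ ⟨d ⟨g * x * g⁻¹, hx⟩, hdX _⟩ =
            ⟨h, hh⟩ * κ ⟨d x, hdX x⟩ * ⟨h, hh⟩⁻¹ := by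
          refine Subtype.ext ?_
          have e1 := hde ⟨g * x * g⁻¹, hx⟩ (hdX _)
          have e2 := hde x (hdX x)
          show ((κ _ : ↥(TM ⊓ TN)) : Ω) = h * ((κ _ : ↥(TM ⊓ TN)) : Ω) * h⁻¹
          rw [← e1, ← e2]
          exact h5
        have h7 := congrArg (κ⁻¹ : MulAut ↥(TM ⊓ TN)) h6
        simp only [map_mul, map_inv, MulAut.inv_apply_self] at h7
        exact congrArg Subtype.val h7
      set χ := ψ.comp (Subgroup.inclusion hVE) with hχ
      have hχR : χ ∈ R.Hom V := H85.restrict hψ hVE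
      have hχX : ∀ y, χ y ∈ TM ⊓ TN := (R.le_of_mem hχR).2
      set φ := (H86.dmap κ).comp (χ.codRestrict _ hχX) with hφ
      have hlφ : H86.Lev R κ V φ := ⟨χ, hχR, fun _ _ => rfl⟩
      have hφF : φ ∈ F.Hom V := hlφ.mem hRF.1.2.2.1 hXS (hAF hκ)
      have hφe : ∀ x : P, φ (Subgroup.inclusion hPV x) = (b x : Ω) := fun x => by
        refine Eq.trans ?_ (hde x (hdX x)).symm
        exact congrArg (fun w : ↥(TM ⊓ TN) => ((κ w : ↥(TM ⊓ TN)) : Ω))
          (Subtype.ext (hψe x x.2 _))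
      have hr : φ.range = V := H86.range_eq_self_of_le F hφF (by
        rintro _ ⟨y, rfl⟩
        have h1 := map_mem_normalizerX hX hφF hVX hPV inf_le_right y
        rwa [img_eq_of_iso hPV b hφe] at h1)
      exact ⟨H85.isoOf φ hφF hr, (hmem hVX).2 ⟨κ, hκ, hlφ.congr fun _ => rfl⟩, fun x => hφe x⟩ }
  have hBM : ∀ P, CenX F (TM ⊓ TN) P → greatB R A P ≤ M.autGroup P := by
    intro P hP a ha
    obtain ⟨κ, hκ, hl⟩ := (hmem hP.1).1 ha
    exact (H85.mem_autGroup (hP.1.trans inf_le_left)).2 (hl.mem hRM.1.2.2.1 inf_le_left (hAM hκ))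
  have hBN : ∀ P, CenX F (TM ⊓ TN) P → greatB R A P ≤ N.autGroup P := by
    intro P hP a ha
    obtain ⟨κ, hκ, hl⟩ := (hmem hP.1).1 ha
    exact (H85.mem_autGroup (hP.1.trans inf_le_right)).2 (hl.mem hRN.1.2.2.1 inf_le_right (hAN hκ))
  have htop : W.sys.autGroup (TM ⊓ TN) ≤ A := by
    rw [W.autGroup_top]
    intro α hα
    obtain ⟨κ, hκ, d, hd, hde⟩ := (hmem le_rfl).1 hα
    have hr := H86.range_eq_self_of_le R hd (H85.range_le hd)
    let r : MulAut ↥(TM ⊓ TN) := H85.isoOf d hd hr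
    have hr' : r ∈ A := hRA ((H85.mem_autGroup le_rfl).2 (H85.isFIso_isoOf d hd hr))
    have he : α = κ * r := MulEquiv.ext fun x => Subtype.ext (hde x ((R.le_of_mem hd).2 x))
    exact he ▸ mul_mem hκ hr'
  refine ⟨W.sys, ⟨⟨W.sys_weaklyNormal, fun α hα => (hAext (htop hα)).1.1.2⟩,
    ⟨W.sys_weaklyNormal_sub M hM.1 inf_le_left hBM, fun α hα => (hAext (htop hα)).1.2.2⟩,
    ⟨W.sys_weaklyNormal_sub N hN.1 inf_le_right hBN, fun α hα => (hAext (htop hα)).2.2⟩⟩,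
    fun D' h1 h2 h3 => H86.hom_le_of_autGroup_le hS h1.1 W.sys_weaklyNormal ?_⟩
  rw [W.autGroup_top]
  intro α hα
  exact (hmem le_rfl).2 ⟨α, Subgroup.subset_closure ⟨D', ⟨h1, h2, h3⟩, hα⟩,
    (H86.lev_aut α le_rfl).congr fun _ => rfl⟩

end H87
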