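import Cfsg.Agent.H87.PinnedSubgroup
import Cfsg.Agent.H86.ExtAll
import Cfsg.Agent.H88.Morphism

/-!
The commutator step for the meet of two normal subsystems (helper87): at a fully normalized `P`, a
`p'`-automorphism of a normal subsystem on `TN` normalizing a group `Q` of automorphisms induced
both by `TM` and by `TN` moves each element of `Q` only by automorphisms induced by `TM ⊓ TN`.
-/

set_option autoImplicit false
set_option linter.unusedSectionVars false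

open Cfsg Cfsg.FusionSystem
open scoped Pointwise

namespace H87

variable {Ω : Type*} [Group Ω] {S TM TN : Subgroup Ω} [Finite S] {p : ℕ} [Fact p.Prime]

theorem commutator_mem_induced {F : FusionSystem S} (hTM : F.StronglyClosed TM)
    (hTN : F.StronglyClosed TN) {P : Subgroup Ω} {a b : MulAut P}
    (ha : a ∈ autInducedBy TM P) (hb : b ∈ autInducedBy TN P) :
    a * b * a⁻¹ * b⁻¹ ∈ autInducedBy (TM ⊓ TN) P := by
  obtain ⟨g, hg, hga⟩ := H85.mem_autInducedBy.1 ha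
  obtain ⟨h, hh, hhb⟩ := H85.mem_autInducedBy.1 hb
  have hinvA : ∀ x : P, ((a⁻¹ x : P) : Ω) = g⁻¹ * (x : Ω) * g := fun x => by
    have h1 := hga (a⁻¹ x)
    rw [MulAut.apply_inv_self] at h1
    rw [h1]
    group
  have hinvB : ∀ x : P, ((b⁻¹ x : P) : Ω) = h⁻¹ * (x : Ω) * h := fun x => by
    have h1 := hhb (b⁻¹ x)
    rw [MulAut.apply_inv_self] at h1
    rw [h1]
    group
  refine H85.mem_autInducedBy.2 ⟨g * h * g⁻¹ * h⁻¹, ⟨?_, ?_⟩, fun x => ?_⟩
  · rw [show g * h * g⁻¹ * h⁻¹ = g * (h * g⁻¹ * h⁻¹) by group]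
    exact TM.mul_mem hg (H85.conj_mem_of_mem_normalizer
      (H88.sc_normalizer hTM (hTN.1 hh)) (TM.inv_mem hg))
  · exact TN.mul_mem (H85.conj_mem_of_mem_normalizer (H88.sc_normalizer hTN (hTM.1 hg)) hh)
      (TN.inv_mem hh)
  · rw [MulAut.mul_apply, MulAut.mul_apply, MulAut.mul_apply, hga, hhb, hinvA, hinvB]
    group

set_option maxHeartbeats 1000000 in
theorem wedge_commutator (hS : IsPGroup p S) {F : FusionSystem S} (hF : F.IsSaturated p)
    (hTM : F.StronglyClosed TM) {N : FusionSystem TN} (hN : N.IsNormalIn F p) {P : Subgroup Ω}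
    (hPN : P ≤ TN) (hPn : F.IsFullyNormalized P) {β : MulAut P} (hβ : β ∈ N.autGroup P)
    (hβc : Nat.Coprime (orderOf β) p) {Q : Subgroup (MulAut P)}
    (hInn : Cfsg.Inn P ≤ Q) (hQM : Q ≤ autInducedBy TM P) (hQN : Q ≤ autInducedBy TN P)
    (hβQ : ∀ q ∈ Q, β * q * β⁻¹ ∈ Q) {x : MulAut P} (hx : x ∈ Q) :
    x⁻¹ * β * x * β⁻¹ ∈ autInducedBy (TM ⊓ TN) P := by
  classical
  have hTN : F.StronglyClosed TN := hN.1.2.2.2.1
  have hNF : N.IsSubsystemOf F := hN.1.2.2.1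
  have hTNS : TN ≤ S := hTN.1
  have hPS : P ≤ S := hPn.1
  have : Finite TN := H85.finite_of_le hTNS
  have : Finite P := H85.finite_of_le hPS
  have : Finite (MulAut P) := Finite.of_injective (fun f => (f : P → P)) DFunLike.coe_injective
  have hTNp : IsPGroup p TN := hS.to_le hTNS
  have hPnN : N.IsFullyNormalized P := H86.fullyNormalized_weaklyNormal hS hN.1 hPN hPn
  -- the subgroups `P₁ = P C_TN(P)` and `X₁ = P₁ C_S(P₁)`
  set P₁ := H86.pc TN P with hP₁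
  set X₁ := H86.pc S P₁ with hX₁
  have hP₁N : P₁ ≤ TN := H86.pc_le hPN
  have hP₁S : P₁ ≤ S := hP₁N.trans hTNS
  have hPP₁ : P ≤ P₁ := le_sup_left
  have hP₁X₁ : P₁ ≤ X₁ := le_sup_left
  have pinN : Pinned N P P₁ :=
    ⟨hPP₁, H86.pc_le_normalizerIn hPN, fun φ hφ hU x =>
      map_pc_mem (H86.stronglyClosed_self N) hPN hφ le_rfl hU x x.2⟩
  have pinX : Pinned F P X₁ := by
    refine ⟨hPP₁.trans hP₁X₁, sup_le ?_ ?_, fun φ hφ hU => ?_⟩
    · exact (H86.pc_le_normalizerIn hPN).trans (inf_le_inf_right _ hTNS)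
    · exact (H86.centralizerIn_antitone hPP₁).trans (H85.centralizerIn_le_normalizerIn P)
    · have h1 : ∀ x : X₁, (x : Ω) ∈ P₁ → φ x ∈ P₁ := fun x hx =>
        map_pc_mem hTN hPN hφ hP₁X₁ hU x hx
      exact fun x => map_pc_mem (H86.stronglyClosed_self F) hP₁S hφ le_rfl h1 x x.2
  have hX₁S : X₁ ≤ S := pinX.le_S
  have : Finite X₁ := H85.finite_of_le hX₁S
  have : Finite P₁ := H85.finite_of_le hP₁S
  have : Finite (MulAut X₁) := Finite.of_injective (fun f => (f : X₁ → X₁)) DFunLike.coe_injective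
  have hP₁c : N.IsCentric P₁ := pinN.centric hTNp hN.1.1 hPnN
    ((H86.centralizerIn_antitone hPP₁).trans le_sup_right)
  have hX₁c : F.IsCentric X₁ := pinX.centric hS hF hPn
    ((H86.centralizerIn_antitone hP₁X₁).trans le_sup_right)
  -- the stabilizer of `P` and its restrictions
  set A := H85.pStab F hX₁S P with hA
  have hAP₁ : A ≤ H85.pStab F hX₁S P₁ := fun a ha => H85.mem_pStab.2
    ⟨(H85.mem_pStab.1 ha).1, fun x hx => map_pc_mem hTN hPN
      ((H85.mem_autGroup hX₁S).1 (H85.mem_pStab.1 ha).1) hP₁X₁ (H85.mem_pStab.1 ha).2 x hx⟩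
  let rP : A →* MulAut P := H85.resAut F hX₁S (hPP₁.trans hP₁X₁)
  let r₁ : A →* MulAut P₁ := (H85.resAut F hX₁S hP₁X₁).comp (Subgroup.inclusion hAP₁)
  -- the elements of `S` inducing elements of `Q`
  set W := (Q.comap (H85.conjAut S P)).map (normalizerIn S P).subtype with hW
  have hWN : W ≤ normalizerIn S P := Subgroup.map_subtype_le _
  have hWQ : ∀ g : W, H85.conjAut S P ⟨g, hWN g.2⟩ ∈ Q := by
    rintro ⟨_, z, hz, rfl⟩
    exact hz
  have hWmem : ∀ g (hg : g ∈ normalizerIn S P), H85.conjAut S P ⟨g, hg⟩ ∈ Q → g ∈ W :=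
    fun g hg h => ⟨⟨g, hg⟩, h, rfl⟩
  have hCW : centralizerIn S P ≤ W := fun g hg =>
    hWmem g (H85.centralizerIn_le_normalizerIn P hg) (by
      rw [(H85.mem_conjAut_ker (g := ⟨g, H85.centralizerIn_le_normalizerIn P hg⟩)).2 hg]
      exact Q.one_mem)
  have hPW : P ≤ W := fun g hg =>
    hWmem g (H85.le_normalizerIn hPS hg) (hInn ⟨⟨g, hg⟩, MulEquiv.ext fun y => Subtype.ext rfl⟩)
  have hX₁W : X₁ ≤ W := sup_le (sup_le hPW ((inf_le_inf_right _ hTNS).trans hCW))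
    ((H86.centralizerIn_antitone hPP₁).trans hCW)
  have hWS : W ≤ S := hWN.trans inf_le_left
  have : Finite W := H85.finite_of_le hWS
  have : Finite (MulAut W) := Finite.of_injective (fun f => (f : W → W)) DFunLike.coe_injective
  have hWX : W ≤ normalizerIn S X₁ := hWN.trans pinX.norm_le
  let c : W →* A := ((H85.conjAut S X₁).comp (Subgroup.inclusion hWX)).codRestrict A
    fun g => H85.conjAut_mem_pStab hX₁S (hWX g.2) (hWN g.2).2
  have hrc : ∀ g : W, rP (c g) = H85.conjAut S P ⟨g, hWN g.2⟩ := fun g =>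
    MulEquiv.ext fun y => Subtype.ext rfl
  -- `c W` is a Sylow subgroup of the automorphisms restricting into `Q`
  set K₀ := Q.comap rP with hK₀
  have hcK₀ : c.range ≤ K₀ := by
    rintro _ ⟨g, rfl⟩
    show rP (c g) ∈ Q
    rw [hrc]
    exact hWQ g
  have hmax : ∀ V : Subgroup A, V ≤ K₀ → IsPGroup p V → c.range ≤ V → V ≤ c.range := by
    intro V hVK hVp hcV
    obtain ⟨a, ha, hat⟩ := pinX.stab_conj hS hF hPn (Subgroup.map_subtype_le V) (hVp.map _)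
    let a' : A := ⟨a, ha⟩
    have hle : (V ⊓ rP.ker).map (MulAut.conj a').toMonoidHom ≤ c.range ⊓ rP.ker := by
      rintro _ ⟨v, hv, rfl⟩
      have hk : rP (a' * v * a'⁻¹) = 1 := by
        rw [map_mul, map_mul, map_inv, MonoidHom.mem_ker.1 hv.2, mul_one, mul_inv_cancel]
      obtain ⟨t, ht, hte⟩ := hat v ⟨v, hv.1, rfl⟩
      have hkt : H85.conjAut S P ⟨t, ht⟩ = 1 := by
        rw [← hk]
        exact MulEquiv.ext fun y => Subtype.ext (hte ⟨y, (hPP₁.trans hP₁X₁) y.2⟩).symm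
      have htW : t ∈ W := hWmem t ht (hkt ▸ Q.one_mem)
      exact ⟨⟨⟨t, htW⟩, Subtype.ext (MulEquiv.ext fun y => Subtype.ext (hte y).symm)⟩, hk⟩
    have hfull : c.range ⊓ rP.ker = V ⊓ rP.ker := by
      refine Subgroup.eq_of_le_of_card_ge (inf_le_inf_right _ hcV) ?_
      rw [← Subgroup.card_map_of_injective (f := (MulAut.conj a').toMonoidHom)
        (MulAut.conj a').injective]
      exact Subgroup.card_le_of_le hle
    intro v hv
    obtain ⟨t, ht, hte⟩ := H85.mem_autInducedBy.1 (hQN (hVK hv))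
    have htN : t ∈ normalizerIn S P := ⟨hTNS ht, H85.mem_normalizer_of_induced hte⟩
    have htq : H85.conjAut S P ⟨t, htN⟩ = rP v :=
      MulEquiv.ext fun y => Subtype.ext (hte y).symm
    let g : W := ⟨t, hWmem t htN (htq ▸ hVK hv)⟩
    have h1 : (c g)⁻¹ * v ∈ c.range ⊓ rP.ker := by
      rw [hfull]
      refine ⟨V.mul_mem (V.inv_mem (hcV ⟨g, rfl⟩)) hv, MonoidHom.mem_ker.2 ?_⟩
      rw [map_mul, map_inv, hrc, ← htq, inv_mul_cancel]
    have h2 := c.range.mul_mem ⟨g, rfl⟩ h1.1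
    rwa [mul_inv_cancel_left] at h2
  -- the normal subgroup of automorphisms from `N`
  set L₁ := (H86.trivMod P₁ X₁).subgroupOf A ⊓ (N.autGroup P₁).comap r₁ with hL₁
  have hL₁n : L₁.Normal := by
    refine ⟨fun a ha b => ⟨fun y => ?_, ?_⟩⟩
    · set z := ((b : MulAut X₁))⁻¹ y with hz
      have hy : (b : MulAut X₁) z = y := MulAut.apply_inv_self _ _ _
      show (y : Ω)⁻¹ * ((b : MulAut X₁) ((a : MulAut X₁) (((b : MulAut X₁))⁻¹ y)) : Ω) ∈ P₁
      rw [← hz, ← hy, ← Subgroup.coe_inv, ← Subgroup.coe_mul, ← map_inv, ← map_mul]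
      exact (H85.mem_pStab.1 (hAP₁ b.2)).2 _ (ha.1 z)
    · have hb : H85.IsFIso F (r₁ b) :=
        (H85.mem_autGroup hP₁S).1 (H85.resAut_mem F hX₁S hP₁X₁ _)
      have h1 := H86.autGroup_transport hN.1 hP₁N hP₁N hb ha.2
      rw [H85.congr_eq_conj] at h1
      show r₁ (b * a * b⁻¹) ∈ N.autGroup P₁
      rwa [map_mul, map_mul, map_inv]
  -- an extension of `β`
  obtain ⟨φ, hφ, hφe⟩ := H85.receptive_extend
    (H85.receptive_of_fullyNormalized hTNp hN.1.1 hPnN) ((H85.mem_autGroup hPN).1 hβ)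
  have hP₁E : P₁ ≤ extender TN P (P.subtype.comp β.toMonoidHom) :=
    sup_le (H85.le_extender hPN fun y => hPN (β y).2) (H85.centralizerIn_le_extender P _)
  set φ₁ := φ.comp (Subgroup.inclusion hP₁E) with hφ₁
  have hφ₁N : φ₁ ∈ N.Hom P₁ := H85.restrict hφ hP₁E
  have hφ₁P : ∀ y : P₁, (y : Ω) ∈ P → φ₁ y ∈ P := fun y hy => by
    rw [show φ₁ y = (β ⟨y, hy⟩ : Ω) from hφe y hy _]
    exact SetLike.coe_mem _
  have hr₁ := pinN.range_eq hφ₁N hφ₁P
  let β₁ : MulAut P₁ := H85.isoOf φ₁ hφ₁N hr₁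
  have hβ₁ : β₁ ∈ N.autGroup P₁ := (H85.mem_autGroup hP₁N).2 (H85.isFIso_isoOf φ₁ hφ₁N hr₁)
  obtain ⟨f, hf, hft, hfe⟩ := H86.extAt_normal hS hN hP₁c β₁ hβ₁
  have hfP : ∀ y : P, (f ⟨y, (hPP₁.trans hP₁X₁) y.2⟩ : Ω) = β y := fun y =>
    (hfe ⟨y, hPP₁ y.2⟩).trans (hφe y y.2 _)
  let f₁ : A := ⟨f, H85.mem_pStab.2 ⟨hf, fun y hy => by
    rw [show y = ⟨((⟨(y : Ω), hy⟩ : P) : Ω), (hPP₁.trans hP₁X₁) hy⟩ from rfl, hfP]
    exact SetLike.coe_mem _⟩⟩
  have hrf : rP f₁ = β := MulEquiv.ext fun y => Subtype.ext (hfP y)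
  have hf₁L : f₁ ∈ L₁ := ⟨hft, show r₁ f₁ ∈ N.autGroup P₁ from
    (MulEquiv.ext fun y => Subtype.ext (hfe y) : r₁ f₁ = β₁) ▸ hβ₁⟩
  -- Frattini argument
  set NQ := Subgroup.normalizer (Q : Set (MulAut P)) with hNQ
  have hβNQ : β ∈ NQ :=
    haveI : Finite (Q : Set (MulAut P)) := inferInstanceAs (Finite Q)
    Subgroup.mem_normalizer_fintype hβQ
  set N₀ := NQ.comap rP with hN₀
  have hN₀L : N₀ ≤ Subgroup.normalizer ((L₁ ⊓ N₀ : Subgroup A) : Set A) := by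
    intro g hg
    refine Subgroup.mem_normalizer_iff.2 fun y => ⟨fun hy => ⟨hL₁n.conj_mem y hy.1 g,
      N₀.mul_mem (N₀.mul_mem hg hy.2) (N₀.inv_mem hg)⟩, fun hy => ?_⟩
    have h1 := hL₁n.conj_mem _ hy.1 g⁻¹
    have h2 := N₀.mul_mem (N₀.mul_mem (N₀.inv_mem hg) hy.2) hg
    rw [show g⁻¹ * (g * y * g⁻¹) * (g⁻¹)⁻¹ = y by group] at h1
    rw [show g⁻¹ * (g * y * g⁻¹) * g = y by group] at h2
    exact ⟨h1, h2⟩
  have hcN₀ : c.range ≤ N₀ := fun z hz => (Subgroup.le_normalizer : Q ≤ NQ) (hcK₀ hz)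
  set H := (L₁ ⊓ N₀) ⊔ c.range with hH
  have hHN₀ : H ≤ N₀ := sup_le inf_le_right hcN₀
  let K₁ : Subgroup H := K₀.subgroupOf H
  haveI hK₁ : K₁.Normal := ⟨fun k hk g => by
    show rP ((g : A) * (k : A) * (g : A)⁻¹) ∈ Q
    rw [map_mul, map_mul, map_inv]
    exact (Subgroup.mem_normalizer_iff.1 (hHN₀ g.2) _).1 hk⟩
  have hcp : IsPGroup p c.range := (hS.to_le hWS).of_surjective _ c.rangeRestrict_surjective
  obtain ⟨R, hR⟩ := ((hcp.comap_of_injective H.subtype H.subtype_injective).comap_of_injective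
    K₁.subtype K₁.subtype_injective).exists_le_sylow
  set V := ((R : Subgroup K₁).map K₁.subtype).map H.subtype with hV
  have hVK : V ≤ K₀ := by
    rintro _ ⟨_, ⟨u, -, rfl⟩, rfl⟩
    exact u.2
  have hcV : c.range ≤ V := fun z hz =>
    ⟨⟨z, Subgroup.mem_sup_right hz⟩, ⟨⟨⟨z, Subgroup.mem_sup_right hz⟩, hcK₀ hz⟩, hR hz, rfl⟩, rfl⟩
  have hVeq : V = c.range := le_antisymm (hmax V hVK ((R.2.map _).map _) hcV) hcV
  have htop : Subgroup.normalizer (((R : Subgroup K₁).map K₁.subtype : Subgroup _) : Set _) ⊔ K₁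
      = ⊤ := R.normalizer_sup_eq_top
  have hf₁H : f₁ ∈ H := Subgroup.mem_sup_left ⟨hf₁L, show rP f₁ ∈ NQ from hrf ▸ hβNQ⟩
  have hmem : (⟨f₁, hf₁H⟩ : H) ∈ K₁ ⊔
      Subgroup.normalizer (((R : Subgroup K₁).map K₁.subtype : Subgroup _) : Set _) := by
    rw [sup_comm, htop]
    trivial
  rw [← SetLike.mem_coe, Subgroup.normal_mul] at hmem
  obtain ⟨k, hk, f', hf', hkf⟩ := hmem
  have hf'c : ∀ z ∈ c.range, (f' : A) * z * (f' : A)⁻¹ ∈ c.range := by
    intro z hz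
    obtain ⟨w, hw, rfl⟩ := hcV hz
    rw [← hVeq]
    exact ⟨_, (Subgroup.mem_normalizer_iff.mp hf' w).mp hw, rfl⟩
  have hf'mem : (f' : A) ∈ ((L₁ ⊓ N₀ : Subgroup A) : Set A) * (c.range : Set A) := by
    rw [← Subgroup.coe_mul_of_right_le_normalizer_left _ _ (hcN₀.trans hN₀L)]
    exact f'.2
  obtain ⟨l, hl, r, hr, hlr⟩ := hf'mem
  have hlc : ∀ z ∈ c.range, l * z * l⁻¹ ∈ c.range := by
    intro z hz
    have h1 := hf'c _ (c.range.mul_mem (c.range.mul_mem (c.range.inv_mem hr) hz) hr)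
    rw [← hlr] at h1
    rwa [show l * r * (r⁻¹ * z * r) * (l * r)⁻¹ = l * z * l⁻¹ by group] at h1
  -- a power restricting to `β` modulo `Q`
  have hlN : rP l ∈ NQ := hl.2
  have hcl : QuotientGroup.mk' (Q.subgroupOf NQ) ⟨β, hβNQ⟩ =
      QuotientGroup.mk' (Q.subgroupOf NQ) ⟨rP l, hlN⟩ := by
    have hrk : rP (k : A) ∈ Q := hk
    have hrr : rP r ∈ Q := hcK₀ hr
    have he : β = rP (k : A) * rP l * rP r := by
      rw [← hrf, ← map_mul, ← map_mul, mul_assoc]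
      refine congrArg rP ?_
      exact (congrArg Subtype.val hkf).symm.trans (congrArg ((k : A) * ·) hlr.symm)
    have h1 : (⟨β, hβNQ⟩ : NQ) = ⟨_, (Subgroup.le_normalizer : Q ≤ NQ) hrk⟩ * ⟨rP l, hlN⟩ *
        ⟨_, (Subgroup.le_normalizer : Q ≤ NQ) hrr⟩ := Subtype.ext he
    rw [h1, map_mul, map_mul, (QuotientGroup.eq_one_iff _).2 hrk |> fun h =>
      (show QuotientGroup.mk' (Q.subgroupOf NQ) ⟨_, (Subgroup.le_normalizer : Q ≤ NQ) hrk⟩ = 1
        from h), (show QuotientGroup.mk' (Q.subgroupOf NQ)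
          ⟨_, (Subgroup.le_normalizer : Q ≤ NQ) hrr⟩ = 1 from
        (QuotientGroup.eq_one_iff _).2 hrr), one_mul, mul_one]
  obtain ⟨n, hn, hβn⟩ := H86.exists_exp_coprime l β hβc
  set e := l ^ n with he
  set γ := rP e with hγ
  have hγQ : γ * β⁻¹ ∈ Q := by
    have hγN : γ ∈ NQ := by
      rw [hγ, he, map_pow]
      exact pow_mem hlN _
    have h1 : QuotientGroup.mk' (Q.subgroupOf NQ) ⟨γ, hγN⟩ =
        QuotientGroup.mk' (Q.subgroupOf NQ) ⟨β, hβNQ⟩ := by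
      rw [show (⟨γ, hγN⟩ : NQ) = ⟨rP l, hlN⟩ ^ n from Subtype.ext (map_pow rP l n), map_pow, ← hcl,
        ← map_pow]
      exact congrArg _ (Subtype.ext hβn)
    have h2 : QuotientGroup.mk' (Q.subgroupOf NQ) (⟨γ, hγN⟩ * ⟨β, hβNQ⟩⁻¹) = 1 := by
      rw [map_mul, map_inv, h1, mul_inv_cancel]
    exact (QuotientGroup.eq_one_iff (N := Q.subgroupOf NQ) _).1 h2
  have heL : e ∈ L₁ := pow_mem hl.1 _
  have hec : ∀ z ∈ c.range, e * z * e⁻¹ ∈ c.range := by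
    rw [he]
    clear * - hlc
    induction n with
    | zero => intro z hz; simpa using hz
    | succ n ih =>
      intro z hz
      rw [pow_succ', show l * l ^ n * z * (l * l ^ n)⁻¹ = l * (l ^ n * z * (l ^ n)⁻¹) * l⁻¹ by group]
      exact hlc _ (ih z hz)
  -- extension to `W`
  have heF : H85.IsFIso F (e : MulAut X₁) :=
    (H85.mem_autGroup hX₁S).1 (H85.mem_pStab.1 e.2).1
  obtain ⟨ψe, hψe, hψee⟩ := H85.receptive_extend (H85.receptive_of_fullyCentralized hS hF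
    (H85.centric_fullyCentralized hX₁c)) heF
  have hWE : W ≤ extender S X₁ (X₁.subtype.comp (e : MulAut X₁).toMonoidHom) := by
    intro g hg
    refine H85.mem_extender.2 ⟨hWS hg, (hWX hg).2, ?_⟩
    obtain ⟨h, hh⟩ := hec (c ⟨g, hg⟩) ⟨_, rfl⟩
    refine ⟨h, hWS h.2, fun y hy => ?_⟩
    have h4 := congrArg (fun w : MulAut X₁ => ((w ((e : MulAut X₁) y) : X₁) : Ω))
      (congrArg Subtype.val hh)
    simp only [Subgroup.coe_mul, Subgroup.coe_inv, MulAut.mul_apply, MulAut.inv_apply_self] at h4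
    refine Eq.trans ?_ h4.symm
    exact congrArg (fun z : X₁ => ((((e : MulAut X₁) z) : X₁) : Ω)) (Subtype.ext rfl)
  set ψh := ψe.comp (Subgroup.inclusion hWE) with hψh
  have hψhF : ψh ∈ F.Hom W := H85.restrict hψe hWE
  have hψhe : ∀ y : X₁, ψh (Subgroup.inclusion hX₁W y) = ((e : MulAut X₁) y : Ω) :=
    fun y => hψee y y.2 _
  have hψW : ∀ g, ψh g ∈ W := by
    intro g
    obtain ⟨h, hh⟩ := hec (c g) ⟨_, rfl⟩
    have hconj : ∀ y : X₁, ψh g * ((e : MulAut X₁) y : Ω) * (ψh g)⁻¹ =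
        (h : Ω) * ((e : MulAut X₁) y : Ω) * (h : Ω)⁻¹ := by
      intro y
      have hy : (g : Ω) * (y : Ω) * (g : Ω)⁻¹ ∈ X₁ :=
        H85.conj_mem_of_mem_normalizer (hWX g.2).2 y.2
      have h1 := congrArg (fun w : MulAut X₁ => ((w ((e : MulAut X₁) y) : X₁) : Ω))
        (congrArg Subtype.val hh)
      simp only [Subgroup.coe_mul, Subgroup.coe_inv, MulAut.mul_apply, MulAut.inv_apply_self] at h1
      refine Eq.trans ?_ h1.symm
      rw [← hψhe y, ← map_inv, ← map_mul, ← map_mul]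
      refine Eq.trans ?_ (hψhe (((c g : A) : MulAut X₁) y))
      exact congrArg ψh (Subtype.ext rfl)
    have hP : ∀ y : P, ψh g * (y : Ω) * (ψh g)⁻¹ = (h : Ω) * (y : Ω) * (h : Ω)⁻¹ := by
      intro y
      obtain ⟨z, hz⟩ := (e : MulAut X₁).surjective ⟨y, (hPP₁.trans hP₁X₁) y.2⟩
      have := hconj z
      rwa [hz] at this
    have hNP : ψh g ∈ normalizerIn S P := ⟨H85.map_mem hψhF g,
      H85.mem_normalizer_of_conj fun y hy => by
        rw [hP ⟨y, hy⟩]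
        exact H85.conj_mem_of_mem_normalizer (hWN h.2).2 hy⟩
    refine hWmem _ hNP ?_
    rw [show H85.conjAut S P ⟨ψh g, hNP⟩ = H85.conjAut S P ⟨h, hWN h.2⟩ from
      MulEquiv.ext fun y => Subtype.ext (hP y)]
    exact hWQ h
  have hψr : ψh.range = W :=
    H86.range_eq_self_of_le F hψhF (by rintro _ ⟨g, rfl⟩; exact hψW g)
  let ψ₀ : MulAut W := H85.isoOf ψh hψhF hψr
  have hψ₀ : ψ₀ ∈ F.autGroup W := (H85.mem_autGroup hWS).2 (H85.isFIso_isoOf ψh hψhF hψr)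
  have hpow : ∀ (k : ℕ) (y : X₁), ((ψ₀ ^ k) (Subgroup.inclusion hX₁W y) : Ω) =
      (((e : MulAut X₁) ^ k) y : Ω) := by
    intro k
    induction k with
    | zero => intro y; rfl
    | succ k ih =>
      intro y
      rw [pow_succ', pow_succ', MulAut.mul_apply, MulAut.mul_apply]
      rw [show (ψ₀ ^ k) (Subgroup.inclusion hX₁W y) =
        Subgroup.inclusion hX₁W (((e : MulAut X₁) ^ k) y) from Subtype.ext (ih y)]
      exact hψhe _
  obtain ⟨j, hj, hje⟩ := H86.exists_exp_coprime (p := p) ψ₀ (e : MulAut X₁)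
    (by rw [Subgroup.orderOf_coe]; exact hn)
  set ψ := ψ₀ ^ j with hψ
  have hψF : ψ ∈ F.autGroup W := pow_mem hψ₀ _
  have hψe' : ∀ y : X₁, (ψ (Subgroup.inclusion hX₁W y) : Ω) = ((e : MulAut X₁) y : Ω) := fun y => by
    rw [hψ, hpow, hje]
  have hψc : ∀ g : W, c (ψ g) = e * c g * e⁻¹ := by
    intro g
    refine Subtype.ext (MulEquiv.ext fun y => ?_)
    obtain ⟨z, rfl⟩ := (e : MulAut X₁).surjective y
    refine Subtype.ext ?_
    simp only [Subgroup.coe_mul, Subgroup.coe_inv, MulAut.mul_apply, MulAut.inv_apply_self]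
    show ((ψ g : W) : Ω) * ((e : MulAut X₁) z : Ω) * ((ψ g : W) : Ω)⁻¹ = _
    rw [← hψe' z, ← Subgroup.coe_inv, ← Subgroup.coe_mul, ← Subgroup.coe_mul, ← map_inv, ← map_mul,
      ← map_mul, ← hψe']
    exact congrArg (fun w => ((ψ w : W) : Ω)) (Subtype.ext rfl)
  -- modulo `TN`
  haveI : (TN.subgroupOf S).Normal := H86.stronglyClosed_subgroupOf_normal F hTN
  let θ : W →* S ⧸ TN.subgroupOf S :=
    (QuotientGroup.mk' (TN.subgroupOf S)).comp (Subgroup.inclusion hWS)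
  have hθ1 : ∀ g : W, θ g = 1 ↔ (g : Ω) ∈ TN := fun g => by
    show (QuotientGroup.mk (Subgroup.inclusion hWS g) : S ⧸ TN.subgroupOf S) = 1 ↔ _
    rw [QuotientGroup.eq_one_iff]
    rfl
  have hθN : ∀ k : ℕ, ∀ g : W, (g : Ω) ∈ TN → θ ((ψ ^ k) g) = 1 := fun k g hg =>
    (hθ1 _).2 (hTN.2 (W ⊓ TN) inf_le_right _
      (H85.restrict ((H85.mem_autGroup hWS).1 (pow_mem hψF k)) inf_le_left) ⟨g, g.2, hg⟩)
  have hθX : ∀ k : ℕ, ∀ g : W, (g : Ω) ∈ X₁ → θ ((ψ ^ k) g) = θ g := by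
    intro k g hg
    have htm : ((e : MulAut X₁) ^ (j * k)) ∈ H86.trivMod P₁ X₁ := pow_mem heL.1 _
    have h1 : θ (g⁻¹ * (ψ ^ k) g) = 1 := by
      rw [hθ1, Subgroup.coe_mul, Subgroup.coe_inv, hψ, ← pow_mul,
        show g = Subgroup.inclusion hX₁W ⟨g, hg⟩ from rfl, hpow]
      exact hP₁N (htm ⟨g, hg⟩)
    rwa [map_mul, map_inv, inv_mul_eq_one, eq_comm] at h1
  have hfix : ∀ cc : W, (cc : Ω) ∈ centralizerIn S P → θ (ψ cc) = θ cc := by
    intro cc hcc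
    set u := cc⁻¹ * ψ cc with hu
    have hψcc : (ψ cc : Ω) ∈ centralizerIn S P := by
      refine H85.mem_centralizerIn.2 ⟨hWS (ψ cc).2, fun y hy => ?_⟩
      obtain ⟨z, hz⟩ := γ.surjective ⟨y, hy⟩
      have hy' : y = (ψ (Subgroup.inclusion hPW z) : Ω) :=
        ((hψe' ⟨z, (hPP₁.trans hP₁X₁) z.2⟩).trans (congrArg (fun w : P => (w : Ω)) hz :)).symm
      rw [hy', ← Subgroup.coe_mul, ← Subgroup.coe_mul, ← map_mul, ← map_mul]
      exact congrArg (fun w => ((ψ w : W) : Ω))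
        (Subtype.ext ((H85.mem_centralizerIn.1 hcc).2 z z.2))
    have huC : (u : Ω) ∈ centralizerIn S P := by
      rw [hu, Subgroup.coe_mul, Subgroup.coe_inv]
      exact mul_mem (inv_mem hcc) hψcc
    have huL : c u ∈ L₁ := by
      have h0 : c u = (c cc)⁻¹ * e * ((c cc)⁻¹)⁻¹ * e⁻¹ := by
        rw [hu, map_mul, map_inv, hψc]
        group
      rw [h0]
      exact L₁.mul_mem (hL₁n.conj_mem _ heL _) (L₁.inv_mem heL)
    set v := r₁ (c u) with hv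
    have hvfix : ∀ y : P₁, (y : Ω) ∈ P → (v y : Ω) = y := fun y hy => by
      show (u : Ω) * (y : Ω) * (u : Ω)⁻¹ = y
      rw [← (H85.mem_centralizerIn.1 huC).2 y hy, mul_inv_cancel_right]
    have hvA : v ∈ H85.pStab N pinN.le_S P :=
      H85.mem_pStab.2 ⟨huL.2, fun y hy => by rw [hvfix y hy]; exact hy⟩
    have hvp : IsPGroup p (Subgroup.zpowers v) := by
      rw [show Subgroup.zpowers v = (Subgroup.zpowers u).map (r₁.comp c) from
        (MonoidHom.map_zpowers (r₁.comp c) u).symm]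
      exact ((hS.to_le hWS).to_subgroup _).map _
    obtain ⟨a, ha, hat⟩ := pinN.stab_conj hTNp hN.1.1 hPnN (Subgroup.zpowers_le.2 hvA) hvp
    obtain ⟨t, ht, hte⟩ := hat v (Subgroup.mem_zpowers v)
    have htC : t ∈ centralizerIn TN P := by
      refine H85.mem_centralizerIn.2 ⟨ht.1, fun y hy => ?_⟩
      have h1 : ((a⁻¹ ⟨y, hPP₁ hy⟩ : P₁) : Ω) ∈ P :=
        (H85.mem_pStab.1 (inv_mem ha)).2 _ hy
      have h2 := hte ⟨y, hPP₁ hy⟩
      rw [MulAut.mul_apply, MulAut.mul_apply, show v (a⁻¹ ⟨y, hPP₁ hy⟩) = a⁻¹ ⟨y, hPP₁ hy⟩ from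
        Subtype.ext (hvfix _ h1), MulAut.apply_inv_self] at h2
      exact (eq_mul_inv_iff_mul_eq.1 h2 : y * t = t * y)
    have htP₁ : t ∈ P₁ := Subgroup.mem_sup_right htC
    set t' := (a⁻¹ : MulAut P₁) ⟨t, htP₁⟩ with ht'
    have hvt : ∀ y : P₁, v y = t' * y * t'⁻¹ := by
      intro y
      refine a.injective ?_
      rw [map_mul, map_mul, map_inv, ht', MulAut.apply_inv_self]
      refine Subtype.ext ?_
      have h2 := hte (a y)
      rw [MulAut.mul_apply, MulAut.mul_apply, MulAut.inv_apply_self] at h2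
      exact h2
    have hwC : (t' : Ω)⁻¹ * (u : Ω) ∈ centralizerIn S P₁ := by
      refine H85.mem_centralizerIn.2 ⟨mul_mem (inv_mem (hP₁S t'.2)) (hWS u.2), fun y hy => ?_⟩
      have h1 : (u : Ω) * y * (u : Ω)⁻¹ = (t' : Ω) * y * (t' : Ω)⁻¹ :=
        congrArg Subtype.val (hvt ⟨y, hy⟩)
      calc y * ((t' : Ω)⁻¹ * u) = (t' : Ω)⁻¹ * ((t' : Ω) * y * (t' : Ω)⁻¹) * u := by group
        _ = (t' : Ω)⁻¹ * ((u : Ω) * y * (u : Ω)⁻¹) * u := by rw [h1]
        _ = (t' : Ω)⁻¹ * u * y := by group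
    let wt : W := ⟨t', hX₁W (hP₁X₁ t'.2)⟩
    let w : W := ⟨(t' : Ω)⁻¹ * u, hX₁W (Subgroup.mem_sup_right hwC)⟩
    have hcc' : ψ cc = cc * (wt * w) := by
      refine Subtype.ext ?_
      simp only [hu, wt, w, Subgroup.coe_mul, Subgroup.coe_inv]
      group
    have hk : ∀ k : ℕ, θ ((ψ ^ k) cc) = θ cc * θ w ^ k := by
      intro k
      induction k with
      | zero => simp
      | succ k ih =>
        rw [pow_succ, MulAut.mul_apply, hcc', map_mul, map_mul, map_mul, map_mul, ih,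
          hθN k wt (hP₁N t'.2), one_mul, hθX k w (Subgroup.mem_sup_right hwC), pow_succ, mul_assoc]
    have hm := hk (orderOf ψ)
    rw [pow_orderOf_eq_one, MulAut.one_apply] at hm
    have hwm : θ w ^ orderOf ψ = 1 := by simpa using hm.symm
    obtain ⟨i, hi⟩ := (hS.to_quotient (TN.subgroupOf S)) (θ w)
    have hord : orderOf (θ w) = 1 := Nat.eq_one_of_dvd_coprimes (Nat.Coprime.pow_right i hj)
      (orderOf_dvd_of_pow_eq_one hwm) (orderOf_dvd_of_pow_eq_one hi)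
    have h1 := hk 1
    rwa [pow_one, pow_one, orderOf_eq_one_iff.1 hord, mul_one] at h1
  -- conclusion
  obtain ⟨x₁, hx₁, hx₁e⟩ := H85.mem_autInducedBy.1 (hQM hx)
  obtain ⟨x₂, hx₂, hx₂e⟩ := H85.mem_autInducedBy.1 (hQN hx)
  have hx₁N : x₁ ∈ normalizerIn S P := ⟨hTM.1 hx₁, H85.mem_normalizer_of_induced hx₁e⟩
  have hx₂N : x₂ ∈ normalizerIn S P := ⟨hTNS hx₂, H85.mem_normalizer_of_induced hx₂e⟩
  have hx₁c : H85.conjAut S P ⟨x₁, hx₁N⟩ = x := MulEquiv.ext fun y => Subtype.ext (hx₁e y).symm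
  have hx₂c : H85.conjAut S P ⟨x₂, hx₂N⟩ = x := MulEquiv.ext fun y => Subtype.ext (hx₂e y).symm
  let g₁ : W := ⟨x₁, hWmem x₁ hx₁N (hx₁c ▸ hx)⟩
  let g₂ : W := ⟨x₂, hWmem x₂ hx₂N (hx₂c ▸ hx)⟩
  have hcc : ((g₂⁻¹ * g₁ : W) : Ω) ∈ centralizerIn S P := by
    refine (H85.mem_conjAut_ker (g := (⟨x₂, hx₂N⟩ : normalizerIn S P)⁻¹ * ⟨x₁, hx₁N⟩)).1 ?_
    rw [MonoidHom.mem_ker, map_mul, map_inv, hx₁c, hx₂c, inv_mul_cancel]
  set z := g₁⁻¹ * ψ g₁ with hz
  have hzM : (z : Ω) ∈ TM := by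
    rw [hz, Subgroup.coe_mul, Subgroup.coe_inv]
    exact TM.mul_mem (TM.inv_mem hx₁) (hTM.2 (W ⊓ TM) inf_le_right _
      (H85.restrict ((H85.mem_autGroup hWS).1 hψF) inf_le_left) ⟨g₁, g₁.2, hx₁⟩)
  have hzN : (z : Ω) ∈ TN := by
    rw [← hθ1, hz, map_mul, map_inv, inv_mul_eq_one]
    have h2 : θ (ψ g₂) = 1 := by
      have := hθN 1 g₂ hx₂
      rwa [pow_one] at this
    have h3 : θ g₂ = 1 := (hθ1 g₂).2 hx₂
    have key : ∀ d : W, θ (ψ d) = θ d → θ (g₂ * d) = θ (ψ (g₂ * d)) := fun d hd => by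
      rw [map_mul ψ g₂ d, map_mul θ g₂ d, map_mul θ (ψ g₂) (ψ d), h2, h3, hd]
    have := key _ (hfix _ hcc)
    rwa [mul_inv_cancel_left] at this
  have hzx : H85.conjAut S P ⟨z, hWN z.2⟩ = x⁻¹ * (γ * x * γ⁻¹) := by
    rw [← hrc, hz, map_mul, map_inv, hψc, map_mul, map_inv, map_mul, map_mul, map_inv, hrc]
    rw [show H85.conjAut S P ⟨(g₁ : Ω), hWN g₁.2⟩ = x from hx₁c]
  have hzY : x⁻¹ * (γ * x * γ⁻¹) ∈ autInducedBy (TM ⊓ TN) P := by
    rw [← hzx]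
    exact H85.mem_autInducedBy.2 ⟨z, ⟨hzM, hzN⟩, fun y => rfl⟩
  set y := β * x * β⁻¹ with hy
  set q₀ := γ * β⁻¹ with hq₀
  have hcomm := commutator_mem_induced hTM hTN (hQM hγQ) (hQN (Q.inv_mem (hβQ x hx)))
  have hfin : x⁻¹ * β * x * β⁻¹ =
      x⁻¹ * (γ * x * γ⁻¹) * (q₀ * y⁻¹ * q₀⁻¹ * (y⁻¹)⁻¹) := by
    rw [hq₀, hy]
    group
  rw [hfin]
  exact mul_mem hzY hcomm

end H87
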